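import Cfsg.Agent.Lib.ThreePrime.Block.Transitive
import Cfsg.Agent.Lib.Perm.DerangeIndex.Arith
import Cfsg.Agent.Lib.Components.Char

/-!
Owner: helper4.  An automorphism of primitive prime order on a small two-module and a group of operators.

* `card_mul_le`: commuting conjugates with fixed subgroups meeting trivially
* `Act.count`: the conjugates by the powers of one element
* `Act.moved_core`, `Act.fixed_lcore`: the cores are fixed, up to one irreducible case
* `Act.fixed_all`: the whole group is fixed once the displacements lie in a fixed abelian normal subgroup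
-/

set_option autoImplicit false
set_option linter.all false

namespace CfsgLib.ThreePrime.Block

open Subgroup

section Indep

variable {V : Type*} [CommGroup V] [Finite V]

theorem card_mul_le {l k d : ℕ} (hl : l.Prime) (hl2 : l ≠ 2) (hV : Nat.card V = 2 ^ d) (hk : 0 < k)
    (S : Finset (MulAut V)) (hpow : ∀ s ∈ S, s ^ l = 1) (hcomm : ∀ s ∈ S, ∀ t ∈ S, s * t = t * s)
    (hfix : ∀ s ∈ S, Nat.card {v : V // s v = v} = 2 ^ k)
    (hdis : ∀ s ∈ S, ∀ t ∈ S, s ≠ t → ∀ v, s v = v → t v = v → v = 1) : S.card * k ≤ d := by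
  classical
  haveI := Fact.mk hl
  haveI : Finite (MulAut V) := Finite.of_injective _ DFunLike.coe_injective
  let A : Subgroup (MulAut V) := closure (S : Set (MulAut V))
  have hAc : ∀ a ∈ A, ∀ b ∈ A, a * b = b * a := by
    intro a ha b hb
    have hb' : A ≤ centralizer (S : Set (MulAut V)) :=
      (closure_le _).2 fun x hx => mem_centralizer_iff.2 fun y hy => hcomm y hy x hx
    have hcc : A ≤ centralizer (A : Set (MulAut V)) :=
      (closure_le _).2 fun x hx => mem_centralizer_iff.2 fun y hy =>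
        (mem_centralizer_iff.1 (hb' hy) x hx).symm
    exact mem_centralizer_iff.1 (hcc hb) a ha
  letI : CommGroup A := { (inferInstance : Group A) with
    mul_comm := fun a b => Subtype.ext (hAc a a.2 b b.2) }
  have hAl : ∀ a ∈ A, a ^ l = 1 := by
    intro a ha
    induction ha using closure_induction with
    | mem x hx => exact hpow x hx
    | one => exact one_pow l
    | mul x y hx hy ex ey => rw [(show Commute x y from hAc x hx y hy).mul_pow, ex, ey, one_mul]
    | inv x _ ex => rw [inv_pow, ex, inv_one]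
  have hAp : IsPGroup l A := fun a => ⟨1, Subtype.ext (by
    rw [pow_one, SubgroupClass.coe_pow, OneMemClass.coe_one]; exact hAl a a.2)⟩
  have hco : (Nat.card A).Coprime (Nat.card V) := by
    obtain ⟨j, hj⟩ := IsPGroup.iff_card.1 hAp
    rw [hj, hV]
    exact ((Nat.coprime_primes hl Nat.prime_two).2 hl2).pow _ _
  let B : {s // s ∈ S} → Subgroup A := fun s => zpowers ⟨s.1, subset_closure s.2⟩
  have hB : ∀ (s : {s // s ∈ S}) (v : V),
      v ∈ CfsgLib.Perm.DerangeIndex.fixSub A.subtype (B s) ↔ s.1 v = v := by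
    intro s v
    refine ⟨fun h => h _ (mem_zpowers _), fun h b hb => ?_⟩
    obtain ⟨i, hi⟩ := mem_zpowers_iff.1 hb
    have hs : s.1 ∈ MulAction.stabilizer (MulAut V) v := h
    show (b : MulAut V) v = v
    rw [← hi, SubgroupClass.coe_zpow]
    exact MulAction.mem_stabilizer_iff.1 (zpow_mem hs i)
  have hcard : ∀ s, Nat.card (CfsgLib.Perm.DerangeIndex.fixSub A.subtype (B s)) = 2 ^ k := fun s => by
    rw [← hfix s.1 s.2]
    exact Nat.card_congr (Equiv.subtypeEquivRight (hB s))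
  have hinj : Function.Injective B := by
    intro s t e
    by_contra hne
    obtain ⟨⟨v, hv⟩, hv1⟩ : ∃ v : {v : V // s.1 v = v}, v.1 ≠ 1 := by
      by_contra h
      push Not at h
      haveI : Subsingleton {v : V // s.1 v = v} :=
        ⟨fun a b => Subtype.ext ((h a).trans (h b).symm)⟩
      have := Finite.card_le_one_iff_subsingleton.2 this
      rw [hfix s.1 s.2] at this
      have := Nat.one_lt_two_pow hk.ne'
      omega
    exact hv1 (hdis s.1 s.2 t.1 t.2 (fun h => hne (Subtype.ext h)) v hv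
      ((hB t v).1 (e ▸ (hB s v).2 hv)))
  have h := CfsgLib.Perm.DerangeIndex.prod_card_fix_le A.subtype hco (Finset.univ.image B) (by
    intro B1 h1 B2 h2 hne v hv1 hv2
    obtain ⟨s, -, rfl⟩ := Finset.mem_image.1 h1
    obtain ⟨t, -, rfl⟩ := Finset.mem_image.1 h2
    exact hdis s.1 s.2 t.1 t.2 (fun e => hne (congrArg B (Subtype.ext e))) v ((hB s v).1 hv1)
      ((hB t v).1 hv2))
  rw [Finset.prod_image fun a _ b _ e => hinj e, Finset.prod_congr rfl fun s _ => hcard s,
    Finset.prod_const, Finset.card_univ, Fintype.card_coe, hV, ← pow_mul] at h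
  rw [mul_comm]
  exact (Nat.pow_le_pow_iff_right (by norm_num)).1 h

end Indep

/-- `σ` of primitive order `l` acts compatibly with `θ`; the odd operators are semiregular on its fixed points. -/
structure Act (X V : Type*) [Group X] [CommGroup V] (l n k d : ℕ) where
  ρ : X →* MulAut V
  θ : MulAut X
  σ : MulAut V
  inj : Function.Injective ρ
  three_le : 3 ≤ n
  odd : Odd n
  prim : IsPrim l n
  pos : 0 < k
  k_le : k ≤ n
  d_le : d ≤ 2 * n + k
  elem : ∀ v : V, v ^ 2 = 1
  card : Nat.card V = 2 ^ d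
  θl : θ ^ l = 1
  σl : σ ^ l = 1
  comp : ∀ y v, σ (ρ y v) = ρ (θ y) (σ v)
  fix : Nat.card {v : V // σ v = v} = 2 ^ k
  semi : ∀ y, Odd (orderOf y) → y ≠ 1 → ∀ v, σ v = v → ρ y v = v → v = 1

namespace Act

variable {X V : Type*} [Group X] [Finite X] [CommGroup V] [Finite V] {l n k d : ℕ}

omit [Finite X] [Finite V] in
theorem l_odd (D : Act X V l n k d) : l ≠ 2 := D.prim.ne_two (by have := D.three_le; omega)

omit [Finite X] [Finite V] in
theorem l_le (D : Act X V l n k d) : 2 * n + 1 ≤ l := D.prim.le (by have := D.three_le; omega) D.odd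

omit [Finite V] in
theorem odd_of_pGroup (D : Act X V l n k d) {P : Subgroup X} (hP : IsPGroup l P) {y : X} (hy : y ∈ P) :
    Odd (orderOf y) := by
  haveI := Fact.mk D.prim.prime
  obtain ⟨j, hj⟩ := hP ⟨y, hy⟩
  refine (((D.prim.prime.odd_of_ne_two D.l_odd).pow : Odd (l ^ j))).of_dvd_nat
    (orderOf_dvd_of_pow_eq_one ?_)
  exact congrArg Subtype.val hj

omit [Finite X] in
/-- A fixed element of order `l` gives `k = n`. -/
theorem k_eq (D : Act X V l n k d) {z : X} (hz : D.θ z = z) (hzl : z ^ l = 1) (hz1 : z ≠ 1) : k = n := by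
  classical
  have hodd : Odd (orderOf z) := (D.prim.prime.odd_of_ne_two D.l_odd).of_dvd_nat
    (orderOf_dvd_of_pow_eq_one hzl)
  have hmap : ∀ v, D.σ v = v → D.σ (D.ρ z v) = D.ρ z v := fun v hv => by rw [D.comp, hz, hv]
  let Fx := {v : {v : V // D.σ v = v} // v.1 ≠ 1}
  let f : Fx → Fx := fun v => ⟨⟨D.ρ z v.1.1, hmap _ v.1.2⟩, fun e => v.2
    ((D.ρ z).injective (e.trans (map_one (D.ρ z)).symm))⟩
  have hit : ∀ (i : ℕ) (v : Fx), (f^[i] v).1.1 = D.ρ (z ^ i) v.1.1 := by
    intro i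
    induction i with
    | zero => intro v; rw [pow_zero, map_one]; rfl
    | succ i ih =>
      intro v
      rw [Function.iterate_succ_apply', pow_succ', map_mul, MulAut.mul_apply, ← ih]
  have hcard : Nat.card Fx = 2 ^ k - 1 := by
    haveI := Fintype.ofFinite {v : V // D.σ v = v}
    rw [← D.fix, Nat.card_congr (Equiv.subtypeEquivRight fun v =>
      (⟨fun h e => h (congrArg Subtype.val e), fun h e => h (Subtype.ext e)⟩ :
        v.1 ≠ 1 ↔ v ≠ ⟨1, map_one D.σ⟩) : Fx ≃ _)]
    rw [Nat.card_eq_fintype_card, Fintype.card_subtype_compl, Fintype.card_subtype_eq,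
      ← Nat.card_eq_fintype_card]
  have hd : l ∣ 2 ^ k - 1 := by
    rw [← hcard]
    by_contra hnd
    obtain ⟨v, hv⟩ := exists_fixed_of_not_dvd f D.prim.prime (funext fun v => Subtype.ext
      (Subtype.ext (by rw [hit, hzl, map_one]; rfl))) hnd
    exact v.2 (D.semi z hodd hz1 v.1.1 v.1.2 (congrArg (fun w : Fx => w.1.1) hv))
  exact le_antisymm D.k_le (Nat.le_of_dvd D.pos ((D.prim.dvd_iff (by have := D.three_le; omega)).1 hd))

omit [Finite V] in
theorem conj_eq (D : Act X V l n k d) (x : X) :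
    D.ρ x * D.σ * (D.ρ x)⁻¹ = D.ρ (x * (D.θ x)⁻¹) * D.σ := by
  rw [map_mul, map_inv, mul_assoc, mul_assoc, mul_right_inj, eq_inv_mul_iff_mul_eq, ← mul_assoc,
    mul_inv_eq_iff_eq_mul]
  exact MulEquiv.ext fun v => (D.comp x v).symm

/-- The conjugates of `σ` by the powers of `u` commute when the displacements are fixed and commute. -/
theorem count (D : Act X V l n k d) (u : X) (A : Subgroup X) (hc : ∀ a ∈ A, ∀ b ∈ A, a * b = b * a)
    (hA : ∀ a ∈ A, D.θ a = a) (hodd : ∀ a ∈ A, Odd (orderOf a))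
    (ha : ∀ j : ℕ, u ^ j * (D.θ (u ^ j))⁻¹ ∈ A) :
    ∃ m, 0 < m ∧ D.θ (u ^ m) = u ^ m ∧ m ∣ orderOf u ∧ m * k ≤ d := by
  classical
  have hex : ∃ m, 0 < m ∧ D.θ (u ^ m) = u ^ m :=
    ⟨orderOf u, orderOf_pos u, by rw [pow_orderOf_eq_one, map_one]⟩
  obtain ⟨hm0, hmfix⟩ := Nat.find_spec hex
  set m := Nat.find hex with hm
  refine ⟨m, hm0, hmfix, ?_, ?_⟩
  · rw [Nat.dvd_iff_mod_eq_zero]
    by_contra hne
    refine Nat.find_min hex (m := orderOf u % m) (Nat.mod_lt _ hm0) ⟨Nat.pos_of_ne_zero hne, ?_⟩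
    have e : u ^ (orderOf u % m) = ((u ^ m) ^ (orderOf u / m))⁻¹ := by
      rw [eq_inv_iff_mul_eq_one, ← pow_mul, ← pow_add, Nat.mod_add_div, pow_orderOf_eq_one]
    rw [e, map_inv, map_pow, hmfix]
  let s : ℕ → MulAut V := fun j => D.ρ (u ^ j * (D.θ (u ^ j))⁻¹) * D.σ
  have hinj : Set.InjOn s (Finset.range m) := by
    intro i hi j hj e
    have e' := D.inj (mul_right_cancel e)
    rw [Finset.mem_coe, Finset.mem_range] at hi hj
    by_contra hne
    wlog hij : i < j generalizing i j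
    · exact this hj hi e.symm e'.symm (Ne.symm hne) (by omega)
    refine Nat.find_min hex (m := j - i) (by omega) ⟨by omega, ?_⟩
    have h2 : u ^ j = u ^ i * u ^ (j - i) := by rw [← pow_add, Nat.add_sub_cancel' hij.le]
    rw [h2, map_mul, mul_inv_rev, mul_assoc, mul_right_inj, ← mul_assoc] at e'
    rw [eq_comm, mul_eq_right, mul_inv_eq_one] at e'
    exact e'.symm
  have key := card_mul_le D.prim.prime D.l_odd D.card D.pos ((Finset.range m).image s) ?_ ?_ ?_ ?_
  · rwa [Finset.card_image_of_injOn hinj, Finset.card_range] at key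
  · intro t ht
    obtain ⟨j, -, rfl⟩ := Finset.mem_image.1 ht
    show (D.ρ (u ^ j * (D.θ (u ^ j))⁻¹) * D.σ) ^ l = 1
    rw [← D.conj_eq, conj_pow, D.σl, mul_one, mul_inv_cancel]
  · intro t ht t' ht'
    obtain ⟨i, -, rfl⟩ := Finset.mem_image.1 ht
    obtain ⟨j, -, rfl⟩ := Finset.mem_image.1 ht'
    have hσ : ∀ a ∈ A, D.σ * D.ρ a = D.ρ a * D.σ := fun a ha' =>
      MulEquiv.ext fun v => by
        show D.σ (D.ρ a v) = D.ρ a (D.σ v)
        rw [D.comp, hA a ha']
    show D.ρ _ * D.σ * (D.ρ _ * D.σ) = D.ρ _ * D.σ * (D.ρ _ * D.σ)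
    rw [mul_assoc, ← mul_assoc D.σ, hσ _ (ha j), mul_assoc (D.ρ _) D.σ (D.ρ _ * D.σ),
      ← mul_assoc D.σ, hσ _ (ha i), ← mul_assoc, ← mul_assoc, ← mul_assoc, ← mul_assoc, ← map_mul,
      ← map_mul, hc _ (ha i) _ (ha j)]
  · intro t ht
    obtain ⟨j, -, rfl⟩ := Finset.mem_image.1 ht
    rw [← D.fix]
    have e : ∀ w, s j (D.ρ (u ^ j) w) = D.ρ (u ^ j) (D.σ w) := fun w => by
      show (D.ρ (u ^ j * (D.θ (u ^ j))⁻¹) * D.σ) (D.ρ (u ^ j) w) = _
      rw [← D.conj_eq, MulAut.mul_apply, MulAut.mul_apply, MulAut.inv_apply_self]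
    refine (Nat.card_congr (Equiv.subtypeEquiv (D.ρ (u ^ j)).toEquiv fun w => ?_)).symm
    show D.σ w = w ↔ s j (D.ρ (u ^ j) w) = D.ρ (u ^ j) w
    rw [e, (D.ρ (u ^ j)).injective.eq_iff]
  · intro t ht t' ht' hne v hv hv'
    obtain ⟨i, -, rfl⟩ := Finset.mem_image.1 ht
    obtain ⟨j, -, rfl⟩ := Finset.mem_image.1 ht'
    set a := u ^ i * (D.θ (u ^ i))⁻¹ with hadef
    set b := u ^ j * (D.θ (u ^ j))⁻¹ with hbdef
    change D.ρ a (D.σ v) = v at hv
    change D.ρ b (D.σ v) = v at hv'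
    set x := u ^ i with hx
    let w := D.ρ x⁻¹ v
    have hw : D.σ w = w := by
      show D.σ (D.ρ x⁻¹ v) = D.ρ x⁻¹ v
      rw [D.comp, map_inv D.θ]
      conv_rhs => rw [← hv, ← MulAut.mul_apply, ← map_mul, hadef, inv_mul_cancel_left]
    have hfix : D.ρ (x⁻¹ * (b * a⁻¹) * x) w = w := by
      show D.ρ _ (D.ρ x⁻¹ v) = D.ρ x⁻¹ v
      rw [← MulAut.mul_apply, ← map_mul, mul_inv_cancel_right, map_mul, MulAut.mul_apply]
      congr 1
      conv_lhs => rw [← hv]
      rw [← MulAut.mul_apply, ← map_mul, inv_mul_cancel_right, hv']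
    have hord : Odd (orderOf (x⁻¹ * (b * a⁻¹) * x)) := by
      have e : x⁻¹ * (b * a⁻¹) * x = MulAut.conj x⁻¹ (b * a⁻¹) := by simp
      rw [e, (MulAut.conj x⁻¹).orderOf_eq]
      exact hodd _ (mul_mem (ha j) (inv_mem (ha i)))
    have h1 : w = 1 := by
      refine D.semi _ hord (fun e => hne ?_) w hw hfix
      have e2 : b * a⁻¹ = 1 := by
        have h := congrArg (fun y => x * y * x⁻¹) e
        simpa [mul_assoc] using h
      rw [mul_inv_eq_one] at e2
      show D.ρ a * D.σ = D.ρ b * D.σ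
      rw [e2]
    exact (D.ρ x⁻¹).injective (h1.trans (map_one _).symm)

/-- A moved core of order prime to `2 * l` forces the irreducible case. -/
theorem moved_core (D : Act X V l n k d) {r : ℕ} (hr : r.Prime) (hr2 : r ≠ 2) (hrl : r ≠ l) {y : X}
    (hy : y ∈ Cfsg.pCore r X) (hne : D.θ y ≠ y) :
    k = 1 ∧ d = 2 * n + 1 ∧ ∃ x, Linear.IsIrr (D.ρ x) ∧ D.ρ x ≠ 1 := by
  classical
  haveI := Fact.mk hr
  set P := Cfsg.pCore r X with hP
  have hPp : IsPGroup r P := CfsgLib.Components.pCore_isPGroup r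
  haveI : Group.IsNilpotent P := hPp.isNilpotent
  have hinv : ∀ u ∈ P, D.θ u ∈ P := fun u hu =>
    (CfsgLib.Components.pCore_map_equiv r D.θ).le (mem_map_of_mem _ hu)
  obtain ⟨e, he⟩ := IsPGroup.iff_card.1 hPp
  have hPodd : Odd (Nat.card P) := he ▸ (hr.odd_of_ne_two hr2).pow
  let E : Size.Data P V l k d :=
    { ρ := D.ρ.comp P.subtype
      θ := CfsgLib.Core.HH.res P D.θ hinv
      σ := D.σ
      odd := hPodd
      cop := he ▸ ((Nat.coprime_primes hr D.prim.prime).2 hrl).pow_left e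
      prime := D.prim.prime
      two := D.l_odd
      elem := D.elem
      card := D.card
      θl := MulEquiv.ext fun z => Subtype.ext (by rw [CfsgLib.Core.HH.res_pow, D.θl]; rfl)
      σl := D.σl
      comp := fun z v => D.comp z v
      fix := D.fix
      pos := D.pos
      semi := fun z hz => D.semi z
        (hPodd.of_dvd_nat (by rw [Subgroup.orderOf_coe]; exact orderOf_dvd_natCard z))
        fun h => hz (Subtype.ext h) }
  have hEne : E.θ ≠ 1 := fun h => hne (show ((E.θ ⟨y, hy⟩ : P) : X) = y by rw [h]; rfl)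
  have hl := D.l_le
  have hd := D.d_le
  have hkn := D.k_le
  have hn := D.three_le
  rcases Size.moved_size E hEne with h | ⟨h1, h2⟩
  · omega
  · have hkl : k * (2 * n + 1) ≤ k * l := Nat.mul_le_mul_left k hl
    have hk1 : k = 1 := by
      have := D.pos
      by_contra hk
      have : 2 * (2 * n + 1) ≤ k * (2 * n + 1) := Nat.mul_le_mul_right _ (by omega)
      have : k * (2 * n) + k = k * (2 * n + 1) := by ring
      omega
    subst hk1
    obtain ⟨x, hx1, hx2⟩ := h2 (by omega)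
    exact ⟨rfl, by omega, x, hx1, hx2⟩

theorem small (D : Act X V l n k d) {m : ℕ} (hkn : k = n) (h : m * k ≤ d) : m ≤ 3 := by
  have := D.d_le
  have := D.three_le
  by_contra hm
  have : 4 * n ≤ m * n := Nat.mul_le_mul_right n (by omega)
  rw [hkn] at *
  omega

/-- The `l`-core is fixed. -/
theorem fixed_lcore (D : Act X V l n k d) {y : X} (hy : y ∈ Cfsg.pCore l X) : D.θ y = y := by
  classical
  haveI := Fact.mk D.prim.prime
  set P := Cfsg.pCore l X with hP
  have hPp : IsPGroup l P := CfsgLib.Components.pCore_isPGroup l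
  let C : Subgroup X := P ⊓ (D.θ : X →* X).eqLocus (MonoidHom.id X)
  have hCfix : ∀ c ∈ C, D.θ c = c := fun c hc => hc.2
  by_contra hne
  have hinv : ∀ u ∈ P, D.θ u ∈ P := fun u hu =>
    (CfsgLib.Components.pCore_map_equiv l D.θ).le (mem_map_of_mem _ hu)
  let N : Subgroup X := P ⊓ normalizer (C : Set X)
  have hCN : C ≤ N := le_inf inf_le_left le_normalizer
  have hNinv : ∀ u ∈ N, D.θ u ∈ N := by
    intro u hu
    refine ⟨hinv u hu.1, mem_normalizer_iff.2 fun c => ?_⟩
    have hC : ∀ c, D.θ c ∈ C ↔ c ∈ C := fun c => ⟨fun h => by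
        have e : c = D.θ c := D.θ.injective h.2.symm
        exact e ▸ h,
      fun h => (hCfix c h).symm ▸ h⟩
    obtain ⟨c, rfl⟩ := D.θ.surjective c
    rw [hC, mem_normalizer_iff.1 hu.2 c, ← map_inv, ← map_mul, ← map_mul, hC]
  haveI : (C.subgroupOf N).Normal := (normal_subgroupOf_iff_le_normalizer hCN).2 inf_le_right
  -- a fixed non-trivial coset
  obtain ⟨u, hu, huC, hθu⟩ : ∃ u ∈ N, u ∉ C ∧ u⁻¹ * D.θ u ∈ C := by
    have hlt : C.subgroupOf N ≠ ⊤ := by
      intro htop
      haveI := hPp.isNilpotent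
      have hCP : C.subgroupOf P ≠ ⊤ := fun e => hne
        ((show (⟨y, hy⟩ : P) ∈ C.subgroupOf P by rw [e]; exact mem_top _).2)
      obtain ⟨w, hwN, hwC⟩ := Set.exists_of_ssubset
        (Group.normalizerCondition_of_isNilpotent _ (lt_top_iff_ne_top.2 hCP))
      refine hwC (mem_subgroupOf.2 (subgroupOf_eq_top.1 htop ⟨w.2, mem_normalizer_iff.2 fun c => ?_⟩))
      constructor
      · intro hc
        exact mem_subgroupOf.1 ((mem_normalizer_iff.1 hwN ⟨c, hc.1⟩).1 (mem_subgroupOf.2 hc))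
      · intro hc
        have h2 : c ∈ P := by
          have := mul_mem (mul_mem (inv_mem w.2) hc.1) w.2
          simpa [mul_assoc] using this
        exact mem_subgroupOf.1 ((mem_normalizer_iff.1 hwN ⟨c, h2⟩).2 (mem_subgroupOf.2 hc))
    let θN : MulAut N := CfsgLib.Core.HH.res N D.θ hNinv
    have hθN : (C.subgroupOf N).map θN.toMonoidHom = C.subgroupOf N := by
      ext z
      constructor
      · rintro ⟨z, hz, rfl⟩
        show (⟨D.θ z, _⟩ : N) ∈ C.subgroupOf N
        refine mem_subgroupOf.2 ?_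
        show D.θ (z : X) ∈ C
        rw [hCfix _ (mem_subgroupOf.1 hz)]
        exact mem_subgroupOf.1 hz
      · exact fun hz => ⟨z, hz, Subtype.ext (hCfix _ (mem_subgroupOf.1 hz))⟩
    let Q := N ⧸ C.subgroupOf N
    let ψ : MulAut Q := QuotientGroup.congr (C.subgroupOf N) (C.subgroupOf N) θN hθN
    have hψ : ∀ (i : ℕ) (z : N), (ψ ^ i) (z : Q) = (((θN ^ i) z : N) : Q) := by
      intro i
      induction i with
      | zero => intro z; rfl
      | succ i ih => intro z; rw [pow_succ', pow_succ', MulAut.mul_apply, ih, MulAut.mul_apply]; rfl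
    let f : {q : Q // q ≠ 1} → {q : Q // q ≠ 1} := fun q =>
      ⟨ψ q.1, fun e => q.2 (ψ.injective (e.trans (map_one ψ).symm))⟩
    have hf : f^[l] = id := by
      have hit : ∀ (i : ℕ) q, (f^[i] q).1 = (ψ ^ i) q.1 := by
        intro i
        induction i with
        | zero => intro q; rfl
        | succ i ih => intro q; rw [Function.iterate_succ_apply', pow_succ', MulAut.mul_apply, ← ih]
      refine funext fun q => Subtype.ext ?_
      obtain ⟨z, hz⟩ := QuotientGroup.mk_surjective q.1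
      rw [hit, ← hz, hψ, CfsgLib.Core.HH.res_pow_prime D.θ D.θl]
      exact hz
    have hnd : ¬ l ∣ Nat.card {q : Q // q ≠ 1} := by
      obtain ⟨e, he⟩ := IsPGroup.iff_card.1 ((hPp.to_le (inf_le_left : N ≤ P)).to_quotient (C.subgroupOf N))
      haveI := Fintype.ofFinite Q
      rw [Nat.card_eq_fintype_card, Fintype.card_subtype_compl, Fintype.card_subtype_eq,
        ← Nat.card_eq_fintype_card, he]
      have he0 : e ≠ 0 := fun h0 => hlt (index_eq_one.1 (by rw [index_eq_card, he, h0, pow_zero]))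
      intro hd
      have h1 : l ∣ l ^ e := dvd_pow_self l he0
      have h2 : 1 ≤ l ^ e := Nat.one_le_pow _ _ D.prim.prime.pos
      exact D.prim.prime.not_dvd_one (by
        have := Nat.dvd_sub h1 hd
        rwa [Nat.sub_sub_self h2] at this)
    obtain ⟨⟨q, hq⟩, hfq⟩ := exists_fixed_of_not_dvd f D.prim.prime hf hnd
    obtain ⟨z, rfl⟩ := QuotientGroup.mk_surjective q
    refine ⟨z, z.2, fun h => hq ((QuotientGroup.eq_one_iff _).2 (mem_subgroupOf.2 h)), ?_⟩
    have h2 : ((θN z : N) : Q) = (z : Q) := congrArg Subtype.val hfq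
    exact mem_subgroupOf.1 (QuotientGroup.eq.1 h2.symm)
  set c := u⁻¹ * D.θ u with hc
  let A : Subgroup X := C ⊓ centralizer (C : Set X)
  have hAfix : ∀ a ∈ A, D.θ a = a := fun a ha => hCfix a ha.1
  have hAcomm : ∀ a ∈ A, ∀ b ∈ A, a * b = b * a := fun a ha b hb =>
    (mem_centralizer_iff.1 hb.2 a ha.1)
  have hcA : c ∈ A := by
    refine ⟨hθu, mem_centralizer_iff.2 fun x hx => ?_⟩
    have h1 : D.θ (u * x * u⁻¹) = u * x * u⁻¹ := hCfix _ ((mem_normalizer_iff.1 hu.2 x).1 hx)
    rw [map_mul, map_mul, map_inv, hCfix x hx, mul_inv_eq_iff_eq_mul] at h1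
    show x * (u⁻¹ * D.θ u) = u⁻¹ * D.θ u * x
    rw [mul_assoc u⁻¹, h1]
    group
  have hc1 : c ≠ 1 := fun e => huC ⟨hu.1, (inv_mul_eq_one.1 e).symm⟩
  have hcl : c ^ l = 1 := by
    have hit : ∀ i : ℕ, (D.θ ^ i) u = u * c ^ i := by
      intro i
      induction i with
      | zero => simp
      | succ i ih =>
        rw [pow_succ', MulAut.mul_apply, ih, map_mul, map_pow, hAfix c hcA, pow_succ', ← mul_assoc,
          hc, mul_inv_cancel_left]
    have h1 := hit l
    rwa [D.θl, MulAut.one_apply, eq_comm, mul_eq_left] at h1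
  have hkn := D.k_eq (hAfix c hcA) hcl hc1
  have hAn : ∀ a ∈ A, ∀ z ∈ N, z * a * z⁻¹ ∈ A := by
    intro a ha z hz
    refine ⟨(mem_normalizer_iff.1 hz.2 a).1 ha.1, mem_centralizer_iff.2 fun x hx => ?_⟩
    have hx' : z⁻¹ * x * z ∈ C := by
      have := (mem_normalizer_iff.1 ((normalizer (C : Set X)).inv_mem hz.2) x).1 hx
      simpa using this
    have h1 := mem_centralizer_iff.1 ha.2 _ hx'
    calc x * (z * a * z⁻¹) = z * (z⁻¹ * x * z * a) * z⁻¹ := by group
      _ = z * (a * (z⁻¹ * x * z)) * z⁻¹ := by rw [h1]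
      _ = z * a * z⁻¹ * x := by group
  have hpw : ∀ j : ℕ, (u ^ j)⁻¹ * D.θ (u ^ j) ∈ A := by
    intro j
    induction j with
    | zero => simp
    | succ j ih =>
      have e : (u ^ (j + 1))⁻¹ * D.θ (u ^ (j + 1)) = u⁻¹ * ((u ^ j)⁻¹ * D.θ (u ^ j)) * u⁻¹⁻¹ * c := by
        rw [hc, pow_succ, map_mul]
        group
      rw [e]
      exact mul_mem (hAn _ ih _ (inv_mem hu)) hcA
  obtain ⟨m, hm0, hmfix, hmdvd, hmk⟩ := D.count u A hAcomm hAfix
    (fun a ha => D.odd_of_pGroup hPp ha.1.1) (fun j => by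
      have e : u ^ j * (D.θ (u ^ j))⁻¹ = u ^ j * ((u ^ j)⁻¹ * D.θ (u ^ j))⁻¹ * (u ^ j)⁻¹ := by group
      rw [e]
      exact hAn _ (inv_mem (hpw j)) _ (pow_mem hu j))
  have hm3 := D.small hkn hmk
  obtain ⟨e, he⟩ := IsPGroup.iff_card.1 hPp
  have hme : m ∣ l ^ e := hmdvd.trans (by
    rw [← he, ← Subgroup.orderOf_mk _ hu.1]; exact orderOf_dvd_natCard _)
  obtain ⟨i, -, hi⟩ := (Nat.dvd_prime_pow D.prim.prime).1 hme
  rcases Nat.eq_zero_or_pos i with h0 | h0
  · rw [hi, h0, pow_zero, pow_one] at hmfix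
    exact huC ⟨hu.1, hmfix⟩
  · have := D.l_le
    have := D.three_le
    have : l ≤ l ^ i := Nat.le_self_pow h0.ne' l
    omega

/-- The group is fixed when all displacements lie in a fixed abelian normal subgroup. -/
theorem fixed_all (D : Act X V l n k d) (hX : Odd (Nat.card X)) (h3 : ¬ 3 ∣ Nat.card X) (A : Subgroup X)
    (hA : ∀ a ∈ A, D.θ a = a) (hc : ∀ a ∈ A, ∀ b ∈ A, a * b = b * a)
    (hdis : ∀ x, x⁻¹ * D.θ x ∈ A) (g : X) : D.θ g = g := by
  by_contra hne
  set f := g⁻¹ * D.θ g with hf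
  have hfA : f ∈ A := hdis g
  have hf1 : f ≠ 1 := fun e => hne (inv_mul_eq_one.1 e).symm
  have hfl : f ^ l = 1 := by
    have hit : ∀ i : ℕ, (D.θ ^ i) g = g * f ^ i := by
      intro i
      induction i with
      | zero => simp
      | succ i ih =>
        rw [pow_succ', MulAut.mul_apply, ih, map_mul, map_pow, hA f hfA, pow_succ', ← mul_assoc, hf,
          mul_inv_cancel_left]
    have h1 := hit l
    rwa [D.θl, MulAut.one_apply, eq_comm, mul_eq_left] at h1
  have hkn := D.k_eq (hA f hfA) hfl hf1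
  obtain ⟨m, hm0, hmfix, hmdvd, hmk⟩ := D.count g A hc hA
    (fun a _ => hX.of_dvd_nat (orderOf_dvd_natCard a)) (fun j => by
      simpa using hdis ((g ^ j)⁻¹))
  have hmX : m ∣ Nat.card X := hmdvd.trans (orderOf_dvd_natCard g)
  have hm3 := D.small hkn hmk
  interval_cases m
  · rw [pow_one] at hmfix
    exact hne hmfix
  · exact absurd (hX.of_dvd_nat hmX) (by decide)
  · exact h3 hmX

end Act

end CfsgLib.ThreePrime.Block
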