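import Cfsg.Agent.Lib.ThreePrime.Block.CentralTwoComp
import Cfsg.Agent.Lib.ThreePrime.Block.CentralTwoConj
import Cfsg.Agent.Lib.Components.PLayer

/-!
Owner: helper4.  The conclusion about the abstract quotient of `C(A)` in the block analysis.
-/

set_option autoImplicit false
set_option linter.all false

namespace CfsgLib.ThreePrime.Block

open Subgroup

universe u

local instance factTwoBlockCentralTwoMain : Fact (Nat.Prime 2) := ⟨Nat.prime_two⟩

variable {Γ : Type u} [Group Γ] [Finite Γ] {D W : Subgroup Γ} {θ : MulAut Γ} {n l k : ℕ}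

theorem CentralTwo.n_pos (h : CentralTwo D W θ n l k) : 0 < n := by have := h.three_le; omega

theorem CentralTwo.isPGroup (h : CentralTwo D W θ n l k) : IsPGroup 2 D := IsPGroup.of_card h.card_D

theorem CentralTwo.le_of_normal (h : CentralTwo D W θ n l k) {N : Subgroup Γ} [N.Normal]
    (hN : IsPGroup 2 N) : N ≤ D := by
  obtain ⟨P, rfl⟩ := h.sylow
  exact le_sup_left.trans (P.is_maximal' (hN.to_sup_of_normal_left P.isPGroup') le_sup_right).le

theorem CentralTwo.commute_W (h : CentralTwo D W θ n l k) {d w : Γ} (hd : d ∈ D) (hw : w ∈ W) :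
    d * w = w * d := by
  by_cases hw1 : w = 1
  · rw [hw1, mul_one, one_mul]
  · rw [← h.cent w hw hw1] at hd
    exact mem_centralizer_singleton_iff.1 hd

/-- The `CentralTwo` conclusion. -/
theorem centralTwo : CentralTwoGoal.{u} := by
  intro Γ _ _ D W θ n l k h
  classical
  set R := Cfsg.pCore 2 Γ with hR
  haveI hRn : R.Normal := CfsgLib.Components.pCore_normal 2
  have hRp : IsPGroup 2 R := CfsgLib.Components.pCore_isPGroup 2
  have hRD : R ≤ D := h.le_of_normal hRp
  have hCR : centralizer (R : Set Γ) ≤ R :=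
    CfsgLib.Components.centralizer_pCore_le_of_layer_eq_bot (show Cfsg.pPrimeCore 2 Γ = ⊥ from h.core)
      (CfsgLib.Components.layer_eq_bot_iff.2 h.noComponent)
  have hWC : W ≤ centralizer (R : Set Γ) := fun w hw =>
    mem_centralizer_iff.2 fun r hr => h.commute_W (hRD hr) hw
  obtain ⟨w0, hw0, hw01⟩ := h.exists_ne_one
  -- the module
  set V := normalClosure (W : Set Γ) with hV
  haveI hVn : V.Normal := normalClosure_normal
  have hWV : W ≤ V := fun w hw => subset_normalClosure hw
  have hVC : V ≤ centralizer (R : Set Γ) := normalClosure_le_normal hWC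
  have hVR : V ≤ R := hVC.trans hCR
  have hVc : ∀ a ∈ V, ∀ b ∈ V, a * b = b * a := fun a ha b hb =>
    mem_centralizer_iff.1 (hVC hb) a (hVR ha)
  have hVsq : ∀ v ∈ V, v ^ 2 = 1 := by
    intro v hv
    have hv' : v ∈ closure (Group.conjugatesOfSet (W : Set Γ)) := hv
    induction hv' using closure_induction with
    | mem x hx =>
      obtain ⟨w, hw, hxw⟩ := Group.mem_conjugatesOfSet_iff.1 hx
      obtain ⟨c, rfl⟩ := isConj_iff.1 hxw
      rw [conj_pow, h.W_sq w hw, mul_one, mul_inv_cancel]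
    | one => exact one_pow 2
    | mul x y hx hy ex ey =>
      rw [(show Commute x y from hVc x hx y hy).mul_pow, ex hx, ey hy, one_mul]
    | inv x hx ex => rw [inv_pow, ex hx, inv_one]
  have hCV : centralizer (V : Set Γ) = R := by
    refine le_antisymm ?_ fun r hr => mem_centralizer_iff.2 fun v hv =>
      (mem_centralizer_iff.1 (hVC hv) r hr).symm
    refine CfsgLib.Components.le_pCore inferInstance (h.isPGroup.to_le fun g hg => ?_)
    rw [← h.cent w0 hw0 hw01]
    exact mem_centralizer_singleton_iff.2 (mem_centralizer_iff.1 hg w0 (hWV hw0)).symm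
  letI : CommGroup V := { (inferInstance : Group V) with
    mul_comm := fun a b => Subtype.ext (hVc a a.2 b b.2) }
  have hθV : V.map θ.toMonoidHom = V := by
    rw [hV, map_normalClosure _ θ.toMonoidHom θ.surjective]
    congr 1
    ext x
    constructor
    · rintro ⟨w, hw, rfl⟩
      show θ w ∈ W
      rwa [(h.fixed w (h.W_le hw)).2 hw]
    · exact fun hx => ⟨x, hx, (h.fixed x (h.W_le hx)).2 hx⟩
  let σ : MulAut V := (θ.subgroupMap V).trans (MulEquiv.subgroupCongr hθV)
  have hσ : ∀ v : V, (σ v : Γ) = θ v := fun v => rfl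
  have hσW : ∀ v : V, σ v = v ↔ (v : Γ) ∈ W := fun v =>
    ⟨fun e => (h.fixed _ (hRD (hVR v.2))).1 (congrArg Subtype.val e),
      fun e => Subtype.ext ((h.fixed _ (h.W_le e)).2 e)⟩
  -- the group of operators
  let ρ0 : Γ →* MulAut V := MulAut.conjNormal
  have hρ0 : ∀ (g : Γ) (v : V), (ρ0 g v : Γ) = g * v * g⁻¹ := fun g v => rfl
  have hker : ∀ g, ρ0 g = 1 ↔ g ∈ R := fun g => by
    rw [← hCV, mem_centralizer_iff]
    refine ⟨fun e v hv => ?_, fun e => MulEquiv.ext fun v => Subtype.ext ?_⟩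
    · have h1 := congrArg Subtype.val (DFunLike.congr_fun e ⟨v, hv⟩)
      rw [hρ0] at h1
      exact (mul_inv_eq_iff_eq_mul.1 h1).symm
    · rw [hρ0, ← e v v.2, mul_inv_cancel_right]
      rfl
  let ρ : Γ ⧸ R →* MulAut V := QuotientGroup.lift R ρ0 fun g hg => (hker g).2 hg
  have hρ : ∀ g : Γ, ρ (g : Γ ⧸ R) = ρ0 g := fun g => rfl
  have hRθ : R.map θ.toMonoidHom = R := CfsgLib.Components.pCore_map_equiv 2 θ
  let θ1 : MulAut (Γ ⧸ R) := QuotientGroup.congr R R θ hRθ
  have hθ1 : ∀ g : Γ, θ1 (g : Γ ⧸ R) = (θ g : Γ) := fun g => rfl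
  have hθ1i : ∀ (i : ℕ) (g : Γ), (θ1 ^ i) (g : Γ ⧸ R) = ((θ ^ i) g : Γ) := by
    intro i
    induction i with
    | zero => intro g; rfl
    | succ i ih => intro g; rw [pow_succ', MulAut.mul_apply, ih, hθ1, pow_succ', MulAut.mul_apply]
  obtain ⟨e, he⟩ := IsPGroup.iff_card.1 hRp
  obtain ⟨d, hd, hdcard⟩ := (Nat.dvd_prime_pow Nat.prime_two).1
    (h.card_D ▸ card_dvd_of_le (hVR.trans hRD))
  have hde : d ≤ e := (Nat.pow_dvd_pow_iff_le_right (by norm_num)).1
    (hdcard ▸ he ▸ card_dvd_of_le hVR)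
  have hkd : k ≤ d := (Nat.pow_dvd_pow_iff_le_right (by norm_num)).1
    (h.card_W ▸ hdcard ▸ card_dvd_of_le hWV)
  let A : Act (Γ ⧸ R) V l n k d :=
    { ρ := ρ
      θ := θ1
      σ := σ
      inj := (injective_iff_map_eq_one ρ).2 fun q hq => by
        obtain ⟨g, rfl⟩ := QuotientGroup.mk_surjective q
        exact (QuotientGroup.eq_one_iff g).2 ((hker g).1 hq)
      three_le := h.three_le
      odd := h.odd
      prim := h.prim
      pos := h.pos
      k_le := h.k_le
      d_le := hd
      elem := fun v => Subtype.ext (hVsq v v.2)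
      card := hdcard
      θl := MulEquiv.ext fun q => by
        obtain ⟨g, rfl⟩ := QuotientGroup.mk_surjective q
        rw [hθ1i, h.pow]
        rfl
      σl := MulEquiv.ext fun v => Subtype.ext (by
        have hi : ∀ i : ℕ, ((σ ^ i) v : Γ) = (θ ^ i) v := by
          intro i
          induction i with
          | zero => rfl
          | succ i ih => rw [pow_succ', MulAut.mul_apply, hσ, ih, pow_succ', MulAut.mul_apply]
        rw [hi, h.pow]
        rfl)
      comp := fun q v => by
        obtain ⟨g, rfl⟩ := QuotientGroup.mk_surjective q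
        refine Subtype.ext ?_
        rw [hθ1, hρ, hρ, hσ, hρ0, hρ0, hσ, map_mul, map_mul, map_inv]
      fix := by
        rw [← h.card_W]
        exact Nat.card_congr
          { toFun := fun v => ⟨v.1, (hσW v.1).1 v.2⟩
            invFun := fun w => ⟨⟨w, hWV w.2⟩, (hσW _).2 w.2⟩
            left_inv := fun v => rfl
            right_inv := fun w => rfl }
      semi := fun q hq hq1 v hv hρv => by
        obtain ⟨g, rfl⟩ := QuotientGroup.mk_surjective q
        by_contra hv1
        have hvW := (hσW v).1 hv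
        have hgD : g ∈ D := by
          rw [← h.cent _ hvW fun e => hv1 (Subtype.ext e), mem_centralizer_singleton_iff]
          exact mul_inv_eq_iff_eq_mul.1 (congrArg Subtype.val hρv)
        obtain ⟨j, hj⟩ := h.isPGroup ⟨g, hgD⟩
        have hj' : g ^ 2 ^ j = 1 := congrArg Subtype.val hj
        refine hq1 (orderOf_eq_one_iff.1 (Nat.eq_one_of_dvd_coprimes
          ((Nat.coprime_two_right.2 hq).pow_right j) dvd_rfl (orderOf_dvd_of_pow_eq_one ?_)))
        rw [← QuotientGroup.mk_pow, hj', QuotientGroup.mk_one] }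
  have h3X : ¬ 3 ∣ Nat.card (Γ ⧸ R) := fun h3 => h.three (h3.trans (card_quotient_dvd_card R))
  have hnormW : ∀ a, θ a = a → ∀ w ∈ W, a * w * a⁻¹ ∈ W := fun a ha w hw => by
    refine (h.fixed _ (hRD (hVR (hVn.conj_mem w (hWV hw) a)))).1 ?_
    rw [map_mul, map_mul, map_inv, ha, (h.fixed w (h.W_le hw)).2 hw]
  have hcoset : ∀ q : Γ ⧸ R, θ1 q = q → ∃ g : Γ, (g : Γ ⧸ R) = q ∧ θ g = g := by
    intro q hq
    obtain ⟨g0, rfl⟩ := QuotientGroup.mk_surjective q
    let S := {g : Γ // (g : Γ ⧸ R) = g0}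
    let F : S → S := fun g => ⟨θ g.1, by rw [← hθ1, g.2, hq]⟩
    have hF : F^[l] = id := by
      have hit : ∀ (i : ℕ) (g : S), (F^[i] g).1 = (θ ^ i) g.1 := by
        intro i
        induction i with
        | zero => intro g; rfl
        | succ i ih => intro g; rw [Function.iterate_succ_apply', pow_succ', MulAut.mul_apply, ← ih]
      exact funext fun g => Subtype.ext (by rw [hit, h.pow]; rfl)
    have hnd : ¬ l ∣ Nat.card S := by
      let e' : S ≃ R :=
        { toFun := fun g => ⟨g0⁻¹ * g.1, QuotientGroup.eq.1 g.2.symm⟩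
          invFun := fun r => ⟨g0 * r.1, by
            rw [QuotientGroup.mk_mul, (QuotientGroup.eq_one_iff r.1).2 r.2, mul_one]⟩
          left_inv := fun g => Subtype.ext (mul_inv_cancel_left _ _)
          right_inv := fun r => Subtype.ext (inv_mul_cancel_left _ _) }
      rw [Nat.card_congr e', he]
      exact h.prim.not_dvd_two_pow h.n_pos e
    obtain ⟨g, hg⟩ := exists_fixed_of_not_dvd F h.prim.prime hF hnd
    exact ⟨g.1, g.2, congrArg Subtype.val hg⟩
  have hWR : W ≤ R := hWV.trans hVR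
  -- no normal two-subgroups
  have hO2 : Cfsg.pCore 2 (Γ ⧸ R) = ⊥ := by
    haveI : (Cfsg.pCore 2 (Γ ⧸ R)).Normal := CfsgLib.Components.pCore_normal 2
    have hle : (Cfsg.pCore 2 (Γ ⧸ R)).comap (QuotientGroup.mk' R) ≤ R :=
      CfsgLib.Components.le_pCore inferInstance
        ((CfsgLib.Components.pCore_isPGroup 2).comap_of_ker_isPGroup _
          (by rw [QuotientGroup.ker_mk']; exact hRp))
    refine (eq_bot_iff_forall _).2 fun q hq => ?_
    obtain ⟨g, rfl⟩ := QuotientGroup.mk_surjective q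
    exact (QuotientGroup.eq_one_iff g).2 (hle hq)
  -- no fixed involutions
  have hinv : ∀ q : Γ ⧸ R, θ1 q = q → q ^ 2 = 1 → q = 1 := by
    intro q hq hq2
    obtain ⟨g, rfl, hg⟩ := hcoset q hq
    obtain ⟨j, hj⟩ := hRp ⟨g ^ 2, (QuotientGroup.eq_one_iff _).1 (by rw [QuotientGroup.mk_pow, hq2])⟩
    have hgp : g ^ 2 ^ (j + 1) = 1 := by
      rw [pow_succ', pow_mul]
      exact congrArg Subtype.val hj
    have hgz : IsPGroup 2 (zpowers g) := IsPGroup.of_card (n := (Nat.dvd_prime_pow Nat.prime_two).1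
      (orderOf_dvd_of_pow_eq_one hgp) |>.choose) (by
        rw [Nat.card_zpowers]
        exact ((Nat.dvd_prime_pow Nat.prime_two).1 (orderOf_dvd_of_pow_eq_one hgp)).choose_spec.2)
    have hfixg : ∀ a : zpowers g, θ (a : Γ) = a := fun a => by
      obtain ⟨i, hi⟩ := mem_zpowers_iff.1 a.2
      rw [← hi, map_zpow, hg]
    letI : MulAction (zpowers g) W :=
      { smul := fun a w => ⟨(a : Γ) * w * (a : Γ)⁻¹, hnormW _ (hfixg a) w w.2⟩
        one_smul := fun w => Subtype.ext (by show ((1 : zpowers g) : Γ) * w * _ = w; simp)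
        mul_smul := fun a b w => Subtype.ext (by
          show ((a * b : zpowers g) : Γ) * w * _ = (a : Γ) * ((b : Γ) * w * (b : Γ)⁻¹) * (a : Γ)⁻¹
          rw [Subgroup.coe_mul]; group) }
    obtain ⟨w, hw, hw1⟩ := hgz.exists_fixed_point_of_prime_dvd_card_of_fixed_point W
      (h.card_W ▸ dvd_pow_self 2 h.pos.ne') (a := (1 : W)) (fun a => Subtype.ext (by
        show (a : Γ) * ((1 : W) : Γ) * (a : Γ)⁻¹ = ((1 : W) : Γ); simp))
    have hc : g * (w : Γ) * g⁻¹ = w := congrArg Subtype.val (hw ⟨g, mem_zpowers g⟩)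
    have hgD : g ∈ D := by
      rw [← h.cent w w.2 fun e => hw1 (Subtype.ext e.symm), mem_centralizer_singleton_iff]
      exact mul_inv_eq_iff_eq_mul.1 hc
    exact (QuotientGroup.eq_one_iff g).2 (hWR ((h.fixed g hgD).1 hg))
  -- no components
  have hlayer : Cfsg.layer (Γ ⧸ R) = ⊥ := by
    rw [CfsgLib.Components.layer_eq_bot_iff]
    intro E hE
    obtain ⟨r, hr⟩ := h.sz R E hE
    have hn2 := Nat.le_of_dvd (by omega)
      (h.prim.dvd_of_suzuki h.n_pos h.odd (component_data h.prim.prime A.θl hinv hO2 hE hr))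
    have hdvd : 2 ^ (2 * (2 * r + 1) + e) ∣ Nat.card Γ := by
      rw [card_eq_card_quotient_mul_card_subgroup R, he, pow_add]
      refine Nat.mul_dvd_mul_right ?_ _
      refine Dvd.dvd.trans ?_ ((card_quotient_dvd_card (center E)).trans (card_subgroup_dvd_card E))
      rw [hr.card, mul_comm 2 (2 * r + 1), pow_mul, mul_assoc]
      exact Dvd.intro _ rfl
    obtain ⟨P, hP⟩ := h.sylow
    have hle := P.pow_dvd_card_of_pow_dvd_card hdvd
    rw [hP, h.card_D, Nat.pow_dvd_pow_iff_le_right (by norm_num)] at hle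
    by_cases hVW : V ≤ W
    · have hDR : D ≤ R := fun x hx => by
        rw [← hCV]
        exact mem_centralizer_iff.2 fun v hv => (h.commute_W hx (hVW hv)).symm
      have h2 := card_dvd_of_le hDR
      rw [h.card_D, he, Nat.pow_dvd_pow_iff_le_right (by norm_num)] at h2
      have := h.n_pos
      omega
    · let F : {v : V // ¬ σ v = v} → {v : V // ¬ σ v = v} := fun v =>
        ⟨σ v.1, fun e => v.2 (σ.injective e)⟩
      have hF : F^[l] = id := by
        have hit : ∀ (i : ℕ) v, (F^[i] v).1 = (σ ^ i) v.1 := by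
          intro i
          induction i with
          | zero => intro v; rfl
          | succ i ih => intro v; rw [Function.iterate_succ_apply', pow_succ', MulAut.mul_apply, ← ih]
        exact funext fun v => Subtype.ext (by rw [hit, A.σl]; rfl)
      have hdiv : l ∣ Nat.card {v : V // ¬ σ v = v} := by
        by_contra hnd
        obtain ⟨v, hv⟩ := exists_fixed_of_not_dvd F h.prim.prime hF hnd
        exact v.2 (congrArg Subtype.val hv)
      haveI := Fintype.ofFinite V
      rw [Nat.card_eq_fintype_card, Fintype.card_subtype_compl, ← Nat.card_eq_fintype_card,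
        ← Nat.card_eq_fintype_card, hdcard, A.fix] at hdiv
      have hsplit : 2 ^ d - 2 ^ k = 2 ^ k * (2 ^ (d - k) - 1) := by
        rw [Nat.mul_sub, ← pow_add, Nat.add_sub_cancel' hkd, mul_one]
      rw [hsplit] at hdiv
      have h2 := (h.prim.dvd_iff h.n_pos).1
        ((h.prim.prime.dvd_mul.1 hdiv).resolve_left (h.prim.not_dvd_two_pow h.n_pos k))
      have hkd' : k ≠ d := fun e => hVW (eq_of_le_of_card_ge hWV (by rw [hdcard, h.card_W, e])).ge
      have := Nat.le_of_dvd (by omega) h2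
      omega
  by_cases hirr : k = 1 ∧ d = 2 * n + 1 ∧ ∃ x, Linear.IsIrr (A.ρ x) ∧ A.ρ x ≠ 1
  · -- the irreducible case
    right
    obtain ⟨hk, hd2, x, hx, hx1⟩ := hirr
    have hVD : V = D := eq_of_le_of_card_ge (hVR.trans hRD) (by rw [hdcard, h.card_D, hd2, hk])
    obtain ⟨g, rfl⟩ := QuotientGroup.mk_surjective x
    refine ⟨hVD ▸ hVn, hk, fun a ha b hb => hVc a (hVD ▸ ha) b (hVD ▸ hb),
      fun a ha => hVsq a (hVD ▸ ha), g, ?_, fun B hB hBg => ?_⟩
    · by_contra hc
      push Not at hc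
      exact hx1 (MulEquiv.ext fun v => Subtype.ext (hc v (hVD ▸ v.2)))
    · rcases hx (B.subgroupOf V) (fun u hu => mem_subgroupOf.2 (hBg _ (mem_subgroupOf.1 hu))) with hU | hU
      · refine Or.inl ((eq_bot_iff_forall _).2 fun b hb => ?_)
        have hbV : b ∈ V := hVD ▸ hB hb
        have h1 : (⟨b, hbV⟩ : V) ∈ B.subgroupOf V := mem_subgroupOf.2 hb
        rw [hU, mem_bot] at h1
        exact congrArg Subtype.val h1
      · refine Or.inr (le_antisymm hB ?_)
        rw [← hVD]
        exact subgroupOf_eq_top.1 hU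
  -- the Fitting subgroup is fixed
  left
  set F := Cfsg.fittingSubgroup (Γ ⧸ R) with hFdef
  haveI hFn : F.Normal := CfsgLib.Components.fitting_normal
  haveI : Group.IsNilpotent F := CfsgLib.Components.fitting_isNilpotent
  have hF : ∀ y ∈ F, θ1 y = y := fixed_of_fitting θ1 fun r hr y hy => by
    by_cases hr2 : r = 2
    · rw [hr2, hO2, mem_bot] at hy
      rw [hy, map_one]
    by_cases hrl : r = l
    · subst hrl
      exact A.fixed_lcore hy
    by_contra hne
    exact hirr (A.moved_core hr hr2 hrl hy hne)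
  have hFodd : Odd (Nat.card F) := by
    rw [← Nat.not_even_iff_odd, even_iff_two_dvd]
    intro h2
    obtain ⟨Q⟩ := (Sylow.nonempty : Nonempty (Sylow 2 F))
    haveI : (Q : Subgroup F).Normal := inferInstance
    haveI := Q.characteristic_of_normal inferInstance
    have hle : (Q : Subgroup F).map F.subtype ≤ Cfsg.pCore 2 (Γ ⧸ R) :=
      CfsgLib.Components.le_pCore inferInstance (Q.isPGroup'.map _)
    rw [hO2, le_bot_iff] at hle
    have h1 := card_map_of_injective (K := (Q : Subgroup F)) F.subtype_injective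
    rw [hle, card_bot] at h1
    have h3 := Q.dvd_card_of_dvd_card h2
    rw [show Nat.card Q = Nat.card (Q : Subgroup F) from rfl, ← h1] at h3
    exact absurd (Nat.eq_one_of_dvd_one h3) (by norm_num)
  have hCF := CfsgLib.Components.centralizer_fitting_le_of_layer_eq_bot hlayer
  have hdis : ∀ x : Γ ⧸ R, x⁻¹ * θ1 x ∈ F ⊓ centralizer (F : Set (Γ ⧸ R)) := by
    intro x
    have hcent : x⁻¹ * θ1 x ∈ centralizer (F : Set (Γ ⧸ R)) := by
      refine mem_centralizer_iff.2 fun f hf => ?_
      have h1 : θ1 (x * f * x⁻¹) = x * f * x⁻¹ := hF _ (hFn.conj_mem f hf x)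
      rw [map_mul, map_mul, map_inv, hF f hf, mul_inv_eq_iff_eq_mul] at h1
      rw [mul_assoc x⁻¹, h1]
      group
    exact ⟨hCF hcent, hcent⟩
  -- the image of `D`
  have hDR : D ≤ R := by
    intro x hx
    have hfix : θ1 (x : Γ ⧸ R) = x := by
      have h1 := (hdis (x : Γ ⧸ R)).1
      obtain ⟨j, hj⟩ := h.isPGroup ⟨x⁻¹ * θ x, mul_mem (inv_mem hx) (h.map_mem x hx)⟩
      have hj' : (x⁻¹ * θ x) ^ 2 ^ j = 1 := congrArg Subtype.val hj
      have h2 : (x : Γ ⧸ R)⁻¹ * θ1 x = 1 := by
        refine orderOf_eq_one_iff.1 (Nat.eq_one_of_dvd_coprimes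
          ((Nat.coprime_two_right.2 hFodd).pow_right j) ?_ (orderOf_dvd_of_pow_eq_one ?_))
        · rw [← Subgroup.orderOf_mk _ h1]
          exact orderOf_dvd_natCard _
        · rw [hθ1, ← QuotientGroup.mk_inv, ← QuotientGroup.mk_mul, ← QuotientGroup.mk_pow, hj',
            QuotientGroup.mk_one]
      exact (inv_mul_eq_one.1 h2).symm
    obtain ⟨g, hgx, hg⟩ := hcoset _ hfix
    have hgx' : g⁻¹ * x ∈ R := QuotientGroup.eq.1 hgx
    have hgD : g ∈ D := by
      have := mul_mem hx (inv_mem (hRD hgx'))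
      simpa using this
    have := mul_mem (hWR ((h.fixed g hgD).1 hg)) hgx'
    rwa [mul_inv_cancel_left] at this
  have hRD' : R = D := le_antisymm hRD hDR
  have hXodd : Odd (Nat.card (Γ ⧸ R)) := by
    obtain ⟨P, hP⟩ := h.sylow
    rw [← Nat.not_even_iff_odd, even_iff_two_dvd, ← index_eq_card, hRD', ← hP]
    exact P.not_dvd_index
  have hall : ∀ x : Γ ⧸ R, θ1 x = x := A.fixed_all hXodd h3X (F ⊓ centralizer (F : Set (Γ ⧸ R)))
    (fun a ha => hF a ha.1) (fun a ha b hb => mem_centralizer_iff.1 hb.2 a ha.1) hdis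
  refine ⟨hRD' ▸ hRn, fun g => hDR.antisymm hRD ▸ ?_, ⟨fun w hw g => ?_⟩⟩
  · exact QuotientGroup.eq.1 (hall (g : Γ ⧸ R)).symm
  · obtain ⟨a, hag, ha⟩ := hcoset _ (hall (g : Γ ⧸ R))
    have hr : a⁻¹ * g ∈ D := hRD (QuotientGroup.eq.1 hag)
    have hc := h.commute_W hr hw
    have hgw : g * w * g⁻¹ = a * w * a⁻¹ := by
      calc g * w * g⁻¹ = a * ((a⁻¹ * g) * w) * (a⁻¹ * g)⁻¹ * a⁻¹ := by group
        _ = a * w * a⁻¹ := by rw [hc]; group
    rw [hgw]
    exact hnormW a ha w hw

end CfsgLib.ThreePrime.Block
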