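import Cfsg.Agent.Lib.ThreePrime.Block.SplitMixed

/-!
Owner: helper10.  The configuration `Split` does not occur.
-/

set_option autoImplicit false
set_option linter.all false

namespace CfsgLib.ThreePrime.Block

open Subgroup CfsgLib.Bender.Dichotomy

universe u

theorem splitGoal : SplitGoal.{u} := by
  intro G _ _ S A m l hC hA c U hs
  obtain ⟨o, ho, ho'⟩ := exists_opp hC hs
  obtain ⟨σ, T0, hT⟩ := exists_torusData hC hA hs ho ho'
  obtain ⟨s, x, j, p, hP⟩ := exists_pick hC hA hs ho ho'
  exact false_of_pick hC hA hs ho ho' hT hP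

end CfsgLib.ThreePrime.Block
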