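import Cfsg.Agent.Lib.ThreePrime.Block.Assembly
import Cfsg.Agent.Lib.ThreePrime.Block.CentralTwo
import Cfsg.Agent.Lib.ThreePrime.Block.Split

/-!
Owner: helper6.  Slices E and F: the bad involutions lead to a contradiction.
-/

set_option autoImplicit false
set_option linter.all false

namespace CfsgLib.ThreePrime.Block

universe u

/-- The block slice. -/
theorem blockStep : BlockStep.{u} := blockStep_of_goals centralTwo splitGoal

end CfsgLib.ThreePrime.Block
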