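import Cfsg.Agent.Lib.ThreePrime.Block.Class

/-!
Owner: helper6.  The configuration left after the core closure has been shown trivial.
-/

set_option autoImplicit false
set_option linter.all false

namespace CfsgLib.ThreePrime.Block

open Subgroup

universe u

variable {G : Type u} [Group G] [Finite G]

/-- No cores, one orbit of blocks. -/
structure Split (S : Sylow 2 G) (A : Subgroup G) (c : G) (U : Subgroup G) : Prop where
  W0_bot : W0 A = ⊥
  bad : Bad A c
  cent : c ∈ centralizer (A : Set G)
  top : IsTop A c U
  le : U ≤ (S : Subgroup G)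
  card : Nat.card (S : Subgroup G) = Nat.card A * Nat.card U
  four : 4 ≤ Nat.card (Qpart A c U)
  trans_le : (S : Subgroup G) ≤ trans A c U
  normal : pM A ≤ normalizer ((S : Subgroup G) : Set G)
  bad_mem : ∀ x ∈ (S : Subgroup G), Bad A x → ∃ g ∈ (S : Subgroup G), g⁻¹ * x * g ∈ Qpart A c U

/-- The last step. -/
def SplitGoal : Prop :=
  ∀ (G : Type u) [Group G] [Finite G] (S : Sylow 2 G) (A : Subgroup G) (m l : ℕ), Ctx S A → Aut A m l →
    ∀ (c : G) (U : Subgroup G), Split S A c U → False

end CfsgLib.ThreePrime.Block
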