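import Cfsg.Agent.Lib.ThreePrime.Block.Uniform
import Cfsg.Agent.Lib.Transfer.ThompsonTransfer

/-!
Owner: helper6.  A kernel part of order two is impossible.

* `mem_D_of_two`: `C(A)` maps onto the image of `S`
* `comm_P_of_two`: `[S, P] ≤ A`
* `exists_hom_of_two`: a subgroup of index two of `S` over `A` avoiding `c`
* `false_of_two`
-/

set_option autoImplicit false
set_option linter.all false

namespace CfsgLib.ThreePrime.Block

open Subgroup CfsgLib.Bender.Dichotomy CfsgLib.Signalizer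
open scoped Pointwise

universe u

local instance factTwoBlockTwo : Fact (Nat.Prime 2) := ⟨Nat.prime_two⟩

theorem card_le_two_mul_inf {G : Type u} [Group G] [Finite G] {H L : Subgroup G}
    (h : ∀ g ∈ H, ∀ g' ∈ H, g ∉ L → g' ∉ L → g⁻¹ * g' ∈ L) :
    Nat.card H ≤ 2 * Nat.card (H ⊓ L : Subgroup G) := by
  classical
  by_cases hall : H ≤ L
  · rw [inf_eq_left.2 hall]; omega
  obtain ⟨g0, hg0, hg0L⟩ := SetLike.not_le_iff_exists.1 hall
  have e := Nat.card_le_card_of_injective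
    (fun g : H => if hg : (g : G) ∈ L then ((⟨g, mem_inf.2 ⟨g.2, hg⟩⟩ : (H ⊓ L : Subgroup G)), false)
      else ((⟨g0⁻¹ * g, mem_inf.2 ⟨mul_mem (inv_mem hg0) g.2, h g0 hg0 g g.2 hg0L hg⟩⟩ :
        (H ⊓ L : Subgroup G)), true)) (by
    intro g g' e
    by_cases hg : (g : G) ∈ L <;> by_cases hg' : (g' : G) ∈ L <;> simp [hg, hg'] at e
    · exact e
    · exact e)
  rw [Nat.card_prod, Nat.card_eq_fintype_card (α := Bool), Fintype.card_bool, mul_comm] at e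
  exact e

variable {G : Type u} [Group G] [Finite G] {S : Sylow 2 G} {A : Subgroup G} {m l : ℕ}
  {c : G} {U : Subgroup G}

/-- The centraliser of `p` in the component part. -/
theorem mem_of_commute_P (hC : Ctx S A) {K : Subgroup (cQ c)} {k : ℕ} {T : Sylow 2 K}
    (hd : BlockData A c K k T) (hU : IsTop A c U) {p p1 : G} (hp : p ∈ Ppart c K U)
    (hp1 : p1 ∈ Ppart c K U) (hpA : p ∉ A) (hc : p1 * p = p * p1) :
    p1 ∈ A ∨ p⁻¹ * p1 ∈ A := by
  classical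
  set Cp := Ppart c K U ⊓ centralizer ({p} : Set G) with hCp
  have hACp : A ≤ Cp := le_inf (A_le_P hd hU) fun a ha =>
    mem_centralizer_singleton_iff.2 (A_central hC hd hU ha hp.1)
  let x : ↥(cH c) := ⟨p, top_mem_cH hd hU hp.1⟩
  obtain ⟨hxK, hxT⟩ := P_image hd hU (p := x) hp
  set t : K := ⟨cπ c x, hxK⟩ with ht
  have ht2 : t ^ 2 ≠ 1 := fun e => hpA ((P_sq_iff hC hd hU hp).1 (by
    obtain ⟨j, hj⟩ := exists_pow_two hU.two (pow_mem hp.1 2)
    exact eq_one_of_image (x := x ^ 2) (k := j) hj (by rw [map_pow]; exact congrArg Subtype.val e)))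
  have hle : Nat.card Cp ≤ 2 * Nat.card A := by
    rw [hd.qA, ← hd.facts.cent_four T t hxT ht2]
    let f : Cp → ((T : Subgroup K) ⊓ centralizer ({t} : Set K) : Subgroup K) := fun y =>
      ⟨⟨cπ c ⟨y, top_mem_cH hd hU y.2.1.1⟩,
          (P_image hd hU (p := ⟨y, top_mem_cH hd hU y.2.1.1⟩) y.2.1).1⟩,
        mem_inf.2 ⟨(P_image hd hU (p := ⟨y, top_mem_cH hd hU y.2.1.1⟩) y.2.1).2,
          mem_centralizer_singleton_iff.2 (Subtype.ext (by
            rw [Subgroup.coe_mul, Subgroup.coe_mul, ht]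
            show cπ c ⟨y, top_mem_cH hd hU y.2.1.1⟩ * cπ c x = cπ c x * cπ c ⟨y, top_mem_cH hd hU y.2.1.1⟩
            rw [← map_mul, ← map_mul]
            exact congrArg _ (Subtype.ext (mem_centralizer_singleton_iff.1 y.2.2))))⟩⟩
    refine Nat.card_le_card_of_injective f fun y z e => Subtype.ext ?_
    have e' : cπ c ⟨y, top_mem_cH hd hU y.2.1.1⟩ = cπ c ⟨z, top_mem_cH hd hU z.2.1.1⟩ :=
      congrArg (fun w : ((T : Subgroup K) ⊓ centralizer ({t} : Set K) : Subgroup K) => ((w.1 : K) : cQ c)) e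
    obtain ⟨j, hj⟩ := exists_pow_two hU.two (U.mul_mem (U.inv_mem y.2.1.1) z.2.1.1)
    exact inv_mul_eq_one.1 (eq_one_of_image
      (x := (⟨y, top_mem_cH hd hU y.2.1.1⟩ : ↥(cH c))⁻¹ * ⟨z, top_mem_cH hd hU z.2.1.1⟩) (k := j) hj
      (by rw [map_mul, map_inv, e', inv_mul_cancel]))
  have hp' : p ∈ Cp := mem_inf.2 ⟨hp, mem_centralizer_singleton_iff.2 rfl⟩
  have hp1' : p1 ∈ Cp := mem_inf.2 ⟨hp1, mem_centralizer_singleton_iff.2 hc⟩
  by_contra hcon
  push Not at hcon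
  have hinj : Function.Injective (fun z : A × Option Bool => match z.2 with
      | none => (⟨z.1, hACp z.1.2⟩ : Cp)
      | some false => ⟨p * z.1, Cp.mul_mem hp' (hACp z.1.2)⟩
      | some true => ⟨p1 * z.1, Cp.mul_mem hp1' (hACp z.1.2)⟩) := by
    rintro ⟨a, i⟩ ⟨b, j⟩ e
    have key : ∀ {u v : G}, u * a = v * b → u⁻¹ * v ∈ A := fun {u v} h => by
      rw [show u⁻¹ * v = u⁻¹ * (v * b) * (b : G)⁻¹ by group, ← h, inv_mul_cancel_left]
      exact mul_mem a.2 (inv_mem b.2)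
    rcases i with _ | (_ | _) <;> rcases j with _ | (_ | _) <;>
      simp only [Subtype.mk.injEq] at e
    · exact Prod.ext (Subtype.ext e) rfl
    · exact absurd (by simpa using key (u := 1) (v := p) (by rw [one_mul]; exact e)) hpA
    · exact absurd (by simpa using key (u := 1) (v := p1) (by rw [one_mul]; exact e)) hcon.1
    · exact absurd (by simpa using key (u := p) (v := 1) (by rw [one_mul]; exact e)) hpA
    · exact Prod.ext (Subtype.ext (mul_left_cancel e)) rfl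
    · exact absurd (key e) hcon.2
    · exact absurd (by simpa using key (u := p1) (v := 1) (by rw [one_mul]; exact e)) hcon.1
    · exact absurd (by simpa using inv_mem (key e)) hcon.2
    · exact Prod.ext (Subtype.ext (mul_left_cancel e)) rfl
  have h1 := (Nat.card_le_card_of_injective _ hinj).trans hle
  rw [Nat.card_prod, Nat.card_eq_fintype_card (α := Option Bool), Fintype.card_option, Fintype.card_bool] at h1
  have : 0 < Nat.card A := Nat.card_pos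
  omega

variable (hC : Ctx S A) (hA : Aut A m l) (hF : Frame S A c U) (h2 : Nat.card (Qpart A c U) = 2)
include hC hA hF h2

theorem Q_two {q : G} (hq : q ∈ Qpart A c U) : q = 1 ∨ q = c := by
  classical
  obtain ⟨-, -, -, hcQ, -⟩ := frame_Q_data hC hA hF
  by_contra h
  push Not at h
  haveI := Fintype.ofFinite (Qpart A c U)
  have h1 : Fintype.card (Qpart A c U) = 2 := by rw [← Nat.card_eq_fintype_card]; exact h2
  have := Finset.card_le_univ
    ({1, ⟨c, hcQ⟩, ⟨q, hq⟩} : Finset (Qpart A c U))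
  rw [h1, Finset.card_insert_of_notMem, Finset.card_insert_of_notMem, Finset.card_singleton] at this
  · omega
  · simp only [Finset.mem_singleton, Subtype.mk.injEq]; exact Ne.symm h.2
  · simp only [Finset.mem_insert, Finset.mem_singleton, not_or]
    exact ⟨fun e => involution_ne_one hF.bad.ord (congrArg Subtype.val e).symm,
      fun e => h.1 (congrArg Subtype.val e).symm⟩

/-- `C(A)` maps onto the image of `S`. -/
theorem mem_D_of_two (hct : CentralTwoGoal.{u}) (x : ↥(gX A)) :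
    gπ A x ∈ gimg A (S : Subgroup G) := by
  obtain ⟨τ, hτo, hτS, hτU, hτA, hτl, hτn, hτQ⟩ := exists_tau_frame hC hA hF
  obtain ⟨-, -, hWn⟩ := gamma_normal hC hA hF hct hτA hτo hτl hτn hτS hτQ
  obtain ⟨-, hAQ, -, hcQ, -⟩ := frame_Q_data hC hA hF
  set c' : ↥(gX A) := ⟨c, hF.cent⟩ with hc'
  have hc1 := involution_ne_one hF.bad.ord
  obtain ⟨q, hq, e⟩ := hWn.conj_mem _ (gimg_mem (x := c') hcQ) (gπ A x)
  rw [← frame_cent hC hA hF (w := c') hcQ hc1, mem_centralizer_singleton_iff]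
  rcases Q_two hC hA hF h2 (mem_subgroupOf.1 hq) with h | h
  · exfalso
    rw [show q = 1 from Subtype.ext h, map_one, eq_comm, conj_eq_one_iff] at e
    exact hc1 (hAQ c (mem_A_of_gπ (x := c') (k := 1) (by rw [pow_one]; exact sq_of_ord hF.bad.ord) e) hcQ)
  · rw [show q = c' from Subtype.ext h] at e
    exact (mul_inv_eq_iff_eq_mul.1 e.symm)

/-- `[S, P] ≤ A`. -/
theorem comm_P_of_two {K : Subgroup (cQ c)} {k : ℕ} {T : Sylow 2 K} (hd : BlockData A c K k T)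
    {g p : G} (hg : g ∈ (S : Subgroup G)) (hp : p ∈ Ppart c K U) : g * p * g⁻¹ * p⁻¹ ∈ A := by
  obtain ⟨hQ2, hAQ, -, hcQ, hUc⟩ := frame_Q_data hC hA hF
  have hc1 := involution_ne_one hF.bad.ord
  have hSX := S_le_centralizer hC hA
  have hAc : ∀ {x a : G}, x ∈ (S : Subgroup G) → a ∈ A → x * a * x⁻¹ = a := fun hx ha =>
    commute_of_mem_cent ha (hSX hx)
  have hcs : ∀ {x : G}, x ∈ U → c * x = x * c := fun hx =>
    (mem_centralizer_singleton_iff.1 (hF.top.le hx).1).symm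
  -- the shape of the commutators
  have shape : ∀ g ∈ (S : Subgroup G), ∀ p ∈ Ppart c K U,
      g * p * g⁻¹ * p⁻¹ ∈ A ∨ ∃ a ∈ A, g * p * g⁻¹ = a * c * p := by
    intro g hg p hp
    obtain ⟨a, ha, q, hq, e⟩ := conj_P hC hA hF hd hg hp
    rcases Q_two hC hA hF h2 hq with rfl | rfl
    · left
      rw [e, mul_one, ← A_central hC hd hF.top ha hp.1, mul_inv_cancel_right]
      exact ha
    · refine Or.inr ⟨a, ha, ?_⟩
      rw [e, ← A_central hC hd hF.top ha hp.1, mul_assoc, mul_assoc, ← hcs hp.1]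
  have hz : ∀ g ∈ (S : Subgroup G), ∀ g' ∈ (S : Subgroup G), g * g' * g⁻¹ * g'⁻¹ ∈ U := by
    intro g hg g' hg'
    have hm : g * g' * g⁻¹ * g'⁻¹ ∈ (S : Subgroup G) :=
      mul_mem (mul_mem (mul_mem hg hg') (inv_mem hg)) (inv_mem hg')
    refine S_inf_cent hC hA hF hcQ hc1 hm (mul_inv_eq_iff_eq_mul.1 ?_)
    set e := g * c * g⁻¹ * c⁻¹ with he
    set d := g' * c * g'⁻¹ * c⁻¹ with hd'
    have heA : e ∈ A := frame_trans_value hC hA hF hg hcQ
    have hdA : d ∈ A := frame_trans_value hC hA hF hg' hcQ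
    have e1 : g * c * g⁻¹ = e * c := by rw [he, inv_mul_cancel_right]
    have d1 : g' * c * g'⁻¹ = d * c := by rw [hd', inv_mul_cancel_right]
    have key : g' * g * c * (g' * g)⁻¹ = g * g' * c * (g * g')⁻¹ := by
      calc g' * g * c * (g' * g)⁻¹ = g' * (g * c * g⁻¹) * g'⁻¹ := by group
        _ = (g' * e * g'⁻¹) * (g' * c * g'⁻¹) := by rw [e1]; group
        _ = e * d * c := by rw [hAc hg' heA, d1, ← mul_assoc]
        _ = d * e * c := by rw [elementary_comm hC.pt.elem heA hdA]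
        _ = (g * d * g⁻¹) * (g * c * g⁻¹) := by rw [hAc hg hdA, he]; group
        _ = g * (g' * c * g'⁻¹) * g⁻¹ := by rw [d1]; group
        _ = g * g' * c * (g * g')⁻¹ := by group
    calc g * g' * g⁻¹ * g'⁻¹ * c * (g * g' * g⁻¹ * g'⁻¹)⁻¹
        = g * g' * ((g' * g)⁻¹ * c * (g' * g)) * (g * g')⁻¹ := by group
      _ = g * g' * ((g * g')⁻¹ * c * (g * g')) * (g * g')⁻¹ := by
          congr 1; congr 1
          calc (g' * g)⁻¹ * c * (g' * g)
              = (g' * g)⁻¹ * ((g * g') * ((g * g')⁻¹ * c * (g * g')) * (g * g')⁻¹) * (g' * g) := by group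
            _ = (g' * g)⁻¹ * ((g' * g) * ((g * g')⁻¹ * c * (g * g')) * (g' * g)⁻¹) * (g' * g) := by
                congr 1; congr 1
                have hconj : ∀ v ∈ (S : Subgroup G), ∃ a ∈ A, v * c * v⁻¹ = a * c := fun v hv =>
                  ⟨_, frame_trans_value hC hA hF hv hcQ, (inv_mul_cancel_right _ _).symm⟩
                obtain ⟨a, ha, ea⟩ := hconj (g * g')⁻¹ (inv_mem (mul_mem hg hg'))
                rw [inv_inv] at ea
                rw [ea, show g * g' * (a * c) * (g * g')⁻¹ =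
                    (g * g' * a * (g * g')⁻¹) * (g * g' * c * (g * g')⁻¹) by group,
                  show g' * g * (a * c) * (g' * g)⁻¹ =
                    (g' * g * a * (g' * g)⁻¹) * (g' * g * c * (g' * g)⁻¹) by group,
                  hAc (mul_mem hg hg') ha, hAc (mul_mem hg' hg) ha, key]
            _ = _ := by group
      _ = c := by group
  have hcomm : ∀ g ∈ (S : Subgroup G), ∀ g' ∈ (S : Subgroup G), ∀ p ∈ Ppart c K U,
      g' * p * g'⁻¹ * p⁻¹ ∈ A → ∀ a ∈ A, g * p * g⁻¹ = a * c * p →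
        (g * g' * g⁻¹ * g'⁻¹) * p * (g * g' * g⁻¹ * g'⁻¹)⁻¹ = (g' * c * g'⁻¹ * c⁻¹) * p := by
    intro g hg g' hg' p hp hb a ha ea
    set b := g' * p * g'⁻¹ * p⁻¹ with hb'
    set d := g' * c * g'⁻¹ * c⁻¹ with hd'
    set z := g * g' * g⁻¹ * g'⁻¹ with hz'
    have hdA : d ∈ A := frame_trans_value hC hA hF hg' hcQ
    have eb : g' * p * g'⁻¹ = b * p := by rw [hb', inv_mul_cancel_right]
    have ed : g' * c * g'⁻¹ = d * c := by rw [hd', inv_mul_cancel_right]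
    have hzU := hz g hg g' hg'
    have hzS : z ∈ (S : Subgroup G) := hF.le hzU
    have h1 : g' * g * p * (g' * g)⁻¹ = a * d * c * b * p := by
      calc g' * g * p * (g' * g)⁻¹ = g' * (g * p * g⁻¹) * g'⁻¹ := by group
        _ = (g' * a * g'⁻¹) * (g' * c * g'⁻¹) * (g' * p * g'⁻¹) := by rw [ea]; group
        _ = _ := by rw [hAc hg' ha, ed, eb]; group
    have h3 : g * g' * p * (g * g')⁻¹ = b * a * c * p := by
      calc g * g' * p * (g * g')⁻¹ = g * (g' * p * g'⁻¹) * g⁻¹ := by group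
        _ = (g * b * g⁻¹) * (g * p * g⁻¹) := by rw [eb]; group
        _ = _ := by rw [hAc hg hb, ea]; group
    have h4 : z * (g' * g * p * (g' * g)⁻¹) * z⁻¹ = g * g' * p * (g * g')⁻¹ := by rw [hz']; group
    rw [h1, h3, show z * (a * d * c * b * p) * z⁻¹ =
      (z * a * z⁻¹) * (z * d * z⁻¹) * (z * c * z⁻¹) * (z * b * z⁻¹) * (z * p * z⁻¹) by group,
      hAc hzS ha, hAc hzS hdA, hAc hzS hb,
      show z * c * z⁻¹ = c by rw [← hcs hzU, mul_inv_cancel_right]] at h4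
    have c1 : b * c = c * b := (mem_centralizer_iff.1 hF.cent b hb)
    have h5 : z * p * z⁻¹ = (a * d * c * b)⁻¹ * (b * a * c * p) := by rw [← h4]; group
    have hd2 : d⁻¹ = d := inv_eq_of_mul_eq_one_right (exp_two hC hdA)
    rw [h5]
    calc (a * d * c * b)⁻¹ * (b * a * c * p) = b⁻¹ * c⁻¹ * d⁻¹ * (a⁻¹ * (b * a)) * c * p := by group
      _ = b⁻¹ * c⁻¹ * (d⁻¹ * b) * c * p := by
          rw [elementary_comm hC.pt.elem hb ha, inv_mul_cancel_left]; group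
      _ = b⁻¹ * c⁻¹ * (b * d) * c * p := by rw [hd2, elementary_comm hC.pt.elem hdA hb]
      _ = b⁻¹ * c⁻¹ * b * (d * c) * p := by group
      _ = b⁻¹ * c⁻¹ * b * (c * d) * p := by rw [mem_centralizer_iff.1 hF.cent d hdA]
      _ = b⁻¹ * c⁻¹ * (b * c) * d * p := by group
      _ = d * p := by rw [c1]; group
  have hUA : ∀ {u : G}, u ∈ U → ∀ p ∈ Ppart c K U, u * p * u⁻¹ * p⁻¹ ∈ A :=
    fun hu p hp => comm_P hC hA hF hd hu hp
  -- `[g, [g, g']]` lies in `A`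
  have honce : ∀ g ∈ (S : Subgroup G), ∀ g' ∈ (S : Subgroup G), ∀ p ∈ Ppart c K U, ∀ a ∈ A,
      ∀ q ∈ Qpart A c U, g * g' * g⁻¹ * g'⁻¹ = p * a * q → g' * p * g'⁻¹ * p⁻¹ ∈ A →
        g * p * g⁻¹ * p⁻¹ ∈ A := by
    intro g hg g' hg' p hp a ha q hq e hb
    rcases shape g hg p hp with h | ⟨a', ha', ea⟩
    · exact h
    exfalso
    have h1 := hcomm g hg g' hg' p hp hb a' ha' ea
    rw [e, show p * a * q * p * (p * a * q)⁻¹ = p * a * (q * p * q⁻¹) * a⁻¹ * p⁻¹ by group,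
      ← P_comm_Q hd hF.top hp hq, mul_inv_cancel_right,
      mul_assoc p a p, A_central hC hd hF.top ha hp.1] at h1
    have h1' : g' * c * g'⁻¹ * c⁻¹ = 1 := by
      have h1'' : p = g' * c * g'⁻¹ * c⁻¹ * p := by
        rw [← h1]; group
      exact (mul_eq_right.1 h1''.symm)
    have hg'U := S_inf_cent hC hA hF hcQ hc1 hg' (mul_inv_eq_iff_eq_mul.1 (mul_inv_eq_one.1 h1'))
    obtain ⟨p0, hp0, q0, hq0, e0⟩ := exists_P_mul_Q hd hF.top hg'U
    have hzAQ : ∃ b ∈ A, ∃ w ∈ Qpart A c U, g * g' * g⁻¹ * g'⁻¹ = b * w := by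
      have hcq := frame_trans_value hC hA hF hg hq0
      have e2 : g * g' * g⁻¹ * g'⁻¹ = (g * p0 * g⁻¹) * (g * q0 * g⁻¹ * q0⁻¹) * p0⁻¹ := by
        rw [e0]; group
      rw [e2]
      rcases shape g hg p0 hp0 with h | ⟨b, hb', eb⟩
      · refine ⟨_, mul_mem h hcq, 1, one_mem _, ?_⟩
        rw [mul_one, show (g * p0 * g⁻¹) * (g * q0 * g⁻¹ * q0⁻¹) * p0⁻¹ =
          (g * p0 * g⁻¹ * p0⁻¹) * (p0 * (g * q0 * g⁻¹ * q0⁻¹) * p0⁻¹) by group,
          hAc (hF.le hp0.1) hcq]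
      · refine ⟨_, mul_mem hb' hcq, c, hcQ, ?_⟩
        rw [eb, show b * c * p0 * (g * q0 * g⁻¹ * q0⁻¹) * p0⁻¹ =
          b * (c * (p0 * (g * q0 * g⁻¹ * q0⁻¹) * p0⁻¹)) by group, hAc (hF.le hp0.1) hcq,
          ← mem_centralizer_iff.1 hF.cent _ hcq, ← mul_assoc]
    obtain ⟨b, hb', w, hw, ew⟩ := hzAQ
    have hbP := A_le_P hd hF.top hb'
    have h6 : b⁻¹ * (p * a) = 1 := P_inf_Q hd hF.top
      ((Ppart c K U).mul_mem ((Ppart c K U).inv_mem hbP) ((Ppart c K U).mul_mem hp (A_le_P hd hF.top ha)))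
      (by
        have h7 : b⁻¹ * (p * a) = w * q⁻¹ := by
          rw [show p * a = b * w * q⁻¹ by rw [← ew, e, mul_inv_cancel_right]]; group
        rw [h7]; exact mul_mem hw (inv_mem hq))
    have hpA : p ∈ A := by
      have h8 := (inv_mul_eq_one.1 h6)
      rw [show p = b * a⁻¹ by rw [h8, mul_inv_cancel_right]]
      exact mul_mem hb' (inv_mem ha)
    rw [hAc hg hpA] at ea
    have h9 : a' * c = 1 := mul_eq_right.1 ea.symm
    exact not_isA_of_bad hC hF.bad (isA_of_mem (by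
      rw [eq_inv_of_mul_eq_one_right h9]; exact inv_mem ha') hc1)
  have hOK : ∀ g ∈ (S : Subgroup G), ∀ g' ∈ (S : Subgroup G),
      g * (g * g' * g⁻¹ * g'⁻¹) * g⁻¹ * (g * g' * g⁻¹ * g'⁻¹)⁻¹ ∈ A := by
    intro g hg g' hg'
    obtain ⟨p, hp, q, hq, e⟩ := exists_P_mul_Q hd hF.top (hz g hg g' hg')
    have hgq := frame_trans_value hC hA hF hg hq
    suffices h : g * p * g⁻¹ * p⁻¹ ∈ A by
      rw [e, show g * (p * q) * g⁻¹ * (p * q)⁻¹ =
        (g * p * g⁻¹ * p⁻¹) * (p * (g * q * g⁻¹ * q⁻¹) * p⁻¹) by group, hAc (hF.le hp.1) hgq]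
      exact mul_mem h hgq
    rcases shape g' hg' p hp with h | ⟨a', ha', ea'⟩
    · exact honce g hg g' hg' p hp 1 (one_mem _) q hq (by rw [mul_one]; exact e) h
    by_contra hcon
    obtain ⟨a, ha, ea⟩ := (shape g hg p hp).resolve_left hcon
    set e0 := g * c * g⁻¹ * c⁻¹ with he0
    have he0A : e0 ∈ A := frame_trans_value hC hA hF hg hcQ
    have ec : g * c * g⁻¹ = e0 * c := by rw [he0, inv_mul_cancel_right]
    have hgg : g * g' * p * (g * g')⁻¹ * p⁻¹ ∈ A := by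
      rw [show g * g' * p * (g * g')⁻¹ = g * (g' * p * g'⁻¹) * g⁻¹ by group, ea',
        show g * (a' * c * p) * g⁻¹ = (g * a' * g⁻¹) * (g * c * g⁻¹) * (g * p * g⁻¹) by group,
        hAc hg ha', ec, ea,
        show a' * (e0 * c) * (a * c * p) * p⁻¹ = a' * e0 * (c * a) * c by group,
        ← mem_centralizer_iff.1 hF.cent a ha, show a' * e0 * (a * c) * c = a' * e0 * a * (c * c) by group,
        involution_sq hF.bad.ord, mul_one]
      exact mul_mem (mul_mem ha' he0A) ha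
    have hgq' := hgq
    refine hcon (honce g hg (g * g') (mul_mem hg hg') p hp _ (mul_mem ha hgq) (c * q)
      ((Qpart A c U).mul_mem hcQ hq) ?_ hgg)
    have hgqe : g * q * g⁻¹ = g * q * g⁻¹ * q⁻¹ * q := (inv_mul_cancel_right _ _).symm
    calc g * (g * g') * g⁻¹ * (g * g')⁻¹ = g * (g * g' * g⁻¹ * g'⁻¹) * g⁻¹ := by group
      _ = (g * p * g⁻¹) * (g * q * g⁻¹) := by rw [e]; group
      _ = a * (c * p) * (g * q * g⁻¹ * q⁻¹ * q) := by rw [ea, ← hgqe]; group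
      _ = a * (p * c) * (g * q * g⁻¹ * q⁻¹ * q) := by rw [hcs hp.1]
      _ = (a * p) * (c * (g * q * g⁻¹ * q⁻¹)) * q := by group
      _ = p * a * ((g * q * g⁻¹ * q⁻¹) * c) * q := by
          rw [A_central hC hd hF.top ha hp.1, mem_centralizer_iff.1 hF.cent _ hgq]
      _ = p * (a * (g * q * g⁻¹ * q⁻¹)) * (c * q) := by group
  -- the elements with all commutators in `A`
  let R0 : Subgroup G :=
    { carrier := {u | u ∈ U ∧ ∀ h ∈ (S : Subgroup G), h * u * h⁻¹ * u⁻¹ ∈ A}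
      one_mem' := ⟨one_mem _, fun h _ => by simp⟩
      mul_mem' := fun {u v} hu hv => ⟨mul_mem hu.1 hv.1, fun h hh => by
        rw [show h * (u * v) * h⁻¹ * (u * v)⁻¹ =
          (h * u * h⁻¹ * u⁻¹) * (u * (h * v * h⁻¹ * v⁻¹) * u⁻¹) by group, hAc (hF.le hu.1) (hv.2 h hh)]
        exact mul_mem (hu.2 h hh) (hv.2 h hh)⟩
      inv_mem' := fun {u} hu => ⟨inv_mem hu.1, fun h hh => by
        rw [show h * u⁻¹ * h⁻¹ * u⁻¹⁻¹ = u⁻¹ * (h * u * h⁻¹ * u⁻¹)⁻¹ * u⁻¹⁻¹ by group,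
          hAc (hF.le (inv_mem hu.1)) (inv_mem (hu.2 h hh))]
        exact inv_mem (hu.2 h hh)⟩ }
  have hsqR : ∀ g ∈ (S : Subgroup G), g ^ 2 ∈ R0 := by
    intro g hg
    have hgU : g ^ 2 ∈ U := by
      refine S_inf_cent hC hA hF hcQ hc1 (pow_mem hg 2) (mul_inv_eq_iff_eq_mul.1 ?_)
      set e := g * c * g⁻¹ * c⁻¹ with he
      have heA : e ∈ A := frame_trans_value hC hA hF hg hcQ
      have e1 : g * c * g⁻¹ = e * c := by rw [he, inv_mul_cancel_right]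
      rw [show g ^ 2 * c * (g ^ 2)⁻¹ = g * (g * c * g⁻¹) * g⁻¹ by rw [sq]; group, e1,
        show g * (e * c) * g⁻¹ = (g * e * g⁻¹) * (g * c * g⁻¹) by group, hAc hg heA, e1, ← mul_assoc,
        exp_two hC heA, one_mul]
    refine ⟨hgU, fun g' hg' => ?_⟩
    have hzU := hz g hg g' hg'
    obtain ⟨p, hp, q, hq, e⟩ := exists_P_mul_Q hd hF.top hzU
    have hzz : (g * g' * g⁻¹ * g'⁻¹) * (g * g' * g⁻¹ * g'⁻¹) ∈ A := by
      rw [e, ← sq, (show Commute p q from P_comm_Q hd hF.top hp hq).mul_pow, hQ2 q hq, mul_one]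
      exact P_sq_mem hC hd hF.top hp
    have h1 : g ^ 2 * g' * (g ^ 2)⁻¹ * g'⁻¹ ∈ A := by
      rw [show g ^ 2 * g' * (g ^ 2)⁻¹ * g'⁻¹ =
        (g * (g * g' * g⁻¹ * g'⁻¹) * g⁻¹ * (g * g' * g⁻¹ * g'⁻¹)⁻¹) *
          ((g * g' * g⁻¹ * g'⁻¹) * (g * g' * g⁻¹ * g'⁻¹)) by simp only [sq]; group]
      exact mul_mem (hOK g hg g' hg') hzz
    rw [show g' * g ^ 2 * g'⁻¹ * (g ^ 2)⁻¹ = (g ^ 2 * g' * (g ^ 2)⁻¹ * g'⁻¹)⁻¹ by group]
    exact inv_mem h1
  have hzR : ∀ g ∈ (S : Subgroup G), ∀ g' ∈ (S : Subgroup G), g * g' * g⁻¹ * g'⁻¹ ∈ R0 := by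
    intro g hg g' hg'
    rw [show g * g' * g⁻¹ * g'⁻¹ = g ^ 2 * (g⁻¹ * g') ^ 2 * (g' ^ 2)⁻¹ by simp only [sq]; group]
    exact mul_mem (mul_mem (hsqR g hg) (hsqR _ (mul_mem (inv_mem hg) hg'))) (inv_mem (hsqR g' hg'))
  -- conclusion
  by_contra hcon
  let Kp : ∀ p, p ∈ Ppart c K U → Subgroup G := fun p hp =>
    { carrier := {g | g ∈ (S : Subgroup G) ∧ g * p * g⁻¹ * p⁻¹ ∈ A}
      one_mem' := ⟨one_mem _, by simp⟩
      mul_mem' := fun {x y} hx hy => ⟨mul_mem hx.1 hy.1, by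
        rw [show x * y * p * (x * y)⁻¹ * p⁻¹ = (x * (y * p * y⁻¹ * p⁻¹) * x⁻¹) * (x * p * x⁻¹ * p⁻¹) by
          group, hAc hx.1 hy.2]
        exact mul_mem hy.2 hx.2⟩
      inv_mem' := fun {x} hx => ⟨inv_mem hx.1, by
        rw [show x⁻¹ * p * x⁻¹⁻¹ * p⁻¹ = x⁻¹ * (x * p * x⁻¹ * p⁻¹)⁻¹ * x⁻¹⁻¹ by group,
          hAc (inv_mem hx.1) (inv_mem hx.2)]
        exact inv_mem hx.2⟩ }
  have hUK : ∀ p (hp : p ∈ Ppart c K U), U ≤ Kp p hp := fun p hp u hu => ⟨hF.le hu, hUA hu p hp⟩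
  have hKidx : ∀ p (hp : p ∈ Ppart c K U), ∀ x ∈ (S : Subgroup G), ∀ y ∈ (S : Subgroup G),
      x ∉ Kp p hp → y ∉ Kp p hp → x⁻¹ * y ∈ Kp p hp := by
    intro p hp x hx y hy hxK hyK
    obtain ⟨a, ha, ea⟩ := (shape x hx p hp).resolve_left fun h => hxK ⟨hx, h⟩
    obtain ⟨b, hb, eb⟩ := (shape y hy p hp).resolve_left fun h => hyK ⟨hy, h⟩
    refine ⟨mul_mem (inv_mem hx) hy, ?_⟩
    set e := x⁻¹ * c * x⁻¹⁻¹ * c⁻¹ with he
    have heA : e ∈ A := frame_trans_value hC hA hF (inv_mem hx) hcQ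
    have e1 : x⁻¹ * c * x = e * c := by rw [he, inv_inv, inv_mul_cancel_right]
    have hp' : x⁻¹ * p * x = a * e * c * p := by
      have h1 : x⁻¹ * (a * c * p) * x = p := by rw [← ea]; group
      rw [show x⁻¹ * (a * c * p) * x = (x⁻¹ * a * x) * (x⁻¹ * c * x) * (x⁻¹ * p * x) by group,
        show x⁻¹ * a * x = a by have := hAc (inv_mem hx) ha; rwa [inv_inv] at this, e1] at h1
      calc x⁻¹ * p * x = (a * (e * c))⁻¹ * (a * (e * c) * (x⁻¹ * p * x)) := by group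
        _ = (a * (e * c))⁻¹ * p := by rw [h1]
        _ = (c⁻¹ * (e⁻¹ * a⁻¹)) * p := by group
        _ = ((e⁻¹ * a⁻¹) * c⁻¹) * p := by
            rw [involution_inv hF.bad.ord,
              mem_centralizer_iff.1 hF.cent _ (mul_mem (inv_mem heA) (inv_mem ha))]
        _ = a * e * c * p := by
            rw [involution_inv hF.bad.ord, inv_eq_of_mul_eq_one_right (exp_two hC heA),
              inv_eq_of_mul_eq_one_right (exp_two hC ha), elementary_comm hC.pt.elem heA ha]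
    rw [show x⁻¹ * y * p * (x⁻¹ * y)⁻¹ = x⁻¹ * (y * p * y⁻¹) * x by group, eb,
      show x⁻¹ * (b * c * p) * x = (x⁻¹ * b * x) * (x⁻¹ * c * x) * (x⁻¹ * p * x) by group,
      show x⁻¹ * b * x = b by have := hAc (inv_mem hx) hb; rwa [inv_inv] at this, e1, hp',
      show b * (e * c) * (a * e * c * p) * p⁻¹ = b * e * (c * (a * e)) * c by group,
      ← mem_centralizer_iff.1 hF.cent _ (mul_mem ha heA),
      show b * e * (a * e * c) * c = b * e * (a * e) * (c * c) by group,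
      involution_sq hF.bad.ord, mul_one]
    exact mul_mem (mul_mem hb heA) (mul_mem ha heA)
  have hgt : ∀ {B : Subgroup G}, 4 * Nat.card B ≤ 4 * Nat.card U → Nat.card (S : Subgroup G) ≤ 4 * Nat.card B →
      False := fun {B} h1 h3 => by
    rw [hF.card] at h3
    have h8 := hC.pt.card
    have hU0 : 0 < Nat.card U := Nat.card_pos
    nlinarith
  -- all these subgroups are equal
  have hKeq : ∀ p (hp : p ∈ Ppart c K U) p' (hp' : p' ∈ Ppart c K U),
      ¬ (∀ h ∈ (S : Subgroup G), h * p * h⁻¹ * p⁻¹ ∈ A) →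
      ¬ (∀ h ∈ (S : Subgroup G), h * p' * h⁻¹ * p'⁻¹ ∈ A) → Kp p' hp' ≤ Kp p hp := by
    intro p hp p' hp' hpR hp'R g hg
    by_contra hgK
    have h1 : Nat.card (S : Subgroup G) ≤ 4 * Nat.card (Kp p hp ⊓ Kp p' hp' : Subgroup G) := by
      have e1 := card_le_two_mul_inf (H := (S : Subgroup G)) (L := Kp p hp) (hKidx p hp)
      rw [inf_eq_right.2 (fun x (hx : x ∈ Kp p hp) => hx.1)] at e1
      have e2 := card_le_two_mul_inf (H := Kp p hp) (L := Kp p' hp')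
        (fun x hx y hy => hKidx p' hp' x hx.1 y hy.1)
      omega
    obtain ⟨g', hg'K, hg'U⟩ : ∃ g' ∈ (Kp p hp ⊓ Kp p' hp' : Subgroup G), g' ∉ U := by
      by_contra h
      push Not at h
      exact hgt (Nat.mul_le_mul_left 4 (Nat.le_of_dvd Nat.card_pos (card_dvd_of_le h))) h1
    obtain ⟨hg'p, hg'p'⟩ := mem_inf.1 hg'K
    obtain ⟨a, ha, ea⟩ := (shape g hg.1 p hp).resolve_left fun h => hgK ⟨hg.1, h⟩
    have h3 := hcomm g hg.1 g' hg'p.1 p hp hg'p.2 a ha ea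
    set z := g * g' * g⁻¹ * g'⁻¹ with hz'
    obtain ⟨p1, hp1, q1, hq1, e⟩ := exists_P_mul_Q hd hF.top (hz g hg.1 g' hg'p.1)
    -- `z` centralises `p'`
    have h4 : z * p' * z⁻¹ = p' := by
      set b := g' * p' * g'⁻¹ * p'⁻¹ with hb'
      set b2 := g * p' * g⁻¹ * p'⁻¹ with hb2
      have eb : g' * p' * g'⁻¹ = b * p' := by rw [hb', inv_mul_cancel_right]
      have eb2 : g * p' * g⁻¹ = b2 * p' := by rw [hb2, inv_mul_cancel_right]
      have hbA : b ∈ A := hg'p'.2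
      have hb2A : b2 ∈ A := hg.2
      have h5 : g * g' * p' * (g * g')⁻¹ = b * b2 * p' := by
        rw [show g * g' * p' * (g * g')⁻¹ = g * (g' * p' * g'⁻¹) * g⁻¹ by group, eb,
          show g * (b * p') * g⁻¹ = (g * b * g⁻¹) * (g * p' * g⁻¹) by group, hAc hg.1 hbA, eb2, ← mul_assoc]
      have h6 : g' * g * p' * (g' * g)⁻¹ = b * b2 * p' := by
        rw [show g' * g * p' * (g' * g)⁻¹ = g' * (g * p' * g⁻¹) * g'⁻¹ by group, eb2,
          show g' * (b2 * p') * g'⁻¹ = (g' * b2 * g'⁻¹) * (g' * p' * g'⁻¹) by group,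
          hAc hg'p.1 hb2A, eb, ← mul_assoc, elementary_comm hC.pt.elem hb2A hbA]
      have h7 : z * (g' * g * p' * (g' * g)⁻¹) * z⁻¹ = g * g' * p' * (g * g')⁻¹ := by rw [hz']; group
      rw [h5, h6, show z * (b * b2 * p') * z⁻¹ = (z * (b * b2) * z⁻¹) * (z * p' * z⁻¹) by group,
        hAc (hF.le (hz g hg.1 g' hg'p.1)) (mul_mem hbA hb2A)] at h7
      exact mul_left_cancel h7
    have h5 : p1 * p' = p' * p1 := by
      have h6 := mul_inv_eq_iff_eq_mul.1 h4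
      rw [hz', e, mul_assoc p1 q1, ← P_comm_Q hd hF.top hp' hq1, ← mul_assoc, ← mul_assoc] at h6
      exact mul_right_cancel h6
    have hp'A : p' ∉ A := fun h => hp'R fun x hx => by
      rw [hAc hx h, mul_inv_cancel]; exact one_mem _
    have hp1R : ∀ x ∈ (S : Subgroup G), x * p1 * x⁻¹ * p1⁻¹ ∈ A := by
      intro x hx
      have hz1 := (hzR g hg.1 g' hg'p.1).2 x hx
      have hxq := frame_trans_value hC hA hF hx hq1
      rw [e, show x * (p1 * q1) * x⁻¹ * (p1 * q1)⁻¹ =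
        (x * p1 * x⁻¹ * p1⁻¹) * (p1 * (x * q1 * x⁻¹ * q1⁻¹) * p1⁻¹) by group,
        hAc (hF.le hp1.1) hxq] at hz1
      have := mul_mem hz1 (inv_mem hxq)
      rwa [mul_inv_cancel_right] at this
    have hp1A : p1 ∈ A := by
      rcases mem_of_commute_P hC hd hF.top hp' hp1 hp'A h5 with h | h
      · exact h
      · refine absurd (fun x hx => ?_) hp'R
        have h6 := hp1R x hx
        rw [show p1 = p' * (p'⁻¹ * p1) by group] at h6
        rw [show x * (p' * (p'⁻¹ * p1)) * x⁻¹ * (p' * (p'⁻¹ * p1))⁻¹ =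
          (x * p' * x⁻¹) * (x * (p'⁻¹ * p1) * x⁻¹ * (p'⁻¹ * p1)⁻¹) * p'⁻¹ by group, hAc hx h,
          mul_inv_cancel, mul_one] at h6
        exact h6
    have h7 : z * p * z⁻¹ = p := by
      rw [hz', e, show p1 * q1 * p * (p1 * q1)⁻¹ = p1 * (q1 * p * q1⁻¹) * p1⁻¹ by group,
        ← P_comm_Q hd hF.top hp hq1, mul_inv_cancel_right, A_central hC hd hF.top hp1A hp.1,
        mul_inv_cancel_right]
    rw [h7] at h3
    have h8 : g' * c * g'⁻¹ * c⁻¹ = 1 := mul_eq_right.1 h3.symm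
    exact hg'U (S_inf_cent hC hA hF hcQ hc1 hg'p.1 (mul_inv_eq_iff_eq_mul.1 (mul_inv_eq_one.1 h8)))
  -- invariance under a torus element
  obtain ⟨τ, hτo, hτS, hτU, hτA, hτl, hτn, hτQ⟩ := exists_tau_frame hC hA hF
  have hτc : τ ∈ cH c := mem_centralizer_singleton_iff.2 (hτQ c hcQ)
  have hpR : ¬ ∀ h ∈ (S : Subgroup G), h * p * h⁻¹ * p⁻¹ ∈ A := fun h => hcon (h g hg)
  set p' := τ * p * τ⁻¹ with hp''
  have hp' : p' ∈ Ppart c K U := Ppart_conj hC hA hd hF.top hτU hτc hp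
  have hconjA : ∀ x : G, τ * x * τ⁻¹ ∈ A → x ∈ A := fun x h => (mem_normalizer_iff.1 hτA x).2 h
  have hp'R : ¬ ∀ h ∈ (S : Subgroup G), h * p' * h⁻¹ * p'⁻¹ ∈ A := fun h => hpR fun x hx =>
    hconjA _ (by
      have := h (τ * x * τ⁻¹) ((mem_normalizer_iff.1 hτS x).1 hx)
      convert this using 1
      rw [hp'']; group)
  have hKK : ∀ x ∈ Kp p hp, τ * x * τ⁻¹ ∈ Kp p hp := fun x hx => hKeq p hp p' hp' hpR hp'R
    ⟨(mem_normalizer_iff.1 hτS x).1 hx.1, by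
      rw [hp'', show τ * x * τ⁻¹ * (τ * p * τ⁻¹) * (τ * x * τ⁻¹)⁻¹ * (τ * p * τ⁻¹)⁻¹ =
        τ * (x * p * x⁻¹ * p⁻¹) * τ⁻¹ by group]
      exact (mem_normalizer_iff.1 hτA _).1 hx.2⟩
  let val : Kp p hp →* A := MonoidHom.mk' (fun e => ⟨(e : G) * c * (e : G)⁻¹ * c⁻¹,
      frame_trans_value hC hA hF e.2.1 hcQ⟩) fun e e' => Subtype.ext (by
    have h1 := frame_trans_value hC hA hF e'.2.1 hcQ
    show (e : G) * e' * c * ((e : G) * e')⁻¹ * c⁻¹ =
      ((e : G) * c * (e : G)⁻¹ * c⁻¹) * ((e' : G) * c * (e' : G)⁻¹ * c⁻¹)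
    rw [show (e : G) * e' * c * ((e : G) * e')⁻¹ * c⁻¹ =
      (e : G) * ((e' : G) * c * (e' : G)⁻¹ * c⁻¹) * (e : G)⁻¹ * ((e : G) * c * (e : G)⁻¹ * c⁻¹) by group,
      hAc e.2.1 h1]
    exact elementary_comm hC.pt.elem h1 (frame_trans_value hC hA hF e.2.1 hcQ))
  rcases hA.irr τ hτA hτl hτn (val.range.map A.subtype) (map_subtype_le _) (by
      rintro _ ⟨_, ⟨e, rfl⟩, rfl⟩
      refine ⟨val ⟨_, hKK e e.2⟩, ⟨_, rfl⟩, ?_⟩
      show τ * e * τ⁻¹ * c * (τ * e * τ⁻¹)⁻¹ * c⁻¹ = τ * ((e : G) * c * (e : G)⁻¹ * c⁻¹) * τ⁻¹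
      have hcτ : τ * c * τ⁻¹ = c := by rw [hτQ c hcQ, mul_inv_cancel_right]
      rw [show τ * ((e : G) * c * (e : G)⁻¹ * c⁻¹) * τ⁻¹ =
        (τ * e * τ⁻¹) * (τ * c * τ⁻¹) * (τ * e * τ⁻¹)⁻¹ * (τ * c * τ⁻¹)⁻¹ by group, hcτ]) with h | h
  · have hle : Kp p hp ≤ U := fun x hx => S_inf_cent hC hA hF hcQ hc1 hx.1 (mul_inv_eq_iff_eq_mul.1
      (mul_inv_eq_one.1 (by rw [← mem_bot, ← h]; exact ⟨val ⟨x, hx⟩, ⟨_, rfl⟩, rfl⟩)))
    have e1 := card_le_two_mul_inf (H := (S : Subgroup G)) (L := Kp p hp) (hKidx p hp)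
    rw [inf_eq_right.2 (fun x (hx : x ∈ Kp p hp) => hx.1)] at e1
    exact hgt (Nat.mul_le_mul_left 4 (Nat.le_of_dvd Nat.card_pos (card_dvd_of_le hle))) (by omega)
  · refine hcon ?_
    obtain ⟨_, ⟨e, rfl⟩, ee⟩ : g * c * g⁻¹ * c⁻¹ ∈ val.range.map A.subtype := by
      rw [h]; exact frame_trans_value hC hA hF hg hcQ
    have e1 : (e : G) * c * (e : G)⁻¹ = g * c * g⁻¹ := mul_right_cancel (ee :)
    have hu : (e : G)⁻¹ * g ∈ U := by
      refine S_inf_cent hC hA hF hcQ hc1 (mul_mem (inv_mem e.2.1) hg) ?_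
      calc (e : G)⁻¹ * g * c = (e : G)⁻¹ * (g * c * g⁻¹) * g := by group
        _ = (e : G)⁻¹ * ((e : G) * c * (e : G)⁻¹) * g := by rw [e1]
        _ = c * ((e : G)⁻¹ * g) := by group
    have := (Kp p hp).mul_mem e.2 (hUK p hp hu)
    rw [mul_inv_cancel_left] at this
    exact this.2

/-- A subgroup of index two of `S` over `A` avoiding `c`. -/
theorem exists_hom_of_two : ∃ M : Subgroup G, M ≤ (S : Subgroup G) ∧ A ≤ M ∧ c ∉ M ∧
    M.relIndex (S : Subgroup G) = 2 := by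
  classical
  obtain ⟨K, k, T, hd⟩ := exists_blockData hC hF.bad hF.cent
  obtain ⟨hQ2, hAQ, -, hcQ, -⟩ := frame_Q_data hC hA hF
  obtain ⟨τ, hτo, hτS, hτU, hτA, hτl, hτn, hτQ⟩ := exists_tau_frame hC hA hF
  have hτc : τ ∈ cH c := mem_centralizer_singleton_iff.2 (hτQ c hcQ)
  have hc1 := involution_ne_one hF.bad.ord
  have hSX := S_le_centralizer hC hA
  set P := Ppart c K U with hPdef
  have hPS : P ≤ (S : Subgroup G) := fun p hp => hF.le hp.1
  have hAP : A ≤ P := A_le_P hd hF.top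
  have hAc : ∀ {x a : G}, x ∈ (S : Subgroup G) → a ∈ A → x * a * x⁻¹ = a := fun hx ha =>
    commute_of_mem_cent ha (hSX hx)
  have hPn : ∀ x ∈ (S : Subgroup G), ∀ p ∈ P, x * p * x⁻¹ ∈ P := fun x hx p hp => by
    have := P.mul_mem (hAP (comm_P_of_two hC hA hF h2 hd hx hp)) hp
    rwa [inv_mul_cancel_right] at this
  have hPτ : ∀ p ∈ P, τ * p * τ⁻¹ ∈ P := fun p hp => Ppart_conj hC hA hd hF.top hτU hτc hp
  -- the kernel part of an element of `U`
  have hdec : ∀ u : U, ∃ q : Qpart A c U, (u : G) * (q : G)⁻¹ ∈ P := fun u => by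
    obtain ⟨p, hp, q, hq, e⟩ := exists_P_mul_Q hd hF.top u.2
    exact ⟨⟨q, hq⟩, by rw [e, mul_inv_cancel_right]; exact hp⟩
  choose π hπ using hdec
  have huniq : ∀ (u : U) (q : G), q ∈ Qpart A c U → (u : G) * q⁻¹ ∈ P → (π u : G) = q := by
    intro u q hq hu
    have := P.mul_mem (P.inv_mem (hπ u)) hu
    rw [show ((u : G) * (π u : G)⁻¹)⁻¹ * ((u : G) * q⁻¹) = (π u : G) * q⁻¹ by group] at this
    exact mul_inv_eq_one.1 (P_inf_Q hd hF.top this (mul_mem (π u).2 (inv_mem hq)))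
  have hπmul : ∀ u v : U, (π (u * v) : G) = π u * π v := by
    intro u v
    refine huniq _ _ (mul_mem (π u).2 (π v).2) ?_
    have hvQ := P_comm_Q hd hF.top (hπ v) (π u).2
    have := P.mul_mem (hπ u) (hπ v)
    convert this using 1
    show (u : G) * v * ((π u : G) * π v)⁻¹ = _
    calc (u : G) * v * ((π u : G) * π v)⁻¹ = (u : G) * ((v : G) * (π v : G)⁻¹ * (π u : G)⁻¹) := by group
      _ = (u : G) * ((π u : G)⁻¹ * ((v : G) * (π v : G)⁻¹)) := by
          rw [((show Commute ((v : G) * (π v : G)⁻¹) (π u : G) from hvQ).inv_right).eq]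
      _ = _ := by group
  have hπone : ∀ u : U, ((π u : G) = 1 ↔ (u : G) ∈ P) := fun u =>
    ⟨fun h => by have := hπ u; rwa [h, inv_one, mul_one] at this,
      fun h => huniq u 1 (one_mem _) (by rwa [inv_one, mul_one])⟩
  -- commutators
  have hz : ∀ g ∈ (S : Subgroup G), ∀ g' ∈ (S : Subgroup G), g * g' * g⁻¹ * g'⁻¹ ∈ U := by
    intro g hg g' hg'
    refine S_inf_cent hC hA hF hcQ hc1 (mul_mem (mul_mem (mul_mem hg hg') (inv_mem hg)) (inv_mem hg')) ?_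
    let ev : (S : Subgroup G) →* A :=
      MonoidHom.mk' (fun g => ⟨g * c * (g : G)⁻¹ * c⁻¹, frame_trans_value hC hA hF g.2 hcQ⟩)
      fun g h => Subtype.ext (by
        show (g : G) * h * c * ((g : G) * h)⁻¹ * c⁻¹ =
          (g * c * (g : G)⁻¹ * c⁻¹) * (h * c * (h : G)⁻¹ * c⁻¹)
        rw [show (g : G) * h * c * ((g : G) * h)⁻¹ * c⁻¹ =
          (g : G) * ((h : G) * c * (h : G)⁻¹ * c⁻¹) * (g : G)⁻¹ * (g * c * (g : G)⁻¹ * c⁻¹) by group,
          hAc g.2 (frame_trans_value hC hA hF h.2 hcQ)]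
        exact elementary_comm hC.pt.elem (frame_trans_value hC hA hF h.2 hcQ)
          (frame_trans_value hC hA hF g.2 hcQ))
    have h1 : ev (⟨g, hg⟩ * ⟨g', hg'⟩ * ⟨g, hg⟩⁻¹ * ⟨g', hg'⟩⁻¹) = 1 := by
      rw [map_mul, map_mul, map_mul, map_inv, map_inv,
        show ev ⟨g, hg⟩ * ev ⟨g', hg'⟩ = ev ⟨g', hg'⟩ * ev ⟨g, hg⟩ from
          Subtype.ext (elementary_comm hC.pt.elem (ev _).2 (ev _).2)]
      group
    exact mul_inv_eq_iff_eq_mul.1 (mul_inv_eq_one.1 (congrArg Subtype.val h1))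
  let κ : ↥(S : Subgroup G) → ↥(S : Subgroup G) → ↥(Qpart A c U) := fun s t =>
    π ⟨_, hz s s.2 t t.2⟩
  have hπconj : ∀ (s : G) (hs : s ∈ (S : Subgroup G)) (u : U) (h : s * u * s⁻¹ ∈ U),
      (π ⟨_, h⟩ : G) = π u := by
    intro s hs u h
    refine huniq _ _ (π u).2 ?_
    show s * u * s⁻¹ * (π u : G)⁻¹ ∈ P
    have h1 := P.mul_mem (hPn s hs _ (hπ u)) (hAP (frame_trans_value hC hA hF hs (π u).2))
    convert h1 using 1
    group
  have hκl : ∀ s t r, κ (s * t) r = κ s r * κ t r := by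
    intro s t r
    refine Subtype.ext ?_
    have hconjU : (s : G) * ((t : G) * r * (t : G)⁻¹ * (r : G)⁻¹) * (s : G)⁻¹ ∈ U :=
      (mem_normalizer_iff.1 (hF.trans_le s.2).2.1 _).1 (hz t t.2 r r.2)
    show (π _ : G) = π _ * π _
    rw [show (⟨_, hz ((s * t : (S : Subgroup G)) : G) (s * t).2 r r.2⟩ : U) =
      ⟨_, hconjU⟩ * ⟨_, hz s s.2 r r.2⟩ from Subtype.ext (by
        show (s : G) * t * r * ((s : G) * t)⁻¹ * (r : G)⁻¹ = _ * _
        group), hπmul, hπconj s s.2 ⟨_, hz t t.2 r r.2⟩ hconjU]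
    exact (congrArg Subtype.val (show π ⟨_, hz s s.2 r r.2⟩ * π ⟨_, hz t t.2 r r.2⟩ = _ from rfl)).symm.trans
      (Subtype.ext_iff.1 (Subtype.ext (by
        rcases Q_two hC hA hF h2 (π ⟨_, hz s s.2 r r.2⟩).2 with e | e <;>
          rcases Q_two hC hA hF h2 (π ⟨_, hz t t.2 r r.2⟩).2 with e' | e' <;>
          simp [e, e']) : (π ⟨_, hz s s.2 r r.2⟩ * π ⟨_, hz t t.2 r r.2⟩ : Qpart A c U) =
            π ⟨_, hz t t.2 r r.2⟩ * π ⟨_, hz s s.2 r r.2⟩))
      |>.symm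
  have hκr : ∀ s t r, κ s (t * r) = κ s t * κ s r := by
    intro s t r
    refine Subtype.ext ?_
    have hconjU : (t : G) * ((s : G) * r * (s : G)⁻¹ * (r : G)⁻¹) * (t : G)⁻¹ ∈ U :=
      (mem_normalizer_iff.1 (hF.trans_le t.2).2.1 _).1 (hz s s.2 r r.2)
    show (π _ : G) = π _ * π _
    rw [show (⟨_, hz (s : G) s.2 ((t * r : (S : Subgroup G)) : G) (t * r).2⟩ : U) =
      ⟨_, hz s s.2 t t.2⟩ * ⟨_, hconjU⟩ from Subtype.ext (by
        show (s : G) * ((t : G) * r) * (s : G)⁻¹ * ((t : G) * r)⁻¹ = _ * _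
        group), hπmul, hπconj t t.2 ⟨_, hz s s.2 r r.2⟩ hconjU]
  have hκU : ∀ (u s : (S : Subgroup G)), (u : G) ∈ U → κ u s = 1 ∧ κ s u = 1 := by
    intro u s hu
    have h1 : (s : G) * u * (s : G)⁻¹ * (u : G)⁻¹ ∈ P := by
      obtain ⟨p, hp, q, hq, e⟩ := exists_P_mul_Q hd hF.top hu
      rw [e, show (s : G) * (p * q) * (s : G)⁻¹ * (p * q)⁻¹ =
        ((s : G) * p * (s : G)⁻¹ * p⁻¹) * (p * ((s : G) * q * (s : G)⁻¹ * q⁻¹) * p⁻¹) by group,
        hAc (hF.le hp.1) (frame_trans_value hC hA hF s.2 hq)]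
      exact hAP (mul_mem (comm_P_of_two hC hA hF h2 hd s.2 hp) (frame_trans_value hC hA hF s.2 hq))
    refine ⟨Subtype.ext ((hπone _).2 ?_), Subtype.ext ((hπone _).2 h1)⟩
    show (u : G) * s * (u : G)⁻¹ * (s : G)⁻¹ ∈ P
    have := P.inv_mem h1
    convert this using 1
    group
  have hκτ : ∀ s t : (S : Subgroup G),
      κ ⟨τ * s * τ⁻¹, (mem_normalizer_iff.1 hτS _).1 s.2⟩ ⟨τ * t * τ⁻¹, (mem_normalizer_iff.1 hτS _).1 t.2⟩ =
        κ s t := by
    intro s t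
    refine Subtype.ext (huniq _ _ (κ s t).2 ?_)
    show τ * s * τ⁻¹ * (τ * t * τ⁻¹) * (τ * s * τ⁻¹)⁻¹ * (τ * t * τ⁻¹)⁻¹ * (κ s t : G)⁻¹ ∈ P
    have := hPτ _ (hπ ⟨_, hz s s.2 t t.2⟩)
    have hq := hτQ _ (κ s t).2
    convert this using 1
    show _ = τ * ((s : G) * t * (s : G)⁻¹ * (t : G)⁻¹ * (κ s t : G)⁻¹) * τ⁻¹
    rw [show τ * ((s : G) * t * (s : G)⁻¹ * (t : G)⁻¹ * (κ s t : G)⁻¹) * τ⁻¹ =
      τ * ((s : G) * t * (s : G)⁻¹ * (t : G)⁻¹) * τ⁻¹ * (τ * (κ s t : G) * τ⁻¹)⁻¹ by group,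
      show τ * (κ s t : G) * τ⁻¹ = κ s t by rw [hq, mul_inv_cancel_right]]
    group
  -- values
  have hsec : ∀ a : A, ∃ s : (S : Subgroup G), (s : G) * c * (s : G)⁻¹ = a * c := fun a => by
    obtain ⟨s, hs, e⟩ := frame_exists_value hC hA hF hcQ hc1 a.2
    exact ⟨⟨s, hs⟩, e⟩
  choose sec hsec using hsec
  have hsame : ∀ (s : (S : Subgroup G)) (a : A), (s : G) * c * (s : G)⁻¹ = a * c → (sec a : G)⁻¹ * s ∈ U :=
    fun s a e => S_inf_cent hC hA hF hcQ hc1 (mul_mem (inv_mem (sec a).2) s.2) (by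
      calc (sec a : G)⁻¹ * s * c = (sec a : G)⁻¹ * ((s : G) * c * (s : G)⁻¹) * s := by group
        _ = (sec a : G)⁻¹ * ((sec a : G) * c * (sec a : G)⁻¹) * s := by rw [e, hsec]
        _ = c * ((sec a : G)⁻¹ * s) := by group)
  letI : CommGroup A := { (inferInstance : Group A) with
    mul_comm := fun a b => Subtype.ext (elementary_comm hC.pt.elem a.2 b.2) }
  letI : CommGroup (Qpart A c U) := { (inferInstance : Group (Qpart A c U)) with
    mul_comm := fun a b => Subtype.ext (by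
      show (a : G) * b = b * a
      rcases Q_two hC hA hF h2 a.2 with e | e <;> rcases Q_two hC hA hF h2 b.2 with e' | e' <;>
        simp [e, e']) }
  let β : ↥A → ↥A → ↥(Qpart A c U) := fun a b => κ (sec a) (sec b)
  have hκcongr : ∀ (s s' : (S : Subgroup G)) (a b : A), (s : G) * c * (s : G)⁻¹ = a * c →
      (s' : G) * c * (s' : G)⁻¹ = b * c → κ s s' = β a b := by
    intro s s' a b hsa hsb
    obtain ⟨u, hu, hue⟩ : ∃ u : (S : Subgroup G), (u : G) ∈ U ∧ s = sec a * u :=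
      ⟨⟨_, mul_mem (inv_mem (sec a).2) s.2⟩, hsame s a hsa, Subtype.ext (mul_inv_cancel_left _ _).symm⟩
    obtain ⟨v, hv, hve⟩ : ∃ v : (S : Subgroup G), (v : G) ∈ U ∧ s' = sec b * v :=
      ⟨⟨_, mul_mem (inv_mem (sec b).2) s'.2⟩, hsame s' b hsb, Subtype.ext (mul_inv_cancel_left _ _).symm⟩
    rw [hue, hve, hκl, hκr, (hκU u _ hu).1, (hκU v _ hv).2, mul_one, mul_one]
  have hmulval : ∀ (a b : A), ((sec a * sec b : (S : Subgroup G)) : G) * c *
      ((sec a * sec b : (S : Subgroup G)) : G)⁻¹ = ((a * b : A) : G) * c := by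
    intro a b
    show (sec a : G) * sec b * c * ((sec a : G) * sec b)⁻¹ = (a : G) * b * c
    rw [show (sec a : G) * sec b * c * ((sec a : G) * sec b)⁻¹ =
      (sec a : G) * ((sec b : G) * c * (sec b : G)⁻¹) * (sec a : G)⁻¹ by group, hsec,
      show (sec a : G) * ((b : G) * c) * (sec a : G)⁻¹ =
        ((sec a : G) * b * (sec a : G)⁻¹) * ((sec a : G) * c * (sec a : G)⁻¹) by group,
      hAc (sec a).2 b.2, hsec, ← mul_assoc, elementary_comm hC.pt.elem b.2 a.2]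
  let φ : MulAut A := A.normalizerMonoidHom ⟨τ, hτA⟩
  have hφ : ∀ a : A, ((φ a : A) : G) = τ * a * τ⁻¹ := fun a => rfl
  have hV : ∀ v : A, v ^ 2 = 1 := fun v => Subtype.ext (hC.pt.elem.2 v v.2)
  haveI : Nontrivial A := by
    obtain ⟨a, ha, ha1⟩ := exists_ne_one_A hC
    exact ⟨⟨⟨a, ha⟩, 1, fun e => ha1 (congrArg Subtype.val e)⟩⟩
  have hirr : CfsgLib.ThreePrime.Linear.IsIrr φ := by
    intro B hB
    rcases hA.irr τ hτA hτl hτn (B.map A.subtype) (map_subtype_le _) (by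
      rintro _ ⟨b, hb, rfl⟩
      exact ⟨φ b, hB b hb, hφ b⟩) with h | h
    · exact Or.inl ((map_eq_bot_iff_of_injective _ A.subtype_injective).1 h)
    · exact Or.inr (map_injective A.subtype_injective (by
        rw [h, ← MonoidHom.range_eq_map, range_subtype]))
  have hφ1 : φ ≠ 1 := fun e => hτn (mem_centralizer_iff.2 fun a ha => by
    have h1 := hφ ⟨a, ha⟩
    rw [e, MulAut.one_apply] at h1
    exact (mul_inv_eq_iff_eq_mul.1 h1.symm).symm)
  have hcτ : τ * c * τ⁻¹ = c := by rw [hτQ c hcQ, mul_inv_cancel_right]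
  have hτval : ∀ (s : (S : Subgroup G)) (a : A), (s : G) * c * (s : G)⁻¹ = a * c →
      τ * s * τ⁻¹ * c * (τ * s * τ⁻¹)⁻¹ = (φ a : G) * c := fun s a e => by
    calc τ * s * τ⁻¹ * c * (τ * s * τ⁻¹)⁻¹
        = (τ * s * τ⁻¹) * (τ * c * τ⁻¹) * (τ * s * τ⁻¹)⁻¹ := by rw [hcτ]
      _ = τ * ((s : G) * c * (s : G)⁻¹) * τ⁻¹ := by group
      _ = (τ * a * τ⁻¹) * (τ * c * τ⁻¹) := by rw [e]; group
      _ = _ := by rw [hcτ, hφ]
  have hzero : ∀ a b, β a b = 1 := fun a b => CfsgLib.ThreePrime.Linear.pairing_eq_one hV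
    (n := 2 * m + 1) hA.card ⟨m, rfl⟩ hirr hφ1 β
    (fun a b d => by rw [← hκcongr _ _ _ d (hmulval a b) (hsec d), hκl])
    (fun a b d => by rw [← hκcongr _ _ a _ (hsec a) (hmulval b d), hκr])
    (fun a b => by
      rw [← hκcongr ⟨_, (mem_normalizer_iff.1 hτS _).1 (sec a).2⟩ ⟨_, (mem_normalizer_iff.1 hτS _).1 (sec b).2⟩
        _ _ (hτval (sec a) a (hsec a)) (hτval (sec b) b (hsec b)), hκτ]) a b
  have hval : ∀ s : (S : Subgroup G), ∃ a : A, (s : G) * c * (s : G)⁻¹ = a * c := fun s =>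
    ⟨⟨_, frame_trans_value hC hA hF s.2 hcQ⟩, (inv_mul_cancel_right _ _).symm⟩
  -- commutators and squares lie in `P`
  have hcomP : ∀ s ∈ (S : Subgroup G), ∀ t ∈ (S : Subgroup G), s * t * s⁻¹ * t⁻¹ ∈ P := by
    intro s hs t ht
    obtain ⟨a, ha⟩ := hval ⟨s, hs⟩
    obtain ⟨b, hb⟩ := hval ⟨t, ht⟩
    exact (hπone ⟨_, hz s hs t ht⟩).1
      (congrArg Subtype.val ((hκcongr ⟨s, hs⟩ ⟨t, ht⟩ a b ha hb).trans (hzero a b)))
  -- the set of torus commutators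
  let M : Subgroup G :=
    { carrier := {s | ∃ t ∈ (S : Subgroup G), ∃ p ∈ P, s = τ * t * τ⁻¹ * t⁻¹ * p}
      one_mem' := ⟨1, one_mem _, 1, one_mem _, by group⟩
      mul_mem' := by
        rintro _ _ ⟨t, ht, p, hp, rfl⟩ ⟨t', ht', p', hp', rfl⟩
        set w' := τ * t' * τ⁻¹ * t'⁻¹ with hw'
        have hu : τ * t' * τ⁻¹ ∈ (S : Subgroup G) := (mem_normalizer_iff.1 hτS _).1 ht'
        have hw'S : w' ∈ (S : Subgroup G) := mul_mem hu (inv_mem ht')
        have hp1 : w'⁻¹ * p * w' ∈ P := by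
          have := hPn _ (inv_mem hw'S) p hp
          rwa [inv_inv] at this
        set x := (τ * t * τ⁻¹) * (τ * t' * τ⁻¹) * (t * t')⁻¹ with hx
        set y := (τ * t * τ⁻¹ * t⁻¹) * w' with hy
        have hxy : x⁻¹ * y ∈ P := by
          rw [show x⁻¹ * y = t * ((t' * (τ * t' * τ⁻¹)⁻¹ * t⁻¹ * (τ * t' * τ⁻¹) * t'⁻¹)) by
            rw [hx, hy, hw']; group]
          have h1 : (τ * t' * τ⁻¹)⁻¹ * t⁻¹ * (τ * t' * τ⁻¹) * t ∈ P := by
            have := hcomP _ (inv_mem hu) _ (inv_mem ht)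
            rwa [inv_inv, inv_inv] at this
          have h2 : t * t' * t⁻¹ * t'⁻¹ ∈ P := hcomP _ ht _ ht'
          have h3 := P.mul_mem (hPn _ (mul_mem ht ht') _ h1) h2
          convert h3 using 1
          group
        refine ⟨t * t', mul_mem ht ht', x⁻¹ * y * (w'⁻¹ * p * w') * p',
          P.mul_mem (P.mul_mem hxy hp1) hp', ?_⟩
        rw [hy, show τ * (t * t') * τ⁻¹ * (t * t')⁻¹ = x by rw [hx]; group]
        group
      inv_mem' := by
        rintro _ ⟨t, ht, p, hp, rfl⟩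
        have hu : τ * t * τ⁻¹ ∈ (S : Subgroup G) := (mem_normalizer_iff.1 hτS _).1 ht
        have hw : τ * t * τ⁻¹ * t⁻¹ ∈ (S : Subgroup G) := mul_mem hu (inv_mem ht)
        have h1 : (τ * t * τ⁻¹) * t⁻¹ * (τ * t * τ⁻¹)⁻¹ * t⁻¹⁻¹ ∈ P := hcomP _ hu _ (inv_mem ht)
        have h2 := hPn _ hw _ (P.inv_mem hp)
        refine ⟨t⁻¹, inv_mem ht,
          ((τ * t⁻¹ * τ⁻¹ * t⁻¹⁻¹)⁻¹ * (τ * t * τ⁻¹ * t⁻¹)⁻¹) *
            ((τ * t * τ⁻¹ * t⁻¹) * p⁻¹ * (τ * t * τ⁻¹ * t⁻¹)⁻¹), P.mul_mem ?_ h2, by group⟩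
        have h3 := P.inv_mem (hPn _ (inv_mem ht) _ h1)
        have h4 : t⁻¹ * ((τ * t * τ⁻¹) * (t * t)) * (τ * t * τ⁻¹)⁻¹ = t⁻¹ * ((τ * t * τ⁻¹) * (t * t)) * (τ * t * τ⁻¹)⁻¹ := rfl
        have h5 : (τ * t⁻¹ * τ⁻¹ * t⁻¹⁻¹)⁻¹ * (τ * t * τ⁻¹ * t⁻¹)⁻¹ =
            t⁻¹ * (τ * t * τ⁻¹) * t * (τ * t * τ⁻¹)⁻¹ := by group
        rw [h5]
        have := hcomP _ (inv_mem ht) _ hu
        rwa [inv_inv] at this }
  have hMS : M ≤ (S : Subgroup G) := by
    rintro _ ⟨t, ht, p, hp, rfl⟩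
    exact mul_mem (mul_mem ((mem_normalizer_iff.1 hτS _).1 ht) (inv_mem ht)) (hPS hp)
  have hAM : A ≤ M := fun a ha => ⟨1, one_mem _, a, hAP ha, by group⟩
  have hcP : c ∉ P := fun h => hc1 (P_inf_Q hd hF.top h hcQ)
  have hcM : c ∉ M := by
    rintro ⟨t, ht, p, hp, e⟩
    obtain ⟨a, ha⟩ := hval ⟨t, ht⟩
    have h1 : τ * t * τ⁻¹ * t⁻¹ = c * p⁻¹ := by rw [e]; group
    have hcp : c * p⁻¹ * c * (c * p⁻¹)⁻¹ = c := by
      rw [show c * p⁻¹ * c * (c * p⁻¹)⁻¹ = c * (p⁻¹ * c * p) * c⁻¹ by group,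
        show p⁻¹ * c * p = c by
          rw [mul_assoc, ← mem_centralizer_singleton_iff.1 (hF.top.le hp.1).1, inv_mul_cancel_left],
        mul_inv_cancel_right]
    have h3 : (φ a : G) * c = a * c := by
      rw [← hτval ⟨t, ht⟩ a ha, show τ * ((⟨t, ht⟩ : (S : Subgroup G)) : G) * τ⁻¹ = (c * p⁻¹) * t by
        rw [← h1]; show τ * t * τ⁻¹ = _; group,
        show c * p⁻¹ * t * c * (c * p⁻¹ * t)⁻¹ = c * p⁻¹ * (t * c * t⁻¹) * (c * p⁻¹)⁻¹ by group,
        show t * c * t⁻¹ = a * c from ha,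
        show c * p⁻¹ * (↑a * c) * (c * p⁻¹)⁻¹ = (c * p⁻¹ * a * (c * p⁻¹)⁻¹) * (c * p⁻¹ * c * (c * p⁻¹)⁻¹) by group,
        hcp, hAc (mul_mem (hF.le hcQ.1) (inv_mem (hPS hp))) a.2]
    have ha1 := hA.free τ hτA hτl hτn a a.2 (by
      have := mul_right_cancel h3
      rwa [hφ] at this)
    have htU : t ∈ U := S_inf_cent hC hA hF hcQ hc1 ht (mul_inv_eq_iff_eq_mul.1 (by
      rw [show t * c * t⁻¹ = a * c from ha, ha1, one_mul]))
    obtain ⟨p0, hp0, q0, hq0, e0⟩ := exists_P_mul_Q hd hF.top htU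
    refine hcP ?_
    rw [e, e0, show τ * (p0 * q0) * τ⁻¹ = (τ * p0 * τ⁻¹) * (τ * q0 * τ⁻¹) by group,
      show τ * q0 * τ⁻¹ = q0 by rw [hτQ q0 hq0, mul_inv_cancel_right],
      show τ * p0 * τ⁻¹ * q0 * (p0 * q0)⁻¹ = τ * p0 * τ⁻¹ * p0⁻¹ by group]
    exact P.mul_mem (P.mul_mem (hPτ _ hp0) (P.inv_mem hp0)) hp
  refine ⟨M, hMS, hAM, hcM, relIndex_eq_two_iff.2 ⟨c, hF.le hcQ.1, fun s hs => ?_⟩⟩
  obtain ⟨a, ha⟩ := hval ⟨s, hs⟩
  let ψ : A →* A := MonoidHom.mk' (fun b => φ b * b⁻¹) fun x y => by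
    rw [map_mul, mul_inv, mul_mul_mul_comm]
  have hψ : Function.Injective ψ := (injective_iff_map_eq_one ψ).2 fun b hb => Subtype.ext
    (hA.free τ hτA hτl hτn b b.2 (by
      have := congrArg Subtype.val (mul_inv_eq_one.1 (show φ b * b⁻¹ = 1 from hb))
      rwa [hφ] at this))
  obtain ⟨b, hb⟩ := Finite.surjective_of_injective hψ a
  set w := τ * (sec b : G) * τ⁻¹ * (sec b : G)⁻¹ with hw
  have hwS : w ∈ (S : Subgroup G) := mul_mem ((mem_normalizer_iff.1 hτS _).1 (sec b).2) (inv_mem (sec b).2)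
  have hwv : w * c * w⁻¹ = a * c := by
    have hbc : (sec b : G)⁻¹ * c * (sec b : G) = b * c := by
      have h1 := hsec b
      have h2 : (sec b : G)⁻¹ * (b : G) * (sec b : G) = b := by
        have := hAc (inv_mem (sec b).2) b.2
        rwa [inv_inv] at this
      calc (sec b : G)⁻¹ * c * (sec b : G)
          = (sec b : G)⁻¹ * (b : G) * (sec b : G) * ((sec b : G)⁻¹ * ((b : G)⁻¹ * c) * (sec b : G)) := by
            group
        _ = b * ((sec b : G)⁻¹ * ((b : G) * c) * (sec b : G)) := by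
            rw [h2, inv_eq_of_mul_eq_one_right (exp_two hC b.2)]
        _ = b * ((sec b : G)⁻¹ * ((sec b : G) * c * (sec b : G)⁻¹) * (sec b : G)) := by rw [h1]
        _ = b * c := by group
    calc w * c * w⁻¹ = (τ * (sec b : G) * τ⁻¹) * ((sec b : G)⁻¹ * c * sec b) *
          (τ * (sec b : G) * τ⁻¹)⁻¹ := by rw [hw]; group
      _ = ((τ * (sec b : G) * τ⁻¹) * b * (τ * (sec b : G) * τ⁻¹)⁻¹) *
          ((τ * (sec b : G) * τ⁻¹) * c * (τ * (sec b : G) * τ⁻¹)⁻¹) := by rw [hbc]; group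
      _ = (b : G) * ((φ b : G) * c) := by
          rw [hAc ((mem_normalizer_iff.1 hτS _).1 (sec b).2) b.2, hτval (sec b) b (hsec b)]
      _ = a * c := by
          rw [← hb, ← mul_assoc]
          show (b : G) * (φ b : G) * c = ((φ b * b⁻¹ : A) : G) * c
          rw [Subgroup.coe_mul, Subgroup.coe_inv, inv_eq_of_mul_eq_one_right (exp_two hC b.2),
            elementary_comm hC.pt.elem b.2 (φ b).2]
  have hu : w⁻¹ * s ∈ U := S_inf_cent hC hA hF hcQ hc1 (mul_mem (inv_mem hwS) hs) (by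
    calc w⁻¹ * s * c = w⁻¹ * (s * c * s⁻¹) * s := by group
      _ = w⁻¹ * (w * c * w⁻¹) * s := by rw [show s * c * s⁻¹ = a * c from ha, hwv]
      _ = c * (w⁻¹ * s) := by group)
  obtain ⟨p, hp, q, hq, e⟩ := exists_P_mul_Q hd hF.top hu
  have hs' : s = w * p * q := by rw [mul_assoc, ← e, mul_inv_cancel_left]
  have hwp : w * p ∈ M := ⟨sec b, (sec b).2, p, hp, rfl⟩
  rcases Q_two hC hA hF h2 hq with eq1 | eq1 <;> rw [eq1] at hs'
  · refine Or.inr ⟨by rw [hs', mul_one]; exact hwp, fun h => hcM ?_⟩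
    have := M.mul_mem (M.inv_mem hwp) h
    rwa [hs', mul_one, inv_mul_cancel_left] at this
  · refine Or.inl ⟨?_, fun h => hcM ?_⟩
    · rw [hs', mul_assoc _ c c, involution_sq hF.bad.ord, mul_one]; exact hwp
    · have := M.mul_mem (M.inv_mem hwp) h
      rwa [hs', inv_mul_cancel_left] at this

/-- A kernel part of order two is impossible. -/
theorem false_of_two (hct : CentralTwoGoal.{u}) : False := by
  classical
  obtain ⟨M, hMS, hAM, hcM, hidx⟩ := exists_hom_of_two hC hA hF h2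
  obtain ⟨-, -, -, hcQ, -⟩ := frame_Q_data hC hA hF
  rcases CfsgLib.Transfer.thompson_transfer S M hidx hF.bad.ord with ⟨N, hN, hNi, -⟩ | ⟨g, hgM⟩
  · haveI := hC.pt.hyp.simple
    rcases IsSimpleGroup.eq_bot_or_eq_top_of_normal N hN with h | h
    · rw [h, index_bot] at hNi
      haveI := isCyclic_of_prime_card hNi
      exact hC.pt.hyp.nonab ⟨⟨fun a b => (IsCyclic.commGroup (α := G)).mul_comm a b⟩⟩
    · rw [h, index_top] at hNi; omega
  set x := g * c * g⁻¹ with hx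
  have hxS : x ∈ (S : Subgroup G) := hMS hgM
  obtain ⟨n, hn, hnx⟩ : ∃ n ∈ normalizer (A : Set G), n * c * n⁻¹ = x :=
    hC.pt.ctrl c (hF.le hcQ.1) g hxS
  have hxb : Bad A x := by
    rw [← hnx]; exact bad_conj hC hF.bad (mem_sup_left hn)
  -- all conjugates in `S` lie in `cA`
  have hxU : x ∈ U := by
    rcases elem_or_U hC hA hF with h | hsq
    · exact h x hxS (sq_of_ord hxb.ord)
    obtain ⟨τ, hτo, hτS, hτU, hτA, hτl, hτn, hτQ⟩ := exists_tau_frame hC hA hF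
    have hSX := S_le_centralizer hC hA
    -- `C(A)` acts trivially on `S/A`
    have htriv : ∀ r : G, r ∈ gX A → ∀ s ∈ (S : Subgroup G), r * s * r⁻¹ ∈ (S : Subgroup G) →
        r * s * r⁻¹ * s⁻¹ ∈ A := by
      intro r hr s hs hrs
      obtain ⟨t, ht, e⟩ := mem_D_of_two hC hA hF h2 hct ⟨r, hr⟩
      have htS : (t : G) ∈ (S : Subgroup G) := mem_subgroupOf.1 ht
      have hm : r * s * r⁻¹ * ((t : G) * s * (t : G)⁻¹)⁻¹ ∈ (S : Subgroup G) :=
        mul_mem hrs (inv_mem (mul_mem (mul_mem htS hs) (inv_mem htS)))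
      obtain ⟨j, hj⟩ := exists_pow_two S.isPGroup' hm
      have h1 : r * s * r⁻¹ * ((t : G) * s * (t : G)⁻¹)⁻¹ ∈ A := mem_A_of_gπ
        (x := (⟨r, hr⟩ : ↥(gX A)) * ⟨s, hSX hs⟩ * ⟨r, hr⟩⁻¹ *
          (t * ⟨s, hSX hs⟩ * t⁻¹)⁻¹) hj (by
          rw [map_mul, map_inv, map_mul, map_mul, map_inv, map_mul, map_mul, map_inv, e, mul_inv_cancel])
      have h3 := mul_mem h1 (comm_mem_of_sq hsq htS hs)
      convert h3 using 1
      group
    -- split off a normaliser of `S`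
    have hsub : cj n⁻¹ (S : Subgroup G) ≤ gX A := by
      rintro _ ⟨s, hs, rfl⟩
      exact conj_mem_centralizer_A (inv_mem hn) (hSX hs)
    obtain ⟨P, hSP, -, hP, -, hconj⟩ := exists_sylow_in S.isPGroup' hSX
    obtain ⟨r, hr, hrle⟩ := hconj _ hsub (S.isPGroup'.map _)
    rw [S.is_maximal' hP hSP, cj_cj] at hrle
    have hN : r * n⁻¹ ∈ normalizer ((S : Subgroup G) : Set G) :=
      mem_normalizer_of_cj (eq_of_le_of_card_ge hrle (card_cj _ _).ge)
    set n0 := n * r⁻¹ with hn0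
    have hn0S : n0 ∈ normalizer ((S : Subgroup G) : Set G) := by
      have := inv_mem hN
      rwa [mul_inv_rev, inv_inv] at this
    have hn0A : n0 ∈ normalizer (A : Set G) :=
      mul_mem hn (inv_mem (centralizer_le_normalizer _ hr))
    have hrc : r * c * r⁻¹ ∈ (S : Subgroup G) := by
      have := (mem_normalizer_iff''.1 hn0S x).1 hxS
      rwa [← hnx, show n0⁻¹ * (n * c * n⁻¹) * n0 = r * c * r⁻¹ by rw [hn0]; group] at this
    set a := r * c * r⁻¹ * c⁻¹ with ha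
    have haA : a ∈ A := htriv r hr c (hF.le hcQ.1) hrc
    set y := n0 * c * n0⁻¹ with hy
    have hyS : y ∈ (S : Subgroup G) := (mem_normalizer_iff.1 hn0S c).1 (hF.le hcQ.1)
    have hxy : x = n0 * a * n0⁻¹ * y := by rw [← hnx, hy, hn0, ha]; group
    -- the torus fixes `y` modulo `A`
    set τ' := n0 * τ * n0⁻¹ with hτ'
    have hτ'A : τ' ∈ normalizer (A : Set G) := mul_mem (mul_mem hn0A hτA) (inv_mem hn0A)
    have hτ'S : τ' ∈ normalizer ((S : Subgroup G) : Set G) := mul_mem (mul_mem hn0S hτS) (inv_mem hn0S)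
    have hτ'l : τ' ^ l ∈ centralizer (A : Set G) := by
      rw [hτ', conj_pow]; exact conj_mem_centralizer_A hn0A hτl
    obtain ⟨i, hi⟩ := hA.scalar l hA.prim.prime τ' hτ'A τ hτA hτ'l hτl
      (fun b hb hfix => by
        have hb' : n0⁻¹ * b * n0 ∈ A := (mem_normalizer_iff''.1 hn0A b).1 hb
        have h1 := hA.free τ hτA hτl hτn _ hb' (by
          calc τ * (n0⁻¹ * b * n0) * τ⁻¹ = n0⁻¹ * (τ' * b * τ'⁻¹) * n0 := by rw [hτ']; group
            _ = n0⁻¹ * b * n0 := by rw [hfix])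
        calc b = n0 * (n0⁻¹ * b * n0) * n0⁻¹ := by group
          _ = 1 := by rw [h1]; group)
      (hA.free τ hτA hτl hτn)
    set z := (τ' ^ i)⁻¹ * τ with hz
    have hzS : z ∈ normalizer ((S : Subgroup G) : Set G) := mul_mem (inv_mem (zpow_mem hτ'S i)) hτS
    have hb : z * y * z⁻¹ * y⁻¹ ∈ A := htriv z hi y hyS ((mem_normalizer_iff.1 hzS y).1 hyS)
    have hτy : τ' ^ i * y * (τ' ^ i)⁻¹ = y := by
      have hc' : Commute τ' y := by
        rw [hτ', hy]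
        exact (Commute.conj_iff n0).2 (hτQ c hcQ)
      rw [(hc'.zpow_left i).eq, mul_inv_cancel_right]
    have hfix : τ * y * τ⁻¹ * y⁻¹ ∈ A := by
      have h1 := (mem_normalizer_iff.1 (zpow_mem hτ'A i) _).1 hb
      convert h1 using 1
      calc τ * y * τ⁻¹ * y⁻¹ = τ' ^ i * (z * y * z⁻¹) * (τ' ^ i)⁻¹ * (τ' ^ i * y * (τ' ^ i)⁻¹)⁻¹ := by
            rw [hτy, hz]; group
        _ = _ := by group
    obtain ⟨b, hbA, q, hq, e⟩ := frame_fixed hC hA hF hτA hτl hτn hτS hτQ hyS hfix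
    rw [hxy, e]
    exact mul_mem (hF.top.A_le ((mem_normalizer_iff.1 hn0A a).1 haA)) (mul_mem (hF.top.A_le hbA) hq.1)
  obtain ⟨a, ha, q, hq, e⟩ := exists_mul_of_invol hC hA hF hxU (sq_of_ord hxb.ord)
  rcases Q_two hC hA hF h2 hq with rfl | rfl
  · exact not_isA_of_bad hC hxb (isA_of_mem (by rw [e, mul_one]; exact ha) (involution_ne_one hxb.ord))
  · refine hcM ?_
    have hm : a * q ∈ M := e ▸ hgM
    have := M.mul_mem (M.inv_mem (hAM ha)) hm
    rwa [inv_mul_cancel_left] at this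

end CfsgLib.ThreePrime.Block
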