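import Cfsg.Agent.Lib.ThreePrime.Block.Orbit
import Cfsg.Agent.Lib.ThreePrime.Block.Two
import Cfsg.Agent.Lib.ThreePrime.Block.SplitSpec
import Cfsg.Agent.Lib.ThreePrime.SzFactsProof

/-!
Owner: helper6.  The block slice from its two self-contained goals.
-/

set_option autoImplicit false
set_option linter.all false

namespace CfsgLib.ThreePrime.Block

open Subgroup

universe u

/-- `BlockStep` from `CentralTwoGoal` and `SplitGoal`. -/
theorem blockStep_of_goals (hct : CentralTwoGoal.{u}) (hsp : SplitGoal.{u}) : BlockStep.{u} := by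
  intro G _ _ S A hP hfix htr hex hbad
  have hC : Ctx S A := ⟨hP, hfix, htr, hex, hbad, Sz.szStep⟩
  obtain ⟨m, l, hA⟩ := exists_aut hC
  obtain ⟨c, U, hF⟩ := exists_frame hC hA
  obtain ⟨-, -, -, hcQ, -⟩ := frame_Q_data hC hA hF
  haveI := Fact.mk Nat.prime_two
  obtain ⟨k, hk⟩ := IsPGroup.iff_card.1 (hF.top.two.to_le (inf_le_left : Qpart A c U ≤ U))
  rcases Nat.lt_or_ge k 2 with h | h
  · refine false_of_two hC hA hF ?_ hct
    rcases Nat.eq_zero_or_pos k with h0 | h0
    · rw [h0, pow_zero] at hk
      have e := eq_bot_of_card_eq (Qpart A c U) hk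
      rw [e, mem_bot] at hcQ
      exact absurd hcQ (CfsgLib.Signalizer.involution_ne_one hF.bad.ord)
    · rw [hk, show k = 1 by omega, pow_one]
  · have h4 : 4 ≤ Nat.card (Qpart A c U) := by
      rw [hk]
      exact le_trans (by norm_num) (Nat.pow_le_pow_right (by norm_num) h)
    obtain ⟨τ, hτo, hτS, hτU, hτA, hτl, hτn, hτQ⟩ := exists_tau_frame hC hA hF
    exact hsp G S A m l hC hA c U
      { W0_bot := W0_eq_bot hC hA hF h4
        bad := hF.bad
        cent := hF.cent
        top := hF.top
        le := hF.le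
        card := hF.card
        four := h4
        trans_le := hF.trans_le
        normal := pM_le_normalizer_S hC hA hF h4
          (gamma_normal hC hA hF hct hτA hτo hτl hτn hτS hτQ).1
        bad_mem := fun x hx hb => bad_mem_of_four hC hA hF h4 hct hx hb }

end CfsgLib.ThreePrime.Block
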