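import Cfsg.Agent.Lib.ThreePrime.Block.Linear
import Cfsg.Agent.Lib.Core.FrobeniusFree
import Cfsg.Agent.Lib.Core.HallHigman
import Cfsg.Agent.Lib.PGroups.Basic
import Cfsg.Agent.Lib.CharDegree.NoDiv.Counting
import Mathlib.GroupTheory.Nilpotent
import Mathlib.LinearAlgebra.FreeModule.Finite.Basic

/-!
Owner: helper6.  An odd nilpotent group moved by an automorphism of prime order on a two-module.

* `index_center_le_sq`: a group with central commutators, fixed point free on a module of dimension `d`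
  outside `1`, has centre of index at most `d ^ 2`
* `isSquare_index_center`: commutators in a central group of prime order give a square index
* `orderOf_lt_card`: an automorphism has order less than the order of the elementary group
* `moved_size`: if the fixed points of the automorphism form a semiregular orbit set the dimension is large
-/

set_option autoImplicit false
set_option linter.all false

namespace CfsgLib.ThreePrime.Size

open Subgroup
open scoped commutatorElement

section Central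

variable {U : Type*} [Group U]

/-- Commutation with `v` when commutators are central. -/
def commHom (hc : ∀ a b : U, ⁅a, b⁆ ∈ center U) (v : U) : U →* U :=
  MonoidHom.mk' (fun a => ⁅a, v⁆) fun a b => by
    have h := (mem_center_iff.1 (hc b v) a).symm
    calc ⁅a * b, v⁆ = a * ⁅b, v⁆ * a⁻¹ * ⁅a, v⁆ := by simp [commutatorElement_def, mul_assoc]
      _ = ⁅b, v⁆ * ⁅a, v⁆ := by rw [← h, mul_inv_cancel_right]
      _ = ⁅a, v⁆ * ⁅b, v⁆ := (mem_center_iff.1 (hc b v) _).symm

theorem commHom_apply (hc : ∀ a b : U, ⁅a, b⁆ ∈ center U) (v a : U) :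
    commHom hc v a = ⁅a, v⁆ := rfl

variable [Finite U]

theorem isSquare_index_center_aux : ∀ (N : ℕ) (U : Type*) [Group U] [Finite U], Nat.card U = N →
    ∀ {r : ℕ}, r.Prime → ∀ D : Subgroup U, Nat.card D = r → D ≤ center U →
      (∀ a b : U, ⁅a, b⁆ ∈ D) → IsSquare (center U).index := by
  intro N
  induction N using Nat.strong_induction_on with
  | _ N ih =>
    intro U _ _ hN r hr D hD hDZ hc
    classical
    haveI := Fact.mk hr
    by_cases hcom : ∀ a b : U, ⁅a, b⁆ = 1
    · refine ⟨1, ?_⟩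
      rw [mul_one, index_eq_one, eq_top_iff]
      exact fun a _ => mem_center_iff.2 fun b => commutatorElement_eq_one_iff_mul_comm.1 (hcom b a)
    push Not at hcom
    obtain ⟨u, v, huv⟩ := hcom
    have hcz : ∀ a b : U, ⁅a, b⁆ ∈ center U := fun a b => hDZ (hc a b)
    let φ : U →* D × D :=
      ((commHom hcz u).codRestrict D fun a => hc a u).prod ((commHom hcz v).codRestrict D fun a => hc a v)
    have hgen : ∀ d ∈ D, d ≠ 1 → ∀ e ∈ D, ∃ k : ℕ, d ^ k = e := by
      intro d hd hd1 e he
      have h : ((⟨e, he⟩ : D)) ∈ Submonoid.powers (⟨d, hd⟩ : D) := by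
        rw [mem_powers_iff_mem_zpowers]
        exact mem_zpowers_of_prime_card hD (fun h => hd1 (congrArg Subtype.val h))
      obtain ⟨k, hk⟩ := Submonoid.mem_powers_iff _ _ |>.1 h
      exact ⟨k, congrArg Subtype.val hk⟩
    have huv' : ⁅v, u⁆ ≠ 1 := by
      rw [← commutatorElement_inv]
      exact inv_ne_one.2 huv
    have hsurj : ∀ p : D × D, ∃ a ∈ closure ({u, v} : Set U), φ a = p := by
      intro p
      obtain ⟨i, hi⟩ := hgen _ (hc v u) huv' p.1 p.1.2
      obtain ⟨j, hj⟩ := hgen _ (hc u v) huv p.2 p.2.2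
      refine ⟨v ^ i * u ^ j, mul_mem (pow_mem (subset_closure (by simp)) i)
        (pow_mem (subset_closure (by simp)) j), Prod.ext (Subtype.ext ?_) (Subtype.ext ?_)⟩
      · show commHom hcz u (v ^ i * u ^ j) = _
        rw [map_mul, map_pow, map_pow, commHom_apply, commHom_apply, commutatorElement_self, one_pow,
          mul_one, hi]
      · show commHom hcz v (v ^ i * u ^ j) = _
        rw [map_mul, map_pow, map_pow, commHom_apply, commHom_apply, commutatorElement_self, one_pow,
          one_mul, hj]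
    have hidx : φ.ker.index = r * r := by
      rw [index_ker, MonoidHom.range_eq_top.2 (fun p => (hsurj p).imp fun a ha => ha.2), card_top,
        Nat.card_prod, hD]
    have hZ : center U ≤ φ.ker := fun z hz => by
      rw [MonoidHom.mem_ker]
      refine Prod.ext (Subtype.ext ?_) (Subtype.ext ?_) <;>
      · show ⁅z, _⁆ = 1
        rw [commutatorElement_eq_one_iff_mul_comm]
        exact (mem_center_iff.1 hz _).symm
    have hlt : Nat.card φ.ker < N := by
      rw [← hN, ← φ.ker.card_mul_index, hidx]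
      exact lt_mul_of_one_lt_right Nat.card_pos (Nat.one_lt_mul_iff.2 ⟨hr.pos, hr.pos, .inl hr.one_lt⟩)
    have hDC : D ≤ φ.ker := hDZ.trans hZ
    obtain ⟨s, hs⟩ := ih _ hlt φ.ker rfl hr (D.subgroupOf φ.ker)
      (by rw [Nat.card_congr (subgroupOfEquivOfLe hDC).toEquiv, hD])
      (fun a ha => mem_center_iff.2 fun b => Subtype.ext (mem_center_iff.1 (hDZ ha) b))
      (fun a b => hc a b)
    refine ⟨r * s, ?_⟩
    have he : (center U).subgroupOf φ.ker = center φ.ker := by
      refine le_antisymm (fun a (ha : a ∈ (center U).subgroupOf φ.ker) => mem_center_iff.2 fun b =>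
        Subtype.ext (mem_center_iff.1 (mem_subgroupOf.1 ha) b)) ?_
      intro a ha
      refine mem_center_iff.2 fun b => ?_
      -- `b` is a product of an element of the kernel and one of `⟨u, v⟩`
      obtain ⟨c, hc', hcb⟩ := hsurj (φ b)
      have hk : b * c⁻¹ ∈ φ.ker := by rw [MonoidHom.mem_ker, map_mul, map_inv, hcb, mul_inv_cancel]
      have h1 : Commute (a : U) (b * c⁻¹) :=
        (congrArg Subtype.val (mem_center_iff.1 ha ⟨_, hk⟩) : _).symm
      have hker := MonoidHom.mem_ker.1 a.2
      have h2 : Commute (a : U) c := by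
        refine mem_centralizer_singleton_iff.1 ((closure_le _).2 ?_ hc') |>.symm
        rintro x (rfl | rfl) <;> rw [SetLike.mem_coe, mem_centralizer_singleton_iff]
        · exact (commutatorElement_eq_one_iff_mul_comm.1 (congrArg (fun p : D × D => (p.1 : U)) hker)).symm
        · exact (commutatorElement_eq_one_iff_mul_comm.1 (congrArg (fun p : D × D => (p.2 : U)) hker)).symm
      have h3 := h1.mul_right h2
      rw [inv_mul_cancel_right] at h3
      exact h3.symm.eq
    rw [← relIndex_mul_index hZ, relIndex, he, hs, hidx]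
    ring

theorem isSquare_index_center {r : ℕ} (hr : r.Prime) (D : Subgroup U) (hD : Nat.card D = r)
    (hDZ : D ≤ center U) (hc : ∀ a b : U, ⁅a, b⁆ ∈ D) : IsSquare (center U).index :=
  isSquare_index_center_aux _ U rfl hr D hD hDZ hc

end Central

open Linear

section Indep

variable {U : Type*} [Group U] [Finite U] {V : Type*} [CommGroup V] [Finite V]

theorem index_center_le_sq (hV : ∀ v : V, v ^ 2 = 1) {d : ℕ} (hd : Nat.card V = 2 ^ d)
    (ρ : U →* MulAut V) (hc : ∀ a b : U, ⁅a, b⁆ ∈ center U)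
    [Nontrivial V] (hfp : ∀ a b : U, ⁅a, b⁆ ≠ 1 → ∀ v, ρ ⁅a, b⁆ v = v → v = 1) :
    (center U).index ≤ d ^ 2 := by
  classical
  letI := vec hV
  let f : U →* Module.End (ZMod 2) (Additive V) := (lin hV).comp ρ
  haveI : Module.Finite (ZMod 2) (Additive V) := Module.Finite.of_finite
  let g : U ⧸ center U → Module.End (ZMod 2) (Additive V) := fun q => f q.out
  have hinj : ∀ a b : U, ⁅a, b⁆ ≠ 1 →
      Function.Injective ((f ⁅a, b⁆ - 1 : Module.End (ZMod 2) (Additive V))) := by
    intro a b h
    rw [← LinearMap.ker_eq_bot, Submodule.eq_bot_iff]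
    intro m hm
    rw [LinearMap.mem_ker, LinearMap.sub_apply, sub_eq_zero] at hm
    exact hfp a b h _ hm
  have key : ∀ (s : Finset (U ⧸ center U)) (a : U ⧸ center U → Module.End (ZMod 2) (Additive V)),
      (∀ q u, a q * f u = f u * a q) → ∑ q ∈ s, a q * g q = 0 → ∀ q ∈ s, a q = 0 := by
    intro s
    induction s using Finset.strongInduction with
    | _ s ih =>
      intro a ha hsum q0 hq0
      by_cases hone : ∀ q ∈ s, q = q0
      · have e : s = {q0} := Finset.eq_singleton_iff_unique_mem.2 ⟨hq0, hone⟩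
        rw [e, Finset.sum_singleton] at hsum
        calc a q0 = a q0 * g q0 * f q0.out⁻¹ := by
              rw [mul_assoc, ← map_mul, mul_inv_cancel, map_one, mul_one]
          _ = 0 := by rw [hsum, zero_mul]
      push Not at hone
      obtain ⟨q1, hq1, hne⟩ := hone
      obtain ⟨v, hv⟩ : ∃ v : U, ⁅(q1.out)⁻¹ * q0.out, v⁆ ≠ 1 := by
        by_contra h
        push Not at h
        refine hne ?_
        rw [← QuotientGroup.out_eq' q1, ← QuotientGroup.out_eq' q0, QuotientGroup.eq, mem_center_iff]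
        exact fun w => (commutatorElement_eq_one_iff_mul_comm.1 (h w)).symm
      let z : U ⧸ center U → U := fun q => ⁅v, q.out⁆
      have hzc : ∀ q u, f (z q) * f u = f u * f (z q) := fun q u => by
        rw [← map_mul, ← map_mul, mem_center_iff.1 (hc _ _) u]
      have hconj : ∀ q, f v * (a q * g q) * f v⁻¹ = a q * f (z q) * g q := fun q => by
        rw [← mul_assoc (f v), ← ha q v, mul_assoc (a q), mul_assoc (a q), mul_assoc (a q), ← map_mul,
          ← map_mul, ← map_mul]
        congr 2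
        simp [z, commutatorElement_def, mul_assoc]
      have hsum1 : ∑ q ∈ s, a q * f (z q) * g q = 0 := by
        rw [← Finset.sum_congr rfl fun q _ => hconj q, ← Finset.sum_mul, ← Finset.mul_sum, hsum,
          mul_zero, zero_mul]
      let a' : U ⧸ center U → Module.End (ZMod 2) (Additive V) := fun q => a q * (f (z q) - f (z q1))
      have ha' : ∀ q u, a' q * f u = f u * a' q := fun q u => by
        simp only [a']
        rw [mul_assoc, sub_mul, hzc, hzc, ← mul_sub, ← mul_assoc, ha, mul_assoc]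
      have hsum2 : ∑ q ∈ s.erase q1, a' q * g q = 0 := by
        rw [Finset.sum_erase _ (by simp [a'])]
        simp only [a', mul_sub, sub_mul, Finset.sum_sub_distrib, hsum1, zero_sub, neg_eq_zero]
        rw [Finset.sum_congr rfl fun q _ => show a q * f (z q1) * g q = f (z q1) * (a q * g q) by
          rw [ha, mul_assoc], ← Finset.mul_sum, hsum, mul_zero]
      have h0 := ih _ (Finset.erase_ssubset hq1) a' ha' hsum2 q0 (Finset.mem_erase.2 ⟨hne.symm, hq0⟩)
      have he : z q0 = z q1 * ⁅v, q1.out⁻¹ * q0.out⁆ := by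
        have e : ∀ w, commHom hc w (q1.out⁻¹ * q0.out) = (commHom hc w q1.out)⁻¹ * commHom hc w q0.out :=
          fun w => by rw [map_mul, map_inv]
        have e' := e v
        rw [commHom_apply, commHom_apply, commHom_apply] at e'
        show ⁅v, q0.out⁆ = ⁅v, q1.out⁆ * _
        rw [← commutatorElement_inv q0.out v, ← commutatorElement_inv q1.out v,
          ← commutatorElement_inv (q1.out⁻¹ * q0.out) v, e', mul_inv_rev, inv_inv,
          mem_center_iff.1 (hc q1.out v) ⁅q0.out, v⁆⁻¹, inv_mul_cancel_left]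
      have hv' : ⁅v, q1.out⁻¹ * q0.out⁆ ≠ 1 := by
        rw [← commutatorElement_inv]
        exact inv_ne_one.2 hv
      refine LinearMap.ext fun m => ?_
      have hcm : a' q0 = f (z q1) * ((f ⁅v, q1.out⁻¹ * q0.out⁆ - 1) * a q0) := by
        simp only [a']
        rw [he, map_mul, sub_mul, one_mul, mul_sub, mul_sub, ← ha, ← ha, ← mul_assoc (f (z q1)), ← ha,
          mul_assoc]
      rw [hcm] at h0
      refine hinj _ _ hv' ?_
      have hzi : Function.Injective (f (z q1)) := (ρ (z q1)).injective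
      rw [LinearMap.zero_apply, map_zero]
      refine hzi ?_
      rw [map_zero, ← Module.End.mul_apply, ← Module.End.mul_apply, mul_assoc, h0]
      rfl
  have hli : LinearIndependent (ZMod 2) g := by
    haveI := Fintype.ofFinite (U ⧸ center U)
    rw [Fintype.linearIndependent_iff]
    intro c hc0 q
    have h := key Finset.univ (fun q => algebraMap _ _ (c q)) (fun q u => Algebra.commutes _ _) (by
      rw [← hc0]
      exact Finset.sum_congr rfl fun q _ => (Algebra.smul_def _ _).symm) q (Finset.mem_univ q)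
    by_contra hne
    haveI : Nontrivial (Additive V) := inferInstance
    exact hne (FaithfulSMul.algebraMap_injective (ZMod 2) (Module.End (ZMod 2) (Additive V))
      (by rw [h, map_zero]))
  haveI := Fintype.ofFinite (U ⧸ center U)
  have h := hli.fintype_card_le_finrank
  rw [Module.finrank_linearMap, ← Nat.card_eq_fintype_card] at h
  have hr : Module.finrank (ZMod 2) (Additive V) = d := by
    have e := Module.natCard_eq_pow_finrank (K := ZMod 2) (V := Additive V)
    rw [show Nat.card (Additive V) = _ from hd, Nat.card_zmod] at e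
    exact (Nat.pow_right_injective le_rfl e).symm
  rw [hr] at h
  rw [index_eq_card, sq]
  exact h

end Indep

section Order

variable {V : Type*} [CommGroup V] [Finite V] [Nontrivial V]

theorem orderOf_lt_card (hV : ∀ v : V, v ^ 2 = 1) (x : MulAut V) : orderOf x < Nat.card V := by
  classical
  letI := vec hV
  haveI : Module.Finite (ZMod 2) (Additive V) := Module.Finite.of_finite
  set T := lin hV x with hT
  set p := minpoly (ZMod 2) T with hp
  have hm : p.natDegree ≤ Module.finrank (ZMod 2) (Additive V) :=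
    (Polynomial.natDegree_le_of_dvd (LinearMap.minpoly_dvd_charpoly T)
      (LinearMap.charpoly_monic T).ne_zero).trans (LinearMap.charpoly_natDegree T).le
  let L : (Fin p.natDegree → ZMod 2) → Module.End (ZMod 2) (Additive V) := fun c => ∑ i, c i • T ^ (i : ℕ)
  have hmem : ∀ j : ℕ, T ^ j ∈ Set.range L := by
    intro j
    have hmon : p.Monic := minpoly.monic (Algebra.IsIntegral.isIntegral T)
    refine ⟨fun i => (Polynomial.X ^ j %ₘ p).coeff i, ?_⟩
    have e : Polynomial.aeval T (Polynomial.X ^ j %ₘ p) = T ^ j := by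
      rw [Polynomial.modByMonic_eq_sub_mul_div, map_sub, map_mul, hp, minpoly.aeval, zero_mul, sub_zero,
        map_pow, Polynomial.aeval_X]
    rw [← e, Polynomial.aeval_eq_sum_range' (n := p.natDegree)
      (Polynomial.natDegree_modByMonic_lt _ hmon (minpoly.ne_one _ T)), ← Fin.sum_univ_eq_sum_range]
  have hcard : Nat.card (Set.range L) ≤ Nat.card (Additive V) := by
    refine (Finite.card_range_le L).trans ?_
    rw [Nat.card_fun, Nat.card_fin, Nat.card_zmod,
      Module.natCard_eq_pow_finrank (K := ZMod 2) (V := Additive V), Nat.card_zmod]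
    exact Nat.pow_le_pow_right (by norm_num) hm
  haveI : Finite (Module.End (ZMod 2) (Additive V)) := Module.finite_of_finite (ZMod 2)
  let g : Option (Fin (orderOf x)) → Set.range L := fun o =>
    o.elim ⟨0, 0, by simp [L]⟩ fun i => ⟨T ^ (i : ℕ), hmem _⟩
  have hne : ∀ i : ℕ, T ^ i ≠ 0 := fun i h => by
    obtain ⟨v, hv⟩ := exists_ne (0 : Additive V)
    rw [hT, ← map_pow] at h
    exact hv ((x ^ i).injective (Eq.trans (LinearMap.congr_fun h v) (map_one (x ^ i)).symm))
  have hg : Function.Injective g := by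
    rintro (_ | i) (_ | j) h
    · rfl
    · exact absurd (congrArg Subtype.val h).symm (hne j)
    · exact absurd (congrArg Subtype.val h) (hne i)
    · have e : T ^ (i : ℕ) = T ^ (j : ℕ) := congrArg Subtype.val h
      rw [hT, ← map_pow, ← map_pow] at e
      exact congrArg some (Fin.ext (pow_injOn_Iio_orderOf i.2 j.2 (lin_injective hV e)))
  have h := Nat.card_le_card_of_injective g hg
  rw [Finite.card_option, Nat.card_fin] at h
  show orderOf x < Nat.card V
  have : Nat.card (Additive V) = Nat.card V := rfl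
  omega

end Order

section Moved

variable {V : Type*} [CommGroup V] [Finite V]

/-- The setting: `σ` of prime order `l` acts compatibly, `Y` is odd and semiregular on its fixed points. -/
structure Data (Y V : Type*) [Group Y] [CommGroup V] (l k d : ℕ) where
  ρ : Y →* MulAut V
  θ : MulAut Y
  σ : MulAut V
  odd : Odd (Nat.card Y)
  cop : (Nat.card Y).Coprime l
  prime : l.Prime
  two : l ≠ 2
  elem : ∀ v : V, v ^ 2 = 1
  card : Nat.card V = 2 ^ d
  θl : θ ^ l = 1
  σl : σ ^ l = 1
  comp : ∀ y v, σ (ρ y v) = ρ (θ y) (σ v)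
  fix : Nat.card {v : V // σ v = v} = 2 ^ k
  pos : 0 < k
  semi : ∀ y, y ≠ 1 → ∀ v, σ v = v → ρ y v = v → v = 1

variable {Y : Type*} [Group Y] [Finite Y] {l k d : ℕ}

/-- The subgroup of `V` fixed by `σ`. -/
def Data.C (D : Data Y V l k d) : Subgroup V := (D.σ : V →* V).eqLocus (MonoidHom.id V)

omit [Finite V] [Finite Y] in
theorem Data.fixed_of_pow (D : Data Y V l k d) {u z : Y} (hz : D.θ z = z) (h : D.θ u = u * z)
    (hc : (orderOf z).Coprime l) : z = 1 := by
  have h1 : ∀ n : ℕ, (D.θ ^ n) u = u * z ^ n := by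
    intro n
    induction n with
    | zero => simp
    | succ n ih =>
      rw [pow_succ', MulAut.mul_apply, ih, map_mul, map_pow, h, hz, mul_assoc, ← pow_succ']
  have h2 := h1 l
  rw [D.θl, MulAut.one_apply, eq_comm, mul_eq_left] at h2
  exact orderOf_eq_one_iff.1 (hc.eq_one_of_dvd (orderOf_dvd_of_pow_eq_one h2))

theorem eq_of_dvd_pow_sub_one {r l e : ℕ} (hr : r.Prime) (hl : l.Prime) (hrl : r ∣ 2 ^ l - 1)
    (hre : r ∣ 2 ^ e - 1) (he : e ≤ l) : e = 0 ∨ e = l := by
  have h : r ∣ 2 ^ Nat.gcd e l - 1 := by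
    rw [← Nat.pow_sub_one_gcd_pow_sub_one]
    exact Nat.dvd_gcd hre hrl
  rcases (Nat.dvd_prime hl).1 (Nat.gcd_dvd_right e l) with hg | hg
  · rw [hg] at h
    exact absurd (Nat.eq_one_of_dvd_one h) hr.ne_one
  · have hle : l ∣ e := hg ▸ Nat.gcd_dvd_left e l
    rcases Nat.eq_zero_or_pos e with h0 | h0
    · exact Or.inl h0
    · exact Or.inr (le_antisymm he (Nat.le_of_dvd h0 hle))

/-- A group of `r`-elements without fixed points on an invariant subgroup. -/
theorem modEq_one {r : ℕ} [Fact r.Prime] (hY : IsPGroup r Y) (ρ : Y →* MulAut V) (W : Subgroup V)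
    (hW : ∀ y, ∀ w ∈ W, ρ y w ∈ W) (hfix : ∀ v, (∀ y, ρ y v = v) → v = 1) :
    Nat.card W ≡ 1 [MOD r] := by
  letI : MulAction Y W :=
    { smul := fun y w => ⟨ρ y w, hW y w w.2⟩
      one_smul := fun w => Subtype.ext (by show ρ 1 (w : V) = w; rw [map_one]; rfl)
      mul_smul := fun a b w => Subtype.ext (by
        show ρ (a * b) (w : V) = ρ a (ρ b w); rw [map_mul]; rfl) }
  have h := hY.card_modEq_card_fixedPoints (α := W)
  have e : MulAction.fixedPoints Y W = {(1 : W)} := by
    ext w
    simp only [MulAction.mem_fixedPoints, Set.mem_singleton_iff]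
    exact ⟨fun hw => Subtype.ext (hfix w fun y => congrArg Subtype.val (hw y)),
      fun hw y => hw ▸ Subtype.ext (map_one (ρ y))⟩
  rwa [e, Nat.card_eq_fintype_card (α := ({(1 : W)} : Set W)), Fintype.card_unique] at h

/-- The case of an abelian group without fixed points. -/
theorem abelian_case (D : Data Y V l k d) {r : ℕ} [hr : Fact r.Prime] (hY : IsPGroup r Y)
    [Nontrivial Y] (hc : ∀ a b : Y, a * b = b * a) (hfp : ∀ y, D.θ y = y → y = 1) :
    k * l ≤ d ∧ (d = l → ∃ y, IsIrr (D.ρ y) ∧ D.ρ y ≠ 1) := by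
  classical
  haveI := Fact.mk D.prime
  haveI := Fintype.ofFinite Y
  letI : CommGroup Y := { (inferInstance : Group Y) with mul_comm := hc }
  -- the averaging projection
  let e : V →* V :=
    { toFun := fun v => ∏ y : Y, D.ρ y v
      map_one' := by simp
      map_mul' := fun a b => by simp [Finset.prod_mul_distrib] }
  have hefix : ∀ v y, D.ρ y (e v) = e v := by
    intro v y
    show D.ρ y (∏ z : Y, D.ρ z v) = ∏ z : Y, D.ρ z v
    rw [map_prod]
    refine Fintype.prod_equiv (Equiv.mulLeft y) _ _ fun z => ?_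
    show _ = D.ρ (y * z) v
    rw [map_mul, MulAut.mul_apply]
  have heid : ∀ v, (∀ y, D.ρ y v = v) → e v = v := by
    intro v hv
    show (∏ y : Y, D.ρ y v) = v
    rw [Finset.prod_congr rfl fun y _ => hv y, Finset.prod_const, Finset.card_univ,
      ← Nat.card_eq_fintype_card]
    obtain ⟨j, hj⟩ := D.odd
    rw [hj, pow_succ, pow_mul, D.elem, one_pow, one_mul]
  have heσ : ∀ v, D.σ (e v) = e (D.σ v) := by
    intro v
    show D.σ (∏ y : Y, D.ρ y v) = ∏ y : Y, D.ρ y (D.σ v)
    rw [map_prod]
    exact Fintype.prod_equiv D.θ.toEquiv _ _ fun y => D.comp y v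
  have hρker : ∀ y, ∀ v ∈ e.ker, D.ρ y v ∈ e.ker := by
    intro y v hv
    rw [MonoidHom.mem_ker] at hv ⊢
    rw [← map_one (D.ρ y), ← hv]
    show (∏ z : Y, D.ρ z (D.ρ y v)) = D.ρ y (∏ z : Y, D.ρ z v)
    rw [map_prod]
    refine Finset.prod_congr rfl fun z _ => ?_
    rw [← MulAut.mul_apply, ← map_mul, hc, map_mul, MulAut.mul_apply]
  have hσker : ∀ v ∈ e.ker, D.σ v ∈ e.ker := by
    intro v hv
    rw [MonoidHom.mem_ker] at hv ⊢
    rw [← heσ, hv, map_one]
  let M := e.ker
  -- the fixed points of `σ` lie in the kernel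
  have hCM : ∀ v, D.σ v = v → v ∈ M := by
    intro v hv
    obtain ⟨y, hy⟩ := exists_ne (1 : Y)
    rw [MonoidHom.mem_ker]
    exact D.semi y hy _ (by rw [heσ, hv]) (hefix v y)
  let toEnd : (f : V →* V) → (∀ v ∈ M, f v ∈ M) → AddMonoid.End (Additive M) := fun f hf =>
    MonoidHom.toAdditive ((f.comp M.subtype).codRestrict M fun v => hf v v.2)
  let ρM : Y →* AddMonoid.End (Additive M) :=
    { toFun := fun y => toEnd (D.ρ y).toMonoidHom (hρker y)
      map_one' := AddMonoidHom.ext fun v => Subtype.ext (by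
        show D.ρ 1 _ = _; rw [map_one]; rfl)
      map_mul' := fun a b => AddMonoidHom.ext fun v => Subtype.ext (by
        show D.ρ (a * b) _ = _; rw [map_mul]; rfl) }
  have hnodd : ¬ 2 ∣ Nat.card Y := fun h => Nat.not_even_iff_odd.2 D.odd (even_iff_two_dvd.2 h)
  have hσpow : ∀ (j : ℕ) (v : Additive M),
      ((((toEnd D.σ.toMonoidHom hσker) ^ j) v).toMul : V) = (D.σ ^ j) (v.toMul : V) := by
    intro j
    induction j with
    | zero => intro v; rfl
    | succ j ih =>
      intro v
      rw [pow_succ', pow_succ']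
      exact congrArg D.σ (ih v)
  have hcard := CfsgLib.Core.FrobFree.card_eq_pow (s := 2) (M := Additive M)
    (fun m => Additive.toMul.injective (Subtype.ext (D.elem _))) hnodd ρM D.two D.θ D.θl hfp
    (toEnd D.σ.toMonoidHom hσker)
    (AddMonoidHom.ext fun v => Additive.toMul.injective (Subtype.ext
      ((hσpow l v).trans (by rw [D.σl]; rfl))))
    (fun y v => Additive.toMul.injective (Subtype.ext (D.comp y _)))
    (fun v hv => Additive.toMul.injective (Subtype.ext (by
      have h1 : ∀ y, D.ρ y (v.toMul : V) = (v.toMul : V) := fun y =>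
        congrArg (fun m => ((Additive.toMul m : M) : V)) (hv y)
      show (v.toMul : V) = 1
      rw [← heid _ h1]
      exact MonoidHom.mem_ker.1 (Additive.toMul v).2)))
  have hfixM : Nat.card {m : Additive M // toEnd D.σ.toMonoidHom hσker m = m} = 2 ^ k := by
    rw [← D.fix]
    exact Nat.card_congr
      { toFun := fun m => ⟨(m.1.toMul : V), congrArg (fun m => ((Additive.toMul m : M) : V)) m.2⟩
        invFun := fun v => ⟨Additive.ofMul ⟨v.1, hCM _ v.2⟩, Additive.toMul.injective (Subtype.ext v.2)⟩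
        left_inv := fun _ => rfl
        right_inv := fun _ => rfl }
  rw [hfixM, ← pow_mul] at hcard
  have hMV : Nat.card M ∣ 2 ^ d := D.card ▸ card_subgroup_dvd_card M
  have hkl : k * l ≤ d := by
    rw [show Nat.card M = Nat.card (Additive M) from rfl, hcard] at hMV
    exact (Nat.pow_dvd_pow_iff_le_right (by norm_num)).1 hMV
  refine ⟨hkl, fun hdl => ?_⟩
  have hk1 : k = 1 := by
    have := D.pos
    have := D.prime.pos
    nlinarith
  have hMtop : M = ⊤ := eq_top_of_card_eq _ (by
    rw [D.card, hdl, show Nat.card M = Nat.card (Additive M) from rfl, hcard, hk1, one_mul])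
  have hnofix : ∀ v, (∀ y, D.ρ y v = v) → v = 1 := fun v hv =>
    (heid v hv).symm.trans (MonoidHom.mem_ker.1 (hMtop ▸ mem_top v : v ∈ M))
  have hr2 : r ∣ 2 ^ l - 1 := by
    rw [← hdl, ← D.card, ← card_top (G := V)]
    exact (Nat.modEq_iff_dvd' Nat.card_pos).1 (modEq_one hY D.ρ ⊤ (fun _ _ _ => mem_top _) hnofix).symm
  have hVne : ∀ W : Subgroup V, r ∣ Nat.card W - 1 → W = ⊥ ∨ W = ⊤ := by
    intro W hW
    obtain ⟨e, he, hWe⟩ := (Nat.dvd_prime_pow Nat.prime_two).1 (D.card ▸ card_subgroup_dvd_card W)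
    rw [hWe] at hW
    rcases eq_of_dvd_pow_sub_one hr.out D.prime hr2 hW (hdl ▸ he) with h0 | h0
    · exact Or.inl (card_eq_one.1 (by rw [hWe, h0, pow_zero]))
    · exact Or.inr (eq_top_of_card_eq _ (by rw [hWe, h0, D.card, hdl]))
  have hrY : r ∣ Nat.card Y := by
    obtain ⟨j, hj⟩ := IsPGroup.iff_card.1 hY
    rcases Nat.eq_zero_or_pos j with h0 | h0
    · rw [h0, pow_zero] at hj
      exact absurd hj (Finite.one_lt_card (α := Y)).ne'
    · exact hj ▸ dvd_pow_self r h0.ne'
  obtain ⟨x, hx⟩ := exists_prime_orderOf_dvd_card' r hrY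
  have hx1 : x ≠ 1 := fun h => hr.out.ne_one (by rw [← hx, h, orderOf_one])
  obtain ⟨v, hv, hv1⟩ : ∃ v, D.σ v = v ∧ v ≠ 1 := by
    by_contra h
    push Not at h
    have : Subsingleton {v : V // D.σ v = v} := ⟨fun a b => Subtype.ext ((h _ a.2).trans (h _ b.2).symm)⟩
    have := Finite.card_le_one_iff_subsingleton.2 this
    rw [D.fix, hk1] at this
    omega
  have hρx : D.ρ x ≠ 1 := fun h => hv1 (D.semi x hx1 v hv (by rw [h]; rfl))
  refine ⟨x, fun W hW => ?_, hρx⟩
  have hfx : ∀ u, D.ρ x u = u → u = 1 := by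
    let Fx : Subgroup V := (D.ρ x : V →* V).eqLocus (MonoidHom.id V)
    have hFinv : ∀ y, ∀ w ∈ Fx, D.ρ y w ∈ Fx := fun y w (hw : D.ρ x w = w) => by
      show D.ρ x (D.ρ y w) = D.ρ y w
      rw [← MulAut.mul_apply, ← map_mul, hc, map_mul, MulAut.mul_apply, hw]
    rcases hVne Fx ((Nat.modEq_iff_dvd' Nat.card_pos).1 (modEq_one hY D.ρ Fx hFinv hnofix).symm) with h | h
    · intro u hu
      have : u ∈ Fx := hu
      rwa [h, mem_bot] at this
    · exact absurd (MulEquiv.ext fun u => show D.ρ x u = u from (h ▸ mem_top u : u ∈ Fx)) hρx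
  refine hVne W ((Nat.modEq_iff_dvd' Nat.card_pos).1 (modEq_one (hY.to_subgroup (zpowers x))
    (D.ρ.comp (zpowers x).subtype) W ?_ fun u hu => hfx u (hu ⟨x, mem_zpowers x⟩)).symm)
  rintro ⟨y, hy⟩ w hw
  obtain ⟨i, hi⟩ := (mem_powers_iff_mem_zpowers.2 hy)
  subst hi
  show D.ρ (x ^ i) w ∈ W
  clear hy
  induction i with
  | zero => simpa using hw
  | succ i ih => rw [pow_succ', map_mul, MulAut.mul_apply]; exact hW _ ih

theorem conj_fixed_aux {u φ : Y} (θ : MulAut Y) (hφ : θ φ = φ) (h : θ (u * φ * u⁻¹) = u * φ * u⁻¹) :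
    (u⁻¹ * θ u) * φ = φ * (u⁻¹ * θ u) := by
  rw [map_mul, map_mul, map_inv, hφ] at h
  calc u⁻¹ * θ u * φ = u⁻¹ * (θ u * φ * (θ u)⁻¹) * θ u := by group
    _ = φ * (u⁻¹ * θ u) := by rw [h]; group

/-- The case of a minimal moved group. -/
theorem minimal_case (D : Data Y V l k d) {r : ℕ} [hr : Fact r.Prime] (hY : IsPGroup r Y)
    (hmin : ∀ L : Subgroup Y, (∀ y ∈ L, D.θ y ∈ L) → L ≠ ⊤ → ∀ y ∈ L, D.θ y = y)
    (hne : D.θ ≠ 1) :
    2 * l - 1 ≤ d ∨ (k * l ≤ d ∧ (d = l → ∃ y, IsIrr (D.ρ y) ∧ D.ρ y ≠ 1)) := by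
  classical
  haveI := Fact.mk D.prime
  have hcopz : ∀ z : Y, (orderOf z).Coprime l := fun z => D.cop.coprime_dvd_left (orderOf_dvd_natCard z)
  haveI : Nontrivial Y := by
    by_contra h
    rw [not_nontrivial_iff_subsingleton] at h
    exact hne (MulEquiv.ext fun y => Subsingleton.elim _ _)
  -- the displacements generate
  have hgen : closure (Set.range fun u => u⁻¹ * D.θ u) = ⊤ := by
    by_contra hL
    have hinv : ∀ y ∈ closure (Set.range fun u => u⁻¹ * D.θ u),
        D.θ y ∈ closure (Set.range fun u => u⁻¹ * D.θ u) := by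
      intro y hy
      induction hy using closure_induction with
      | mem x hx =>
        obtain ⟨u, rfl⟩ := hx
        refine subset_closure ⟨D.θ u, ?_⟩
        simp only [map_mul, map_inv]
      | one => rw [map_one]; exact one_mem _
      | mul a b _ _ ha hb => rw [map_mul]; exact mul_mem ha hb
      | inv a _ ha => rw [map_inv]; exact inv_mem ha
    refine hne (MulEquiv.ext fun u => ?_)
    have h1 := hmin _ hinv hL _ (subset_closure ⟨u, rfl⟩)
    have h2 := D.fixed_of_pow h1 (show D.θ u = u * (u⁻¹ * D.θ u) by group) (hcopz _)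
    rw [inv_mul_eq_one] at h2
    exact h2.symm
  have hcen : ∀ φ, D.θ φ = φ → (∀ u, D.θ (u * φ * u⁻¹) = u * φ * u⁻¹) → φ ∈ center Y := by
    intro φ hφ h
    rw [mem_center_iff]
    intro g
    have : g ∈ centralizer ({φ} : Set Y) := by
      refine (closure_le _).2 ?_ (hgen ▸ mem_top g)
      rintro _ ⟨u, rfl⟩
      exact mem_centralizer_singleton_iff.2 (conj_fixed_aux D.θ hφ (h u))
    exact mem_centralizer_singleton_iff.1 this
  by_cases hcom : ∀ a b : Y, a * b = b * a
  · refine Or.inr (abelian_case D hY hcom fun y hy => ?_)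
    -- every element is a displacement
    let dis : Y →* Y := MonoidHom.mk' (fun u => u⁻¹ * D.θ u) fun a b => by
      rw [map_mul, mul_inv_rev, hcom b⁻¹ a⁻¹, mul_assoc a⁻¹, ← mul_assoc b⁻¹, hcom b⁻¹ (D.θ a)]
      group
    obtain ⟨u, hu⟩ : y ∈ dis.range := by
      have : closure (Set.range fun u => u⁻¹ * D.θ u) ≤ dis.range :=
        (closure_le _).2 fun x hx => hx
      exact this (hgen ▸ mem_top y)
    have hu' : u⁻¹ * D.θ u = y := hu
    exact D.fixed_of_pow (u := u) hy (by rw [← hu']; group) (hcopz _)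
  left
  -- the Frattini subgroup is central
  have hΦfix : ∀ φ ∈ frattini Y, D.θ φ = φ :=
    hmin _ (fun y hy => (Subgroup.characteristic_iff_map_eq.1 inferInstance D.θ).le (mem_map_of_mem _ hy))
      CfsgLib.PGroups.frattini_ne_top
  have hΦn : (frattini Y).Normal := inferInstance
  have hΦZ : frattini Y ≤ center Y := fun φ hφ => hcen φ (hΦfix φ hφ) fun u =>
    hΦfix _ (hΦn.conj_mem φ hφ u)
  have hcZ : ∀ a b : Y, ⁅a, b⁆ ∈ frattini Y := fun a b =>
    CfsgLib.PGroups.commutator_le_frattini' hY (commutator_mem_commutator (mem_top a) (mem_top b))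
  have hcc : ∀ a b : Y, ⁅a, b⁆ ∈ center Y := fun a b => hΦZ (hcZ a b)
  have hpow : ∀ a b : Y, ⁅a, b⁆ ^ r = 1 := fun a b => by
    rw [← commHom_apply hcc, ← map_pow, commHom_apply, commutatorElement_eq_one_iff_mul_comm]
    exact (mem_center_iff.1 (hΦZ (CfsgLib.PGroups.pow_mem_frattini hY a)) b).symm
  -- the fixed points are the centre
  have hfixZ : ∀ f, D.θ f = f → f ∈ center Y := fun f hf => hcen f hf fun u => by
    have e : u * f * u⁻¹ = ⁅u, f⁆ * f := by simp [commutatorElement_def, mul_assoc]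
    rw [e, map_mul, hΦfix _ (hcZ u f), hf]
  have hZfix : ∀ z ∈ center Y, D.θ z = z :=
    hmin _ (fun y hy => (Subgroup.characteristic_iff_map_eq.1 inferInstance D.θ).le (mem_map_of_mem _ hy))
      fun h => hcom fun a b => (mem_center_iff.1 (h ▸ mem_top b : b ∈ center Y) a)
  -- the commutator group
  let W := _root_.commutator Y
  have hWΦ : W ≤ frattini Y := CfsgLib.PGroups.commutator_le_frattini' hY
  have hσC : ∀ w ∈ W, ∀ v ∈ D.C, D.ρ w v ∈ D.C := fun w hw v (hv : D.σ v = v) => by
    show D.σ (D.ρ w v) = D.ρ w v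
    rw [D.comp, hv, hΦfix w (hWΦ hw)]
  letI : CommGroup W := { (inferInstance : Group W) with
    mul_comm := fun a b => Subtype.ext (mem_center_iff.1 (hΦZ (hWΦ b.2)) a) }
  let ρC : W →* MulAut D.C :=
    { toFun := fun w =>
        { toFun := fun v => ⟨D.ρ w v, hσC w w.2 v v.2⟩
          invFun := fun v => ⟨D.ρ (w⁻¹ : W) v, hσC _ (w⁻¹).2 v v.2⟩
          left_inv := fun v => Subtype.ext (by
            show D.ρ ((w : Y)⁻¹) (D.ρ w v) = v
            rw [← MulAut.mul_apply, ← map_mul, inv_mul_cancel, map_one]; rfl)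
          right_inv := fun v => Subtype.ext (by
            show D.ρ w (D.ρ ((w : Y)⁻¹) v) = v
            rw [← MulAut.mul_apply, ← map_mul, mul_inv_cancel, map_one]; rfl)
          map_mul' := fun a b => Subtype.ext (map_mul _ _ _) }
      map_one' := MulEquiv.ext fun v => Subtype.ext (by show D.ρ 1 (v : V) = v; rw [map_one]; rfl)
      map_mul' := fun a b => MulEquiv.ext fun v => Subtype.ext (by
        show D.ρ (a * b : Y) (v : V) = _; rw [map_mul]; rfl) }
  haveI : Nontrivial D.C := by
    rw [← Finite.one_lt_card_iff_nontrivial]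
    show 1 < Nat.card {v : V // D.σ v = v}
    rw [D.fix]
    exact Nat.one_lt_two_pow D.pos.ne'
  have hWcyc : IsCyclic W := CfsgLib.NoDiv.isCyclic_of_fpf ρC fun w hw v hv =>
    Subtype.ext (D.semi w (fun h => hw (Subtype.ext h)) v v.2 (congrArg Subtype.val hv))
  obtain ⟨a, b, hab⟩ : ∃ a b : Y, ⁅a, b⁆ ≠ 1 := by
    by_contra h
    push Not at h
    exact hcom fun a b => commutatorElement_eq_one_iff_mul_comm.1 (h a b)
  have hWr : ∀ w : W, w ^ r = 1 := by
    rintro ⟨w, hw⟩
    refine Subtype.ext ?_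
    show w ^ r = 1
    rw [show W = _root_.commutator Y from rfl, commutator_eq_closure] at hw
    induction hw using closure_induction with
    | mem x hx => obtain ⟨a, b, rfl⟩ := hx; exact hpow a b
    | one => exact one_pow r
    | mul x y hx hy ex ey =>
      rw [← commutator_eq_closure] at hx
      rw [Commute.mul_pow ((mem_center_iff.1 (hΦZ (hWΦ hx)) y).symm), ex, ey, one_mul]
    | inv x _ ex => rw [inv_pow, ex, inv_one]
  have hWcard : Nat.card W = r := by
    have h1 : Monoid.exponent W ∣ r := Monoid.exponent_dvd_of_forall_pow_eq_one hWr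
    rw [IsCyclic.exponent_eq_card] at h1
    refine ((Nat.dvd_prime hr.out).1 h1).resolve_left fun h => hab ?_
    have hm : ⁅a, b⁆ ∈ W := commutator_mem_commutator (mem_top a) (mem_top b)
    rwa [card_eq_one.1 h, mem_bot] at hm
  obtain ⟨s, hs⟩ := isSquare_index_center hr.out W hWcard (hWΦ.trans hΦZ)
    fun a b => commutator_mem_commutator (mem_top a) (mem_top b)
  -- the module without fixed points of the commutator group
  haveI := Fintype.ofFinite W
  let e : V →* V :=
    { toFun := fun v => ∏ w : W, D.ρ (w : Y) v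
      map_one' := by simp
      map_mul' := fun a b => by simp [Finset.prod_mul_distrib] }
  have heρ : ∀ y v, e (D.ρ y v) = D.ρ y (e v) := fun y v => by
    show (∏ w : W, D.ρ (w : Y) (D.ρ y v)) = D.ρ y (∏ w : W, D.ρ (w : Y) v)
    rw [map_prod]
    refine Finset.prod_congr rfl fun w _ => ?_
    rw [← MulAut.mul_apply, ← map_mul, ← mem_center_iff.1 (hΦZ (hWΦ w.2)) y, map_mul, MulAut.mul_apply]
  have hρker : ∀ y, ∀ v ∈ e.ker, D.ρ y v ∈ e.ker := fun y v hv => by
    rw [MonoidHom.mem_ker] at hv ⊢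
    rw [heρ, hv, map_one]
  let M := e.ker
  let ρM : Y →* MulAut M :=
    { toFun := fun y =>
        { toFun := fun v => ⟨D.ρ y v, hρker y v v.2⟩
          invFun := fun v => ⟨D.ρ y⁻¹ v, hρker _ v v.2⟩
          left_inv := fun v => Subtype.ext (by
            show D.ρ y⁻¹ (D.ρ y v) = v
            rw [← MulAut.mul_apply, ← map_mul, inv_mul_cancel, map_one]; rfl)
          right_inv := fun v => Subtype.ext (by
            show D.ρ y (D.ρ y⁻¹ v) = v
            rw [← MulAut.mul_apply, ← map_mul, mul_inv_cancel, map_one]; rfl)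
          map_mul' := fun a b => Subtype.ext (map_mul _ _ _) }
      map_one' := MulEquiv.ext fun v => Subtype.ext (by show D.ρ 1 (v : V) = v; rw [map_one]; rfl)
      map_mul' := fun a b => MulEquiv.ext fun v => Subtype.ext (by
        show D.ρ (a * b) (v : V) = _; rw [map_mul]; rfl) }
  have hgenW : ∀ c : W, c ≠ 1 → ∀ w : W, ∃ i : ℕ, c ^ i = w := fun c hc w => by
    have h : w ∈ zpowers c := mem_zpowers_of_prime_card hWcard hc
    rw [← mem_powers_iff_mem_zpowers] at h
    exact h
  have hMfp : ∀ x y : Y, ⁅x, y⁆ ≠ 1 → ∀ v : M, ρM ⁅x, y⁆ v = v → v = 1 := by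
    intro x y hxy v hv
    have hv' : D.ρ ⁅x, y⁆ (v : V) = v := congrArg Subtype.val hv
    have hall : ∀ w : W, D.ρ (w : Y) (v : V) = v := fun w => by
      obtain ⟨i, rfl⟩ := hgenW ⟨_, commutator_mem_commutator (mem_top x) (mem_top y)⟩
        (fun h => hxy (congrArg Subtype.val h)) w
      rw [SubgroupClass.coe_pow, map_pow]
      induction i with
      | zero => rfl
      | succ i ih => rw [pow_succ', MulAut.mul_apply, ih]; exact hv'
    refine Subtype.ext ?_
    have h1 : e (v : V) = v := by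
      show (∏ w : W, D.ρ (w : Y) (v : V)) = v
      rw [Finset.prod_congr rfl fun w _ => hall w, Finset.prod_const, Finset.card_univ,
        ← Nat.card_eq_fintype_card]
      obtain ⟨j, hj⟩ := (hWcard ▸ D.odd.of_dvd_nat (card_subgroup_dvd_card W) : Odd r)
      rw [hWcard, hj, pow_succ, pow_mul, D.elem, one_pow, one_mul]
    exact h1.symm.trans (MonoidHom.mem_ker.1 v.2)
  haveI : Nontrivial M := by
    by_contra h
    rw [not_nontrivial_iff_subsingleton] at h
    obtain ⟨v, hv1⟩ := exists_ne (1 : D.C)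
    have hw : ⁅a, b⁆ ∈ W := commutator_mem_commutator (mem_top a) (mem_top b)
    refine hv1 (Subtype.ext (D.semi ⁅a, b⁆ hab v v.2 ?_))
    have hm : (v : V) * e v ∈ M := by
      rw [MonoidHom.mem_ker, map_mul]
      have : e (e (v : V)) = e v := by
        have hfx : ∀ w : W, D.ρ (w : Y) (e v) = e v := fun w => by
          show D.ρ (w : Y) (∏ z : W, D.ρ (z : Y) (v : V)) = ∏ z : W, D.ρ (z : Y) (v : V)
          rw [map_prod]
          refine Fintype.prod_equiv (Equiv.mulLeft w) _ _ fun z => ?_
          show _ = D.ρ ((w * z : W) : Y) (v : V)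
          rw [Subgroup.coe_mul, map_mul, MulAut.mul_apply]
        show (∏ w : W, D.ρ (w : Y) (e v)) = e v
        rw [Finset.prod_congr rfl fun w _ => hfx w, Finset.prod_const, Finset.card_univ,
          ← Nat.card_eq_fintype_card]
        obtain ⟨j, hj⟩ := (hWcard ▸ D.odd.of_dvd_nat (card_subgroup_dvd_card W) : Odd r)
        rw [hWcard, hj, pow_succ, pow_mul, D.elem, one_pow, one_mul]
      rw [this, ← sq, D.elem]
    have hve : (v : V) = e v := by
      have h1 : (v : V) * e v = 1 := congrArg Subtype.val (Subsingleton.elim (⟨_, hm⟩ : M) 1)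
      have h2 : e (v : V) * e v = 1 := by rw [← sq, D.elem]
      exact mul_right_cancel (h1.trans h2.symm)
    rw [hve]
    show D.ρ ⁅a, b⁆ (∏ z : W, D.ρ (z : Y) (v : V)) = ∏ z : W, D.ρ (z : Y) (v : V)
    rw [map_prod]
    refine Fintype.prod_equiv (Equiv.mulLeft (⟨_, hw⟩ : W)) _ _ fun z => ?_
    show _ = D.ρ (((⟨_, hw⟩ : W) * z : W) : Y) (v : V)
    rw [Subgroup.coe_mul, map_mul, MulAut.mul_apply]
  obtain ⟨dM, hdM, hcardM⟩ := (Nat.dvd_prime_pow Nat.prime_two).1 (D.card ▸ card_subgroup_dvd_card M)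
  have hle := index_center_le_sq (V := M) (fun v => Subtype.ext (D.elem v)) hcardM ρM hcc hMfp
  rw [hs] at hle
  have hsd : s ≤ d := by
    have : s * s ≤ d * d := hle.trans (by rw [sq]; exact Nat.mul_le_mul hdM hdM)
    exact Nat.mul_self_le_mul_self_iff.1 this
  -- the operator on the central quotient
  let φ : MulAut (Y ⧸ center Y) :=
    QuotientGroup.congr _ _ D.θ (Subgroup.characteristic_iff_map_eq.1 inferInstance D.θ)
  have hφ : ∀ (j : ℕ) (u : Y), (φ ^ j) (u : Y ⧸ center Y) = ((D.θ ^ j) u : Y) := by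
    intro j
    induction j with
    | zero => intro u; rfl
    | succ j ih => intro u; rw [pow_succ', pow_succ', MulAut.mul_apply, ih, MulAut.mul_apply]; rfl
  have hφl : φ ^ l = 1 := by
    refine MulEquiv.ext fun q => ?_
    obtain ⟨u, rfl⟩ := QuotientGroup.mk_surjective q
    rw [hφ, D.θl]; rfl
  have hpg : IsPGroup l (zpowers φ) := by
    intro g
    refine ⟨1, Subtype.ext ?_⟩
    rw [pow_one, SubgroupClass.coe_pow, OneMemClass.coe_one]
    obtain ⟨i, hi⟩ := mem_zpowers_iff.1 g.2
    rw [← hi, ← zpow_natCast, ← zpow_mul, mul_comm, zpow_mul, zpow_natCast, hφl, one_zpow]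
  have hmod := hpg.card_modEq_card_fixedPoints (α := Y ⧸ center Y)
  have hfp : MulAction.fixedPoints (zpowers φ) (Y ⧸ center Y) = {(1 : Y ⧸ center Y)} := by
    ext q
    simp only [MulAction.mem_fixedPoints, Set.mem_singleton_iff]
    refine ⟨fun h => ?_, ?_⟩
    · obtain ⟨u, rfl⟩ := QuotientGroup.mk_surjective q
      have h1 : (((D.θ ^ 1) u : Y) : Y ⧸ center Y) = (u : Y ⧸ center Y) := by
        rw [← hφ, pow_one]
        exact h ⟨φ, mem_zpowers φ⟩
      rw [pow_one, eq_comm, QuotientGroup.eq] at h1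
      rw [QuotientGroup.eq_one_iff]
      refine hfixZ u ?_
      have h2 := D.fixed_of_pow (hZfix _ h1) (show D.θ u = u * (u⁻¹ * D.θ u) by group) (hcopz _)
      rw [inv_mul_eq_one] at h2
      exact h2.symm
    · rintro rfl g
      exact map_one (g : MulAut (Y ⧸ center Y))
  rw [hfp, Nat.card_eq_fintype_card (α := ({(1 : Y ⧸ center Y)} : Set (Y ⧸ center Y))),
    Fintype.card_unique, ← index_eq_card, hs] at hmod
  have hsdvd : s ∣ Nat.card Y := ⟨s * Nat.card (center Y), by
    rw [← card_mul_index (center Y), hs]; ring⟩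
  have hsodd : Odd s := D.odd.of_dvd_nat hsdvd
  have hs1 : 1 < s := by
    rcases hsodd with ⟨j, rfl⟩
    rcases Nat.eq_zero_or_pos j with h0 | h0
    · exfalso
      subst h0
      rw [show (2 * 0 + 1) * (2 * 0 + 1) = 1 from rfl, index_eq_one] at hs
      exact hcom fun x y => mem_center_iff.1 (hs ▸ mem_top y : y ∈ center Y) x
    · omega
  have hdiv : l ∣ (s - 1) * (s + 1) := by
    rw [Nat.mul_comm, ← Nat.sq_sub_sq, one_pow, sq]
    exact (Nat.modEq_iff_dvd' (Nat.one_le_iff_ne_zero.2 (by positivity))).1 hmod.symm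
  obtain ⟨t, ht⟩ := hsodd
  have hl2 : ¬ l ∣ 2 := fun h => D.two ((Nat.prime_dvd_prime_iff_eq D.prime Nat.prime_two).1 h)
  have hbig : 2 * l ≤ s + 1 := by
    rcases D.prime.dvd_mul.1 hdiv with h | h
    · rw [show s - 1 = 2 * t by omega] at h
      have := Nat.le_of_dvd (by omega) ((D.prime.dvd_mul.1 h).resolve_left hl2)
      omega
    · rw [show s + 1 = 2 * (t + 1) by omega] at h
      have := Nat.le_of_dvd (by omega) ((D.prime.dvd_mul.1 h).resolve_left hl2)
      omega
  omega

/-- An odd nilpotent group moved by `θ` forces a large module. -/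
theorem moved_size (D : Data Y V l k d) [Group.IsNilpotent Y] (hne : D.θ ≠ 1) :
    2 * l - 1 ≤ d ∨ (k * l ≤ d ∧ (d = l → ∃ y, IsIrr (D.ρ y) ∧ D.ρ y ≠ 1)) := by
  classical
  -- a moved element of prime power order
  obtain ⟨r, hr, P, y, hyP, hy⟩ : ∃ r, r.Prime ∧ ∃ P : Sylow r Y, ∃ y ∈ (P : Subgroup Y), D.θ y ≠ y := by
    by_contra h
    push Not at h
    refine hne (MulEquiv.ext fun y => ?_)
    let F : Subgroup Y := (D.θ : Y →* Y).eqLocus (MonoidHom.id Y)
    have hF : F = ⊤ := by
      refine eq_top_of_le_card _ (Nat.le_of_dvd Nat.card_pos ?_)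
      refine (Nat.dvd_iff_prime_pow_dvd_dvd _ _).2 fun p j hp hdvd => ?_
      rcases Nat.eq_zero_or_pos j with h0 | h0
      · simp [h0]
      haveI := Fact.mk hp
      obtain ⟨Q⟩ := (Sylow.nonempty : Nonempty (Sylow p Y))
      have hQF : (Q : Subgroup Y) ≤ F := fun z hz => h p hp Q z hz
      exact ((Q.pow_dvd_card_of_pow_dvd_card hdvd)).trans (card_dvd_of_le hQF)
    exact (hF ▸ mem_top y : y ∈ F)
  haveI := Fact.mk hr
  have hPinv : ∀ z ∈ (P : Subgroup Y), D.θ z ∈ (P : Subgroup Y) := fun z hz => by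
    haveI : (P : Subgroup Y).Normal := inferInstance
    haveI := P.characteristic_of_normal inferInstance
    exact (Subgroup.characteristic_iff_map_eq.1 inferInstance D.θ).le (mem_map_of_mem _ hz)
  obtain ⟨U, ⟨hUP, hUinv, u, hu, hu'⟩, hUmin⟩ := (Set.toFinite {U : Subgroup Y |
    U ≤ (P : Subgroup Y) ∧ (∀ z ∈ U, D.θ z ∈ U) ∧ ∃ u ∈ U, D.θ u ≠ u}).exists_minimal
    ⟨P, le_rfl, hPinv, y, hyP, hy⟩
  let θU : MulAut U := CfsgLib.Core.HH.res U D.θ hUinv
  have hθpow : ∀ (j : ℕ) (z : U), (((θU ^ j) z : U) : Y) = (D.θ ^ j) z :=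
    fun j z => CfsgLib.Core.HH.res_pow D.θ U hUinv j z
  let E : Data U V l k d :=
    { ρ := D.ρ.comp U.subtype
      θ := θU
      σ := D.σ
      odd := D.odd.of_dvd_nat (card_subgroup_dvd_card U)
      cop := D.cop.coprime_dvd_left (card_subgroup_dvd_card U)
      prime := D.prime
      two := D.two
      elem := D.elem
      card := D.card
      θl := MulEquiv.ext fun z => Subtype.ext (by rw [hθpow, D.θl]; rfl)
      σl := D.σl
      comp := fun z v => D.comp z v
      fix := D.fix
      pos := D.pos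
      semi := fun z hz => D.semi z fun h => hz (Subtype.ext h) }
  rcases minimal_case E (P.isPGroup'.to_le hUP) (fun L hL hLne z hz => by
      by_contra hz'
      refine hLne (eq_top_iff.2 fun w _ => ?_)
      have hle : L.map U.subtype ≤ U := map_subtype_le L
      have heq := hUmin (y := L.map U.subtype) ⟨hle.trans hUP, ?_, (z : Y), mem_map_of_mem _ hz,
        fun h => hz' (Subtype.ext h)⟩ hle w.2
      · obtain ⟨w', hw', he⟩ := heq
        rwa [← Subtype.ext he]
      · rintro _ ⟨x, hx, rfl⟩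
        exact ⟨_, hL x hx, rfl⟩)
    (fun h => hu' (show ((θU ⟨u, hu⟩ : U) : Y) = u by rw [show θU = 1 from h]; rfl)) with h | ⟨h1, h2⟩
  · exact Or.inl h
  · exact Or.inr ⟨h1, fun hd => let ⟨z, hz⟩ := h2 hd; ⟨z, hz⟩⟩

end Moved

end CfsgLib.ThreePrime.Size
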