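import Cfsg.Agent.Lib.ThreePrime.Block.Moves
import Cfsg.Agent.Lib.ThreePrime.Block.Size
import Cfsg.Agent.Lib.Components.CyclicSylowSimple

/-!
Owner: helper6.  A group of automorphisms transitive on the non-identity elements of an elementary group of
order `2 ^ n`, `n` odd, whose components have Suzuki quotients, is odd and semilinear.

* `fixed_of_fitting`: an automorphism fixing the `r`-cores fixes the Fitting subgroup
* `struct`: the conclusions
-/

set_option autoImplicit false
set_option linter.all false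

namespace CfsgLib.ThreePrime.Block

open Subgroup CfsgLib.ThreePrime.Linear

local instance factTwoBlockTransitive : Fact (Nat.Prime 2) := ⟨Nat.prime_two⟩

/-- An automorphism fixing every `r`-core pointwise fixes the Fitting subgroup pointwise. -/
theorem fixed_of_fitting {X : Type*} [Group X] [Finite X] (θ : MulAut X)
    (h : ∀ r, r.Prime → ∀ y ∈ Cfsg.pCore r X, θ y = y) : ∀ y ∈ Cfsg.fittingSubgroup X, θ y = y := by
  set F := Cfsg.fittingSubgroup X with hF
  haveI : Group.IsNilpotent F := CfsgLib.Components.fitting_isNilpotent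
  haveI : F.Normal := CfsgLib.Components.fitting_normal
  let E : Subgroup F := ((θ : X →* X).eqLocus (MonoidHom.id X)).subgroupOf F
  have hE : E = ⊤ := by
    refine eq_top_of_le_card _ (Nat.le_of_dvd Nat.card_pos ?_)
    refine (Nat.dvd_iff_prime_pow_dvd_dvd _ _).2 fun p j hp hdvd => ?_
    rcases Nat.eq_zero_or_pos j with h0 | h0
    · simp [h0]
    haveI := Fact.mk hp
    obtain ⟨Q⟩ := (Sylow.nonempty : Nonempty (Sylow p F))
    haveI : (Q : Subgroup F).Normal := inferInstance
    haveI := Q.characteristic_of_normal inferInstance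
    have hle : ((Q : Subgroup F).map F.subtype) ≤ Cfsg.pCore p X :=
      CfsgLib.Components.le_pCore inferInstance (Q.isPGroup'.map _)
    have hQE : (Q : Subgroup F) ≤ E := fun z hz => h p hp z (hle (mem_map_of_mem _ hz))
    exact (Q.pow_dvd_card_of_pow_dvd_card hdvd).trans (card_dvd_of_le hQE)
  exact fun y hy => (show (⟨y, hy⟩ : F) ∈ E from hE ▸ mem_top _)

variable {V : Type*} [CommGroup V] [Finite V] {n : ℕ}

/-- An automorphism as an endomorphism of the additive group. -/
def toEnd : MulAut V →* AddMonoid.End (Additive V) where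
  toFun x := MonoidHom.toAdditive x.toMonoidHom
  map_one' := rfl
  map_mul' _ _ := rfl

variable (hV : ∀ v : V, v ^ 2 = 1) (hcard : Nat.card V = 2 ^ n) (hn : 3 ≤ n) (hodd : Odd n)
include hV hcard hn

theorem nontrivial_V : Nontrivial V := by
  rw [← Finite.one_lt_card_iff_nontrivial, hcard]
  exact Nat.one_lt_two_pow (by omega)

include hodd

theorem fpf_of_pow {l : ℕ} (hl : IsPrim l n) {x : MulAut V} (hx : x ^ l = 1) (hx1 : x ≠ 1) {v : V}
    (hv : x v = v) : v = 1 := by
  classical
  let C : Subgroup V := (x : V →* V).eqLocus (MonoidHom.id V)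
  obtain ⟨j, hj⟩ : ∃ j, Nat.card C = 2 ^ j := by
    obtain ⟨j, -, hj⟩ := (Nat.dvd_prime_pow Nat.prime_two).1 (hcard ▸ card_subgroup_dvd_card C)
    exact ⟨j, hj⟩
  haveI := Fact.mk hl.prime
  have hpg : IsPGroup l (zpowers x) := by
    intro g
    refine ⟨1, Subtype.ext ?_⟩
    obtain ⟨i, hi⟩ := mem_zpowers_iff.1 g.2
    rw [SubgroupClass.coe_pow, pow_one, ← hi, ← zpow_natCast, ← zpow_mul, mul_comm, zpow_mul,
      zpow_natCast, hx, one_zpow]
    rfl
  have hfix : MulAction.fixedPoints (zpowers x) V = (C : Set V) := by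
    ext w
    refine ⟨fun h => h ⟨x, mem_zpowers x⟩, fun h g => ?_⟩
    obtain ⟨i, hi⟩ := mem_zpowers_iff.1 g.2
    have hs : x ∈ MulAction.stabilizer (MulAut V) w := h
    exact (show x ^ i ∈ MulAction.stabilizer (MulAut V) w from zpow_mem hs i) |>
      (fun e => by rw [MulAction.mem_stabilizer_iff, hi] at e; exact e)
  have hmod : 2 ^ n ≡ 2 ^ j [MOD l] := by
    rw [← hcard, ← hj]
    have := hpg.card_modEq_card_fixedPoints (α := V)
    rwa [hfix] at this
  have hjn : j ≤ n := by
    have := card_le_card_group C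
    rw [hj, hcard] at this
    exact (Nat.pow_le_pow_iff_right (by norm_num)).1 this
  rcases Nat.eq_zero_or_pos j with h0 | h0
  · have : C = ⊥ := card_eq_one.1 (by rw [hj, h0, pow_zero])
    exact mem_bot.1 (this ▸ (hv : v ∈ C))
  · exfalso
    have hd : l ∣ 2 ^ j * (2 ^ (n - j) - 1) := by
      rw [Nat.mul_sub, ← pow_add, Nat.add_sub_cancel' hjn, mul_one]
      exact (Nat.modEq_iff_dvd' (Nat.pow_le_pow_right (by norm_num) hjn)).1 hmod.symm
    have h2 := (hl.dvd_iff (by omega)).1
      ((hl.prime.dvd_mul.1 hd).resolve_left (hl.not_dvd_two_pow (by omega) j))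
    rcases Nat.eq_zero_or_pos (n - j) with h3 | h3
    · refine hx1 (MulEquiv.ext fun w => ?_)
      have : C = ⊤ := eq_top_of_card_eq _ (by rw [hj, hcard, show j = n by omega])
      exact (this ▸ mem_top w : w ∈ C)
    · have := Nat.le_of_dvd h3 h2
      omega

theorem isIrr_of_pow {l : ℕ} (hl : IsPrim l n) {x : MulAut V} (hx : x ^ l = 1) (hx1 : x ≠ 1) :
    IsIrr x := by
  classical
  intro U hU
  refine or_iff_not_imp_left.2 fun hne => ?_
  obtain ⟨j, -, hj⟩ := (Nat.dvd_prime_pow Nat.prime_two).1 (hcard ▸ card_subgroup_dvd_card U)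
  haveI := Fact.mk hl.prime
  have hd : l ∣ 2 ^ j - 1 := by
    by_contra hnd
    have hc : ¬ l ∣ Nat.card {u : U // u ≠ 1} := by
      haveI := Fintype.ofFinite U
      rwa [Nat.card_eq_fintype_card, Fintype.card_subtype_compl, Fintype.card_subtype_eq,
        ← Nat.card_eq_fintype_card, hj]
    let f : {u : U // u ≠ 1} → {u : U // u ≠ 1} := fun u =>
      ⟨⟨x u.1, hU _ u.1.2⟩, fun e => u.2 (Subtype.ext (x.injective
        ((congrArg Subtype.val e).trans (map_one x).symm)))⟩
    have hit : ∀ (i : ℕ) (u : {u : U // u ≠ 1}), ((f^[i] u).1 : V) = (x ^ i) (u.1 : V) := by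
      intro i
      induction i with
      | zero => intro u; rfl
      | succ i ih =>
        intro u
        rw [Function.iterate_succ_apply', pow_succ', MulAut.mul_apply, ← ih]
    obtain ⟨u, hu⟩ := exists_fixed_of_not_dvd f hl.prime
      (funext fun u => Subtype.ext (Subtype.ext (by rw [hit, hx]; rfl))) hc
    exact u.2 (Subtype.ext (fpf_of_pow hV hcard hn hodd hl hx hx1
      (congrArg (fun z => ((z.1 : U) : V)) hu)))
  have h2 := (hl.dvd_iff (by omega)).1 hd
  rcases Nat.eq_zero_or_pos j with h0 | h0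
  · exact absurd (card_eq_one.1 (by rw [hj, h0, pow_zero])) hne
  · refine eq_top_of_card_eq _ ?_
    have h1 := card_le_card_group U
    rw [hj, hcard] at h1 ⊢
    have := (Nat.pow_le_pow_iff_right (by norm_num)).1 h1
    have := Nat.le_of_dvd h0 h2
    rw [show j = n by omega]

omit hodd in
theorem eq_one_of_sq_commute {x a : MulAut V} (hx : IsIrr x) (hc : Commute a x) (ha : a ^ 2 = 1) :
    a = 1 := by
  let C : Subgroup V := (a : V →* V).eqLocus (MonoidHom.id V)
  have hinv : ∀ u ∈ C, x u ∈ C := fun u hu => by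
    show a (x u) = x u
    rw [← MulAut.mul_apply, hc.eq, MulAut.mul_apply, show a u = u from hu]
  rcases hx C hinv with h | h
  · exfalso
    obtain ⟨v, hv⟩ := @exists_ne V (nontrivial_V hV hcard hn) 1
    have hav : a (a v * v) = a v * v := by
      rw [map_mul, ← MulAut.mul_apply, ← sq, ha, MulAut.one_apply, mul_comm]
    have h1 : a v * v = 1 := mem_bot.1 (h ▸ (hav : a v * v ∈ C))
    have h2 : v * v = 1 := by rw [← sq]; exact hV v
    exact hv (mem_bot.1 (h ▸ (mul_right_cancel (h1.trans h2.symm) : v ∈ C)))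
  · exact MulEquiv.ext fun v => (h ▸ mem_top v : v ∈ C)

/-- The structure of a transitive group. -/
theorem struct (L : Subgroup (MulAut V)) (htr : ∀ v w : V, v ≠ 1 → w ≠ 1 → ∃ x ∈ L, x v = w)
    (hcomp : ∀ E : Subgroup L, Cfsg.IsComponent E → ∃ r, SzFacts (E ⧸ center E) r)
    {l : ℕ} (hl : IsPrim l n) :
    Odd (Nat.card L) ∧ (∃ x ∈ L, x ^ l = 1 ∧ x ≠ 1) ∧
      (∀ a ∈ L, ∀ b ∈ L, a ^ l = 1 → b ^ l = 1 → Commute a b) ∧
      (∀ a ∈ L, ∀ b ∈ L, ∀ s : ℕ, s.Prime → a ^ s = 1 → b ^ s = 1 →
        (∀ v, a v = v → v = 1) → (∀ v, b v = v → v = 1) → b ∈ zpowers a) := by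
  classical
  haveI := nontrivial_V hV hcard hn
  haveI hlf : Fact l.Prime := Fact.mk hl.prime
  haveI : Finite (MulAut V) := Finite.of_injective _ DFunLike.coe_injective
  have hn0 : 0 < n := by omega
  -- an element of order `l`
  obtain ⟨v0, hv0⟩ := exists_ne (1 : V)
  have hex : ∃ τ : L, τ ^ l = 1 ∧ τ ≠ 1 := by
    have hstab : Nat.card (MulAction.orbit L v0) ∣ Nat.card L := by
      rw [Nat.card_congr (MulAction.orbitEquivQuotientStabilizer L v0), ← index_eq_card]
      exact index_dvd_card _
    have horb : MulAction.orbit L v0 = {w : V | w ≠ 1} := by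
      ext w
      constructor
      · rintro ⟨g, rfl⟩ h
        exact hv0 ((g : MulAut V).injective (h.trans (map_one (g : MulAut V)).symm))
      · intro hw
        obtain ⟨x, hx, e⟩ := htr v0 w hv0 hw
        exact ⟨⟨x, hx⟩, e⟩
    haveI := Fintype.ofFinite V
    rw [horb, show Nat.card {w : V | w ≠ 1} = 2 ^ n - 1 by
      rw [← hcard, Nat.card_eq_fintype_card, Nat.card_eq_fintype_card]
      exact Fintype.card_subtype_compl _ |>.trans (by rw [Fintype.card_subtype_eq])] at hstab
    obtain ⟨τ, hτ⟩ := exists_prime_orderOf_dvd_card' l (hl.dvd.trans hstab)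
    refine ⟨τ, by rw [← hτ, pow_orderOf_eq_one], fun e => ?_⟩
    rw [e, orderOf_one] at hτ
    exact hl.prime.ne_one hτ.symm
  -- no normal two-subgroups
  have hcore : Cfsg.pCore 2 L = ⊥ := by
    set P := Cfsg.pCore 2 L with hP
    haveI : P.Normal := CfsgLib.Components.pCore_normal 2
    have h1 : (1 : V) ∈ MulAction.fixedPoints P V := fun p => map_one ((p : L) : MulAut V)
    obtain ⟨w, hw, hwne⟩ := (CfsgLib.Components.pCore_isPGroup (G := L) 2 :
      IsPGroup 2 P).exists_fixed_point_of_prime_dvd_card_of_fixed_point V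
        (hcard ▸ dvd_pow_self 2 (by omega)) h1
    refine (Subgroup.eq_bot_iff_forall _).2 fun p hp => Subtype.ext (MulEquiv.ext fun v => ?_)
    by_cases hv : v = 1
    · rw [hv, map_one, map_one]
    obtain ⟨x, hx, e⟩ := htr w v (Ne.symm hwne) hv
    have := hw ⟨_, (inferInstance : P.Normal).conj_mem p hp (⟨x, hx⟩ : L)⁻¹⟩
    change (x⁻¹ : MulAut V) ((p : MulAut V) (((x⁻¹)⁻¹ : MulAut V) w)) = w at this
    rw [inv_inv, e] at this
    have h2 := congrArg x this
    rwa [MulAut.apply_inv_self, e] at h2
  -- the facts for every element of order `l`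
  have main : ∀ τ : L, τ ^ l = 1 → τ ≠ 1 → τ ∈ Cfsg.fittingSubgroup L ∧
      Cfsg.fittingSubgroup L ≤ centralizer ({τ} : Set L) := by
    intro τ hτ hτ1
    have hτV : (τ : MulAut V) ^ l = 1 := congrArg Subtype.val hτ
    have hτV1 : (τ : MulAut V) ≠ 1 := fun e => hτ1 (Subtype.ext e)
    have hirr := isIrr_of_pow hV hcard hn hodd hl hτV hτV1
    let θ : MulAut L := MulAut.conj τ
    have hθ : θ ^ l = 1 := by rw [← map_pow, hτ, map_one]
    have hcom : ∀ x : L, θ x = x → Commute (x : MulAut V) τ := fun x hx => by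
      have : (τ : L) * x = x * τ := mul_inv_eq_iff_eq_mul.1 hx
      exact (congrArg Subtype.val this).symm
    have hlayer : Cfsg.layer L = ⊥ := by
      rw [CfsgLib.Components.layer_eq_bot_iff]
      intro E hE
      obtain ⟨r, hr⟩ := hcomp E hE
      have h1 := hl.dvd_of_suzuki hn0 hodd (component_data hl.prime hθ (fun x hx hx2 =>
        Subtype.ext (eq_one_of_sq_commute hV hcard hn hirr (hcom x hx) (congrArg Subtype.val hx2)))
        hcore hE hr)
      obtain ⟨x, hx⟩ := hr.big
      obtain ⟨y, rfl⟩ := QuotientGroup.mk_surjective x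
      have h2 := Size.orderOf_lt_card hV ((y : L) : MulAut V)
      rw [Subgroup.orderOf_coe, Subgroup.orderOf_coe, hcard] at h2
      have h3 := Nat.le_of_dvd (orderOf_pos y) (orderOf_map_dvd (QuotientGroup.mk' (center E)) y)
      have h4 : 2 ^ n ≤ 2 ^ (2 * r + 1) := Nat.pow_le_pow_right (by norm_num) (Nat.le_of_dvd (by omega) h1)
      simp only [QuotientGroup.mk'_apply] at h3
      omega
    have hF : ∀ y ∈ Cfsg.fittingSubgroup L, θ y = y := fixed_of_fitting θ fun r hr y hy => by
      by_cases hrl : r = l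
      · -- the `l`-core with `τ` is abelian
        subst hrl
        set P := Cfsg.pCore r L with hP
        haveI : P.Normal := CfsgLib.Components.pCore_normal r
        let H : Subgroup L := P ⊔ zpowers τ
        have hHp : IsPGroup r H := (CfsgLib.Components.pCore_isPGroup r).to_sup_of_normal_left
          (by
            intro g
            refine ⟨1, Subtype.ext ?_⟩
            obtain ⟨i, hi⟩ := mem_zpowers_iff.1 g.2
            rw [SubgroupClass.coe_pow, pow_one, ← hi, ← zpow_natCast, ← zpow_mul, mul_comm, zpow_mul,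
              zpow_natCast, hτ, one_zpow]
            rfl)
        let τH : H := ⟨τ, mem_sup_right (mem_zpowers τ)⟩
        let C : Subgroup H := centralizer ({τH} : Set H)
        have hC : C = ⊤ := by
          haveI := hHp.isNilpotent
          by_contra hne
          obtain ⟨u, huN, huC⟩ := Set.exists_of_ssubset
            (Group.normalizerCondition_of_isNilpotent C (lt_top_iff_ne_top.2 hne))
          refine huC ?_
          let Cv : Subgroup (MulAut V) := C.map (L.subtype.comp H.subtype)
          haveI : IsCyclic Cv := isCyclic_of_commute hV hirr Cv (by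
            rintro _ ⟨z, hz, rfl⟩
            exact congrArg (fun w : H => ((w : L) : MulAut V)) (mem_centralizer_singleton_iff.1 hz))
          have hu : u * τH * u⁻¹ ∈ C := (mem_normalizer_iff.1 huN τH).1
            (mem_centralizer_singleton_iff.2 rfl)
          have hτC : ((τH : L) : MulAut V) ∈ Cv := ⟨τH, mem_centralizer_singleton_iff.2 rfl, rfl⟩
          have hz := CfsgLib.Components.zpowers_eq_of_isCyclic (S := Cv)
            (show (((u * τH * u⁻¹ : H) : L) : MulAut V) ∈ Cv from ⟨_, hu, rfl⟩) hτC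
            (by simpa using (MulAut.conj ((u : L) : MulAut V)).orderOf_eq ((τH : L) : MulAut V))
          obtain ⟨i, hi⟩ := mem_zpowers_iff.1 (hz ▸ mem_zpowers _ :
            (((u * τH * u⁻¹ : H) : L) : MulAut V) ∈ zpowers ((τH : L) : MulAut V))
          have hconj : u * τH * u⁻¹ = τH ^ i := Subtype.ext (Subtype.ext (by rw [← hi]; rfl))
          obtain ⟨e, he⟩ := hHp u
          have hpow : ∀ j : ℕ, u ^ j * τH * (u ^ j)⁻¹ = τH ^ (i ^ j) := by
            intro j
            induction j with
            | zero => simp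
            | succ j ih =>
              calc u ^ (j + 1) * τH * (u ^ (j + 1))⁻¹ = u * (u ^ j * τH * (u ^ j)⁻¹) * u⁻¹ := by
                    rw [pow_succ']; group
                _ = τH ^ (i ^ (j + 1)) := by rw [ih, ← conj_zpow, hconj, ← zpow_mul, ← pow_succ']
          have h1 := hpow (r ^ e)
          rw [he, one_mul, inv_one, mul_one] at h1
          have hord : orderOf τH = r := by
            rw [← Subgroup.orderOf_coe]; exact orderOf_eq_prime hτ hτ1
          have h2 : ((i : ZMod r)) ^ (r ^ e) = 1 := by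
            have h3 := zpow_eq_zpow_iff_modEq.1 (h1.symm.trans (zpow_one τH).symm)
            rw [hord] at h3
            simpa using (ZMod.intCast_eq_intCast_iff _ _ r).2 h3
          rw [ZMod.pow_card_pow] at h2
          rw [SetLike.mem_coe, mem_centralizer_singleton_iff]
          have h4 : u * τH * u⁻¹ = τH := by
            rw [hconj]
            conv_rhs => rw [← zpow_one τH]
            rw [zpow_eq_zpow_iff_modEq, hord, ← ZMod.intCast_eq_intCast_iff]
            simpa using h2
          exact mul_inv_eq_iff_eq_mul.1 h4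
        have hy' : (⟨y, mem_sup_left hy⟩ : H) ∈ C := hC ▸ mem_top _
        have := congrArg Subtype.val (mem_centralizer_singleton_iff.1 hy')
        show τ * y * τ⁻¹ = y
        rw [show τ * y = y * τ from this.symm, mul_inv_cancel_right]
      · haveI := Fact.mk hr
        by_cases hr2 : r = 2
        · subst hr2
          rw [hcore, mem_bot] at hy
          rw [hy, map_one]
        let ρ : L →* AddMonoid.End (Additive V) := toEnd.comp L.subtype
        obtain ⟨e, he⟩ := IsPGroup.iff_card.1 (CfsgLib.Components.pCore_isPGroup (G := L) r)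
        refine CfsgLib.Core.HH.fixed_of_fpf_module ρ θ (q := l) (σ := toEnd (τ : MulAut V)) hθ
          (by rw [← map_pow, hτV, map_one]) (fun g v => ?_)
          (fun v hv => Additive.toMul.injective (fpf_of_pow hV hcard hn hodd hl hτV hτV1 hv)) ?_
          (CfsgLib.Components.pCore_isPGroup r).isNilpotent
          (fun g hg => (CfsgLib.Components.pCore_normal r).conj_mem g hg τ) ?_ ?_
          (fun g hg h => Subtype.ext (MulEquiv.ext fun v => Additive.ofMul.injective (h (Additive.ofMul v))))
          (fun h => ?_) y hy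
        · show Additive.ofMul (((τ : MulAut V)) ((g : MulAut V) (Additive.toMul v))) = Additive.ofMul
            (((τ * g * τ⁻¹ : L) : MulAut V) ((τ : MulAut V) (Additive.toMul v)))
          simp
        · rw [show Nat.card (Additive V) = Nat.card V from rfl, hcard]
          exact Nat.Coprime.pow_left n ((Nat.coprime_primes Nat.prime_two hl.prime).2 (hl.ne_two hn0).symm)
        · rw [he]
          exact Nat.Coprime.pow_left e ((Nat.coprime_primes hr hl.prime).2 hrl)
        · rw [show Nat.card (Additive V) = Nat.card V from rfl, hcard, he]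
          exact ((Nat.coprime_primes Nat.prime_two hr).2 (Ne.symm hr2)).pow _ _
        · exact hr2 ((Nat.prime_dvd_prime_iff_eq Nat.prime_two hr).1
            (Nat.prime_two.dvd_of_dvd_pow (he ▸ h.1))).symm
    have hFC : Cfsg.fittingSubgroup L ≤ centralizer ({τ} : Set L) := fun y hy =>
      mem_centralizer_singleton_iff.2 (mul_inv_eq_iff_eq_mul.1 (hF y hy)).symm
    exact ⟨CfsgLib.Components.centralizer_fitting_le_of_layer_eq_bot hlayer
      (mem_centralizer_iff.2 fun y hy => mem_centralizer_singleton_iff.1 (hFC hy)), hFC⟩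
  obtain ⟨τ, hτ, hτ1⟩ := hex
  have hτV : (τ : MulAut V) ^ l = 1 := congrArg Subtype.val hτ
  have hτV1 : (τ : MulAut V) ≠ 1 := fun e => hτ1 (Subtype.ext e)
  have hirr := isIrr_of_pow hV hcard hn hodd hl hτV hτV1
  obtain ⟨hτF, hFτ⟩ := main τ hτ hτ1
  -- conjugation induces powers on `τ`
  have hnorm : ∀ x : L, ∃ i : ℕ, (x : MulAut V) * τ = (τ : MulAut V) ^ i * x := by
    intro x
    let Cv : Subgroup (MulAut V) := (Cfsg.fittingSubgroup L).map L.subtype
    haveI : IsCyclic Cv := isCyclic_of_commute hV hirr Cv (by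
      rintro _ ⟨z, hz, rfl⟩
      exact congrArg Subtype.val (mem_centralizer_singleton_iff.1 (hFτ hz)))
    have hxF : x * τ * x⁻¹ ∈ Cfsg.fittingSubgroup L :=
      CfsgLib.Components.fitting_normal.conj_mem τ hτF x
    have hz := CfsgLib.Components.zpowers_eq_of_isCyclic (S := Cv)
      (mem_map_of_mem L.subtype hxF) (mem_map_of_mem L.subtype hτF) (by
        simpa using (MulAut.conj (x : MulAut V)).orderOf_eq (τ : MulAut V))
    have hmem : ((x * τ * x⁻¹ : L) : MulAut V) ∈ zpowers (τ : MulAut V) := by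
      rw [← show zpowers ((L.subtype) (x * τ * x⁻¹)) = zpowers (τ : MulAut V) from hz]
      exact mem_zpowers _
    rw [← mem_powers_iff_mem_zpowers] at hmem
    obtain ⟨i, hi⟩ := hmem
    refine ⟨i, ?_⟩
    rw [show (τ : MulAut V) ^ i = ((x * τ * x⁻¹ : L) : MulAut V) from hi]
    simp
  refine ⟨?_, ⟨τ, τ.2, hτV, hτV1⟩, ?_, ?_⟩
  · rw [← Nat.not_even_iff_odd, even_iff_two_dvd]
    intro hd
    obtain ⟨x, hx⟩ := exists_prime_orderOf_dvd_card' 2 hd
    obtain ⟨i, hi⟩ := hnorm x
    have hx2 : (x : MulAut V) ^ 2 = 1 :=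
      congrArg Subtype.val (by rw [← hx, pow_orderOf_eq_one] : x ^ 2 = 1)
    have hc := pow_commute hV hcard hirr hi
    obtain ⟨k, rfl⟩ := hodd
    rw [pow_succ, pow_mul, hx2, one_pow, one_mul] at hc
    have : x = 1 := Subtype.ext (eq_one_of_sq_commute hV hcard hn hirr hc hx2)
    rw [this, orderOf_one] at hx
    omega
  · intro a ha b hb hal hbl
    by_cases ha1 : a = 1
    · rw [ha1]; exact Commute.one_left b
    by_cases hb1 : b = 1
    · rw [hb1]; exact Commute.one_right a
    obtain ⟨-, hFa⟩ := main ⟨a, ha⟩ (Subtype.ext hal) (fun e => ha1 (congrArg Subtype.val e))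
    obtain ⟨hbF, -⟩ := main ⟨b, hb⟩ (Subtype.ext hbl) (fun e => hb1 (congrArg Subtype.val e))
    exact (congrArg Subtype.val (mem_centralizer_singleton_iff.1 (hFa hbF))).symm
  · intro a ha b hb s hs has hbs hfa hfb
    have hcom : ∀ c ∈ L, c ^ s = 1 → (∀ v, c v = v → v = 1) → Commute c (τ : MulAut V) := by
      intro c hc hcs hfc
      by_contra hnc
      obtain ⟨i, hi⟩ := hnorm ⟨c, hc⟩
      obtain ⟨v, hv1, hv⟩ := exists_fixed hV hirr hi hs hcs hnc
      exact hv1 (hfc v hv)
    let Cv : Subgroup (MulAut V) := centralizer ({(τ : MulAut V)} : Set (MulAut V))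
    haveI : IsCyclic Cv := isCyclic_of_commute hV hirr Cv fun z hz => mem_centralizer_singleton_iff.1 hz
    haveI := Fact.mk hs
    have hne : ∀ c : MulAut V, (∀ v, c v = v → v = 1) → c ≠ 1 := fun c h e =>
      hv0 (h v0 (by rw [e]; rfl))
    have := CfsgLib.Components.zpowers_eq_of_isCyclic (S := Cv)
      (mem_centralizer_singleton_iff.2 (hcom b hb hbs hfb).eq)
      (mem_centralizer_singleton_iff.2 (hcom a ha has hfa).eq)
      ((orderOf_eq_prime hbs (hne b hfb)).trans (orderOf_eq_prime has (hne a hfa)).symm)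
    exact this ▸ mem_zpowers b

end CfsgLib.ThreePrime.Block
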