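import Cfsg.Agent.Lib.ThreePrime.Block.Witness
import Cfsg.Agent.Lib.ThreePrime.Block.Transitive

/-!
Owner: helper6.  The action of `N(A)` on `A`, and the Sylow subgroups of bad centralisers.

* `Aut`, `exists_aut`: `N(A)/C(A)` is odd with a normal subgroup of primitive prime order
* `exists_tau`: a torus element of that order normalising a top group
* `card_lt_of_bad`: no Sylow subgroup of `G` lies in `C(c) ∩ pM` for a bad involution `c`
-/

set_option autoImplicit false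
set_option linter.all false

namespace CfsgLib.ThreePrime.Block

open Subgroup CfsgLib.Bender.Dichotomy CfsgLib.Signalizer

universe u

local instance factTwoBlockAutomizer : Fact (Nat.Prime 2) := ⟨Nat.prime_two⟩

variable {G : Type u} [Group G] [Finite G] {S : Sylow 2 G} {A : Subgroup G}

/-- The properties of the action of `N(A)` on `A`. -/
structure Aut (A : Subgroup G) (m l : ℕ) : Prop where
  one_le : 1 ≤ m
  card : Nat.card A = 2 ^ (2 * m + 1)
  prim : IsPrim l (2 * m + 1)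
  even : ∀ x ∈ normalizer (A : Set G), ∀ k, x ^ 2 ^ k ∈ centralizer (A : Set G) →
    x ∈ centralizer (A : Set G)
  comm : ∀ x ∈ normalizer (A : Set G), ∀ y ∈ normalizer (A : Set G), x ^ l ∈ centralizer (A : Set G) →
    y ^ l ∈ centralizer (A : Set G) → x * y * x⁻¹ * y⁻¹ ∈ centralizer (A : Set G)
  free : ∀ x ∈ normalizer (A : Set G), x ^ l ∈ centralizer (A : Set G) → x ∉ centralizer (A : Set G) →
    ∀ a ∈ A, x * a * x⁻¹ = a → a = 1
  irr : ∀ x ∈ normalizer (A : Set G), x ^ l ∈ centralizer (A : Set G) → x ∉ centralizer (A : Set G) →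
    ∀ B ≤ A, (∀ b ∈ B, x * b * x⁻¹ ∈ B) → B = ⊥ ∨ B = A
  scalar : ∀ s, s.Prime → ∀ x ∈ normalizer (A : Set G), ∀ y ∈ normalizer (A : Set G),
    x ^ s ∈ centralizer (A : Set G) → y ^ s ∈ centralizer (A : Set G) →
    (∀ a ∈ A, x * a * x⁻¹ = a → a = 1) → (∀ a ∈ A, y * a * y⁻¹ = a → a = 1) →
    ∃ i : ℤ, (x ^ i)⁻¹ * y ∈ centralizer (A : Set G)

omit [Finite G] in
theorem commute_of_mem_cent {a : G} (ha : a ∈ A) {x : G} (hx : x ∈ centralizer (A : Set G)) :
    x * a * x⁻¹ = a := by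
  rw [← mem_centralizer_iff.1 hx a ha, mul_inv_cancel_right]

theorem exists_aut (hC : Ctx S A) : ∃ m l, Aut A m l := by
  classical
  obtain ⟨c, hcb, hcA⟩ := hC.ex
  obtain ⟨K, m, T, hd⟩ := exists_blockData hC hcb hcA
  obtain ⟨l, hl⟩ := exists_prim (n := 2 * m + 1) (by have := hd.facts.one_le; omega) ⟨m, rfl⟩
  have hn : 3 ≤ 2 * m + 1 := by have := hd.facts.one_le; omega
  letI : CommGroup A := { (inferInstance : Group A) with
    mul_comm := hC.pt.elem.1.is_comm.comm }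
  haveI : Finite (MulAut A) := Finite.of_injective _ DFunLike.coe_injective
  let f : normalizer (A : Set G) →* MulAut A := A.normalizerMonoidHom
  have hf : ∀ (x : normalizer (A : Set G)) (a : A), ((f x a : A) : G) = x * a * (x : G)⁻¹ :=
    fun x a => rfl
  have hV : ∀ v : A, v ^ 2 = 1 := fun v => Subtype.ext (hC.pt.elem.2 v v.2)
  have hker : ∀ x : normalizer (A : Set G), f x = 1 ↔ (x : G) ∈ centralizer (A : Set G) := by
    intro x
    rw [← MonoidHom.mem_ker, normalizerMonoidHom_ker, mem_subgroupOf]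
  have hcard : Nat.card f.range ∣ Nat.card G :=
    (card_range_dvd f).trans (card_subgroup_dvd_card _)
  have hlt : Nat.card f.range < Nat.card G := by
    refine lt_of_le_of_lt (Nat.le_of_dvd Nat.card_pos (card_range_dvd f))
      (lt_of_le_of_ne (card_le_card_group _) fun e => ?_)
    exact pM_ne_top hC (top_le_iff.1 ((eq_top_of_card_eq _ e).ge.trans le_sup_left))
  obtain ⟨h1, -, h2, h3⟩ := struct (V := A) hV hd.qA hn ⟨m, rfl⟩ f.range
    (fun v w hv hw => by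
      obtain ⟨g, hg, e⟩ := hC.transA v v.2 w w.2 (fun e => hv (Subtype.ext e)) (fun e => hw (Subtype.ext e))
      exact ⟨f ⟨g, hg⟩, ⟨_, rfl⟩, Subtype.ext e⟩)
    (fun E hE => hC.sz _ (component_isSz_of_dvd hC.pt.hyp hcard hlt hE)) hl
  have hpow : ∀ (x : normalizer (A : Set G)) (j : ℕ), (x : G) ^ j ∈ centralizer (A : Set G) →
      f x ^ j = 1 := fun x j h => by rw [← map_pow, hker]; exact h
  have hne : ∀ x : normalizer (A : Set G), (x : G) ∉ centralizer (A : Set G) → f x ≠ 1 :=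
    fun x hx e => hx ((hker x).1 e)
  refine ⟨m, l, hd.facts.one_le, hd.qA, hl, ?_, ?_, ?_, ?_, ?_⟩
  · intro x hx k hk
    refine (hker ⟨x, hx⟩).1 (orderOf_eq_one_iff.1 ?_)
    refine (Nat.Coprime.pow_right k ?_).eq_one_of_dvd (orderOf_dvd_of_pow_eq_one (hpow ⟨x, hx⟩ (2 ^ k) hk))
    exact Nat.coprime_two_right.2 (h1.of_dvd_nat (by
      rw [← Subgroup.orderOf_mk (H := f.range) (f ⟨x, hx⟩) ⟨_, rfl⟩]; exact orderOf_dvd_natCard _))
  · intro x hx y hy hxl hyl
    have := h2 _ ⟨⟨x, hx⟩, rfl⟩ _ ⟨⟨y, hy⟩, rfl⟩ (hpow ⟨x, hx⟩ l hxl) (hpow ⟨y, hy⟩ l hyl)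
    refine (hker (⟨x, hx⟩ * ⟨y, hy⟩ * ⟨x, hx⟩⁻¹ * ⟨y, hy⟩⁻¹)).1 ?_
    rw [map_mul, map_mul, map_mul, map_inv, map_inv, this.eq, mul_inv_cancel_right, mul_inv_cancel]
  · intro x hx hxl hxC a ha hfix
    have h : (⟨a, ha⟩ : A) = 1 := fpf_of_pow hV hd.qA hn ⟨m, rfl⟩ hl (hpow ⟨x, hx⟩ l hxl)
      (hne ⟨x, hx⟩ hxC) (Subtype.ext hfix)
    exact congrArg Subtype.val h
  · intro x hx hxl hxC B hB hinv
    rcases isIrr_of_pow hV hd.qA hn ⟨m, rfl⟩ hl (hpow ⟨x, hx⟩ l hxl) (hne ⟨x, hx⟩ hxC)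
      (B.subgroupOf A) (fun b hb => mem_subgroupOf.2 (hinv _ (mem_subgroupOf.1 hb))) with h | h
    · left
      refine (Subgroup.eq_bot_iff_forall _).2 fun b hb => ?_
      have h' : (⟨b, hB hb⟩ : A) ∈ B.subgroupOf A := mem_subgroupOf.2 hb
      rw [h, mem_bot] at h'
      exact congrArg Subtype.val h'
    · exact Or.inr (le_antisymm hB (subgroupOf_eq_top.1 h))
  · intro s hs x hx y hy hxs hys hfx hfy
    have := h3 _ ⟨⟨x, hx⟩, rfl⟩ _ ⟨⟨y, hy⟩, rfl⟩ s hs (hpow ⟨x, hx⟩ s hxs) (hpow ⟨y, hy⟩ s hys)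
      (fun v hv => Subtype.ext (hfx v v.2 (congrArg Subtype.val hv)))
      (fun v hv => Subtype.ext (hfy v v.2 (congrArg Subtype.val hv)))
    obtain ⟨i, hi⟩ := mem_zpowers_iff.1 this
    refine ⟨i, (hker ((⟨x, hx⟩ ^ i)⁻¹ * ⟨y, hy⟩)).1 ?_⟩
    rw [map_mul, map_inv, map_zpow, hi, inv_mul_cancel]

variable {m l : ℕ}

theorem le_centralizer_of_two (hA : Aut A m l) {U : Subgroup G} (hU : IsPGroup 2 U)
    (hle : U ≤ normalizer (A : Set G)) : U ≤ centralizer (A : Set G) := by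
  intro u hu
  obtain ⟨k, hk⟩ := exists_pow_two hU hu
  exact hA.even u (hle hu) k (by rw [hk]; exact one_mem _)

theorem S_le_centralizer (hC : Ctx S A) (hA : Aut A m l) :
    (S : Subgroup G) ≤ centralizer (A : Set G) :=
  le_centralizer_of_two hA S.isPGroup' (S_le_normalizer hC)

theorem mem_normalizer_A {g : G} {U : Subgroup G} (hC : Ctx S A) (hU : IsPGroup 2 U) (hAU : A ≤ U)
    (hg : g ∈ normalizer (U : Set G)) : g ∈ normalizer (A : Set G) := by
  refine mem_normalizer_of_cj (eq_of_le_of_card_ge (cj_le_iff.2 fun a ha => ?_) (card_cj _ _).ge)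
  by_cases ha1 : a = 1
  · rw [ha1, mul_one, mul_inv_cancel]; exact one_mem _
  obtain ⟨h, hh⟩ := exists_conj_sylow (S := S) hU
  have hg' : g * a * g⁻¹ ∈ U := (mem_normalizer_iff.1 hg a).1 (hAU ha)
  -- all elements of `A`-type of a two-group over `A` lie in `A`
  have hin : ∀ x ∈ A, h⁻¹ * x * h ∈ A := fun x hx => by
    have := hC.pt.closed.2 x hx h⁻¹ (by rw [inv_inv]; exact hh x (hAU hx))
    rwa [inv_inv] at this
  have hN : h⁻¹ ∈ normalizer (A : Set G) := mem_normalizer_of_cj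
    (eq_of_le_of_card_ge (cj_le_iff.2 fun x hx => by rw [inv_inv]; exact hin x hx) (card_cj _ _).ge)
  have h1 := IsA.mem hC (((isA_of_mem ha ha1).conj g).conj h⁻¹) (by
    rw [inv_inv]; exact hh _ hg')
  exact (mem_normalizer_iff.1 hN _).2 h1

variable {c : G} {K : Subgroup (cQ c)} {m' : ℕ} {T : Sylow 2 K}

/-- A torus element of primitive prime order. -/
theorem exists_tau (hC : Ctx S A) (hA : Aut A m l) (hd : BlockData A c K m' T) {U : Subgroup G}
    (hU : IsTop A c U) : ∃ τ : G, τ ∈ cH c ∧ τ ∈ pM A ∧ τ ∈ normalizer (U : Set G) ∧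
      τ ∈ normalizer (A : Set G) ∧ τ ^ l ∈ centralizer (A : Set G) ∧ τ ∉ centralizer (A : Set G) ∧
      ∀ q ∈ Qpart A c U, τ * q = q * τ := by
  classical
  haveI := hd.normal
  have hmm : m' = m := by
    have h := Nat.pow_right_injective le_rfl (hd.qA.symm.trans hA.card)
    omega
  haveI := Fintype.ofFinite (Sylow 2 K)
  obtain ⟨T', hT'⟩ := Fintype.exists_ne_of_one_lt_card (by
    rw [← Nat.card_eq_fintype_card, card_sylow hd.facts]
    have : 0 < (2 ^ (2 * m' + 1)) ^ 2 := by positivity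
    omega) T
  haveI := Fact.mk hA.prim.prime
  obtain ⟨t, ht⟩ := exists_prime_orderOf_dvd_card' (G := tor T T') l (by
    rw [card_tor hd.facts hT'.symm, hmm]; exact hA.prim.dvd)
  obtain ⟨τ, hτM, hτt, hτU, hτQ⟩ := exists_torus hd hU t.2.1
  have hτA := mem_normalizer_A hC hU.two hU.A_le hτU
  refine ⟨τ, τ.2, hτM, hτU, hτA, ?_, fun hτc => ?_, hτQ⟩
  · refine mem_centralizer_iff.2 fun a ha => ?_
    have hcore : (τ : G) ^ l ∈ core c := by
      refine mem_oddCore_iff.1 ((QuotientGroup.eq_one_iff (τ ^ l)).1 ?_)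
      show cπ c (τ ^ l) = 1
      rw [map_pow, hτt, ← SubgroupClass.coe_pow, show (t : K) ^ l = 1 from
        congrArg Subtype.val (ht ▸ pow_orderOf_eq_one t : t ^ l = 1)]
      rfl
    have h1 : (τ : G) ^ l * a * ((τ : G) ^ l)⁻¹ * a⁻¹ ∈ A :=
      mul_mem ((mem_normalizer_iff.1 (pow_mem hτA l) a).1 ha) (inv_mem ha)
    have h2 : (τ : G) ^ l * a * ((τ : G) ^ l)⁻¹ * a⁻¹ ∈ core c := by
      have := mul_mem hcore (core_conj hd (A_le_cH hd.cent ha) (inv_mem hcore))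
      simpa [mul_assoc] using this
    have h3 := eq_one_of_two_core (k := 1) (by rw [pow_one]; exact hC.pt.elem.2 _ h1) h2
    exact (mul_inv_eq_iff_eq_mul.1 (mul_inv_eq_one.1 h3)).symm
  · obtain ⟨y, hy, hy2⟩ := exists_four hd.facts T
    obtain ⟨a, ha, e⟩ := (hd.omega (y ^ 2)).2 ⟨pow_mem hy 2, sq_sq hd.facts hy⟩
    have hcomm : (t : K) * y ^ 2 = y ^ 2 * t := Subtype.ext (by
      rw [Subgroup.coe_mul, Subgroup.coe_mul, ← hτt, ← e, ← map_mul, ← map_mul]
      exact congrArg _ (Subtype.ext (mem_centralizer_iff.1 hτc (a : G) (mem_subgroupOf.1 ha)).symm))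
    have h1 := tor_inf_sylow hd.facts hT'.symm t.2 (hd.facts.cent_invol T (y ^ 2) (pow_mem hy 2)
      (sq_sq hd.facts hy) hy2 (mem_centralizer_singleton_iff.2 hcomm))
    rw [show t = 1 from Subtype.ext h1, orderOf_one] at ht
    exact hA.prim.prime.ne_one ht.symm

omit K m' T in
theorem exists_full_conj (hC : Ctx S A) (hb : Bad A c) {V R : Subgroup G} (hV : IsPGroup 2 V)
    (hVle : V ≤ cH c ⊓ pM A) (hcard : Nat.card (S : Subgroup G) ≤ Nat.card V) (hR : IsPGroup 2 R)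
    (hRle : R ≤ cH c ⊓ pM A) :
    ∃ ν ∈ pM A, (∀ r ∈ R, ν * r * ν⁻¹ ∈ (S : Subgroup G)) ∧
      (S : Subgroup G) ≤ cH (ν * c * ν⁻¹) ∧ ν * c * ν⁻¹ ∈ (S : Subgroup G) ∧
      Bad A (ν * c * ν⁻¹) ∧ ν * c * ν⁻¹ ∈ centralizer (A : Set G) := by
  obtain ⟨P, hRP, hPle, hP, hPmax, hPconj⟩ := exists_sylow_in hR hRle
  have hPS : Nat.card (S : Subgroup G) ≤ Nat.card P := by
    obtain ⟨x, hx, hle⟩ := hPconj V hVle hV
    calc _ ≤ Nat.card V := hcard
      _ = Nat.card (cj x V) := (card_cj x V).symm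
      _ ≤ _ := Nat.le_of_dvd Nat.card_pos (card_dvd_of_le hle)
  obtain ⟨ν, hν, hνS⟩ := exists_conj_le_S hC hP (hPle.trans inf_le_right)
  have heq : cj ν P = (S : Subgroup G) :=
    eq_of_le_of_card_ge (cj_le_iff.2 hνS) (by rw [card_cj]; exact hPS)
  have hcP : c ∈ P := by
    have hc : zpowers c ≤ centralizer (P : Set G) := zpowers_le.2 (mem_centralizer_iff.2 fun u hu =>
      mem_centralizer_singleton_iff.1 (hPle hu).1)
    have := hPmax (P ⊔ zpowers c) (sup_le hPle (zpowers_le.2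
      ⟨mem_centralizer_singleton_iff.2 rfl, hb.mem⟩)) (hP.to_sup_of_normal_left'
        (isPGroup_of_invol hb.ord) (hc.trans (centralizer_le_normalizer _))) le_sup_left
    exact this ▸ mem_sup_right (mem_zpowers c)
  have hcS := hνS c hcP
  refine ⟨ν, hν, fun r hr => hνS r (hRP hr), fun s hs => ?_, hcS, bad_conj hC hb hν,
    (hC.bad _ (bad_conj hC hb hν) (S_le_normalizer hC hcS)).1⟩
  rw [← heq] at hs
  obtain ⟨p, hp, rfl⟩ := hs
  rw [mem_centralizer_singleton_iff]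
  have := (Commute.conj_iff ν).2 (show Commute p c from mem_centralizer_singleton_iff.1 (hPle hp).1)
  exact this.eq

omit K m' T in
theorem false_of_full_pair (hC : Ctx S A) (hA : Aut A m l) (hc : Bad A c)
    (hcA : c ∈ centralizer (A : Set G)) (hS : (S : Subgroup G) ≤ cH c) {a : G} (ha : a ∈ A)
    (ha1 : a ≠ 1) (hd : Bad A (a * c)) : False := by
  classical
  have htop : ∀ z : G, (S : Subgroup G) ≤ cH z → IsTop A z (S : Subgroup G) := fun z hz =>
    ⟨S.isPGroup', hC.pt.le, le_inf hz (S_le_pM hC), fun V hV hSV _ => S.is_maximal' hV hSV⟩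
  have hSA := S_le_centralizer hC hA
  have hac : (a : G) * c = c * a := mem_centralizer_iff.1 hcA a ha
  have hdA : a * c ∈ centralizer (A : Set G) :=
    mul_mem (hSA (hC.pt.le ha)) hcA
  have hSd : (S : Subgroup G) ≤ cH (a * c) := fun s hs => mem_centralizer_singleton_iff.2 (by
    rw [← mul_assoc, ← mem_centralizer_iff.1 (hSA hs) a ha, mul_assoc,
      mem_centralizer_singleton_iff.1 (hS hs), mul_assoc])
  obtain ⟨K₁, m₁, T₁, hd₁⟩ := exists_blockData hC hc hcA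
  obtain ⟨K₂, m₂, T₂, hd₂⟩ := exists_blockData hC hd hdA
  obtain ⟨τ, hτc, -, hτS, hτA, hτl, hτn, -⟩ := exists_tau hC hA hd₁ (htop c hS)
  obtain ⟨ρ, hρd, -, hρS, hρA, hρl, hρn, -⟩ := exists_tau hC hA hd₂ (htop _ hSd)
  set x := ρ * τ * ρ⁻¹ * τ⁻¹ with hx
  have hxA : x ∈ centralizer (A : Set G) := hA.comm ρ hρA τ hτA hρl hτl
  -- the effect on `c`
  set a' := ρ * a * ρ⁻¹ * a with ha'
  have ha'A : a' ∈ A := mul_mem ((mem_normalizer_iff.1 hρA a).1 ha) ha
  have hρc : ρ * c * ρ⁻¹ = a' * c := by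
    have h1 : ρ * (a * c) * ρ⁻¹ = a * c := by
      rw [mem_centralizer_singleton_iff.1 hρd, mul_inv_cancel_right]
    calc ρ * c * ρ⁻¹ = (ρ * a * ρ⁻¹)⁻¹ * (ρ * (a * c) * ρ⁻¹) := by group
      _ = a' * c := by
        rw [h1, inv_eq_of_mul_eq_one_right (exp_two hC ((mem_normalizer_iff.1 hρA a).1 ha)), ha',
          mul_assoc (ρ * a * ρ⁻¹)]
  have hτc' : τ * c * τ⁻¹ = c := by
    rw [mem_centralizer_singleton_iff.1 hτc, mul_inv_cancel_right]
  set b := (τ * a' * τ⁻¹) * a' with hb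
  have hta : τ * a' * τ⁻¹ ∈ A := (mem_normalizer_iff.1 hτA _).1 ha'A
  have hbA : b ∈ A := mul_mem hta ha'A
  have hxc : x * c * x⁻¹ = b * c := by
    have h1 : x * (τ * (ρ * c * ρ⁻¹) * τ⁻¹) * x⁻¹ = ρ * (τ * c * τ⁻¹) * ρ⁻¹ := by rw [hx]; group
    rw [hτc', hρc] at h1
    have h2 : x * (τ * (a' * c) * τ⁻¹) * x⁻¹ = (τ * a' * τ⁻¹) * (x * c * x⁻¹) := by
      rw [show τ * (a' * c) * τ⁻¹ = (τ * a' * τ⁻¹) * (τ * c * τ⁻¹) by group, hτc']
      conv_rhs => rw [← commute_of_mem_cent hta hxA]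
      group
    rw [h2] at h1
    calc x * c * x⁻¹ = (τ * a' * τ⁻¹)⁻¹ * ((τ * a' * τ⁻¹) * (x * c * x⁻¹)) := by group
      _ = b * c := by rw [h1, inv_eq_of_mul_eq_one_right (exp_two hC hta), hb]; simp only [mul_assoc]
  have hpow : ∀ j : ℕ, x ^ j * c * (x ^ j)⁻¹ = b ^ j * c := by
    intro j
    induction j with
    | zero => simp
    | succ j ih =>
      calc x ^ (j + 1) * c * (x ^ (j + 1))⁻¹ = x * (x ^ j * c * (x ^ j)⁻¹) * x⁻¹ := by
            rw [pow_succ']; group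
        _ = (x * b ^ j * x⁻¹) * (x * c * x⁻¹) := by rw [ih]; group
        _ = b ^ (j + 1) * c := by
            rw [commute_of_mem_cent (pow_mem hbA j) hxA, hxc, ← mul_assoc, ← pow_succ]
  have hxN : x ∈ normalizer ((S : Subgroup G) : Set G) :=
    mul_mem (mul_mem (mul_mem hρS hτS) (inv_mem hρS)) (inv_mem hτS)
  haveI : ((S : Subgroup G).subgroupOf (normalizer ((S : Subgroup G) : Set G))).Normal := inferInstance
  obtain ⟨k, hkodd, hk⟩ : ∃ k, Odd k ∧ x ^ k ∈ (S : Subgroup G) := by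
    refine ⟨_, ?_, mem_subgroupOf.1
      (((S : Subgroup G).subgroupOf (normalizer ((S : Subgroup G) : Set G))).pow_index_mem ⟨x, hxN⟩)⟩
    rw [← Nat.not_even_iff_odd, even_iff_two_dvd]
    exact fun h => S.not_dvd_index (h.trans (relIndex_dvd_index_of_le le_normalizer))
  have hbk : b ^ k = 1 := by
    have h := hpow k
    rwa [show x ^ k * c * (x ^ k)⁻¹ = c by
      rw [mem_centralizer_singleton_iff.1 (hS hk), mul_inv_cancel_right], eq_comm, mul_eq_right] at h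
  have hb1 : b = 1 := by
    obtain ⟨i, rfl⟩ := hkodd
    rw [pow_succ, pow_mul, sq, exp_two hC hbA, one_pow, one_mul] at hbk
    exact hbk
  have h3 : τ * a' * τ⁻¹ = a' := by
    rw [hb] at hb1
    rw [eq_inv_of_mul_eq_one_left hb1, inv_eq_of_mul_eq_one_right (exp_two hC ha'A)]
  have h4 := hA.free τ hτA hτl hτn a' ha'A h3
  have h5 : ρ * a * ρ⁻¹ = a := by
    rw [ha'] at h4
    rw [eq_inv_of_mul_eq_one_left h4, inv_eq_of_mul_eq_one_right (exp_two hC ha)]
  exact ha1 (hA.free ρ hρA hρl hρn a ha h5)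

omit K m' T in
/-- No Sylow subgroup of `G` centralises a bad involution inside the base stabiliser. -/
theorem card_lt_of_bad (hC : Ctx S A) (hA : Aut A m l) (hc : Bad A c) {V : Subgroup G}
    (hV : IsPGroup 2 V) (hVle : V ≤ cH c ⊓ pM A) : Nat.card V < Nat.card (S : Subgroup G) := by
  classical
  by_contra hlt
  push Not at hlt
  obtain ⟨ν, hν, -, hS1, hc1S, hb1, hc1A⟩ := exists_full_conj hC hc hV hVle hlt IsPGroup.of_bot bot_le
  set c1 := ν * c * ν⁻¹
  obtain ⟨c', hc', hc'S, hc'A, a, ha, ha1, g, hg⟩ := exists_conj_mul hC hb1.ord (not_isA_of_bad hC hb1)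
  have hacS : a * c' ∈ (S : Subgroup G) := mul_mem (hC.pt.le ha) hc'S
  obtain ⟨μ, hμ, hμe⟩ := conj_in_pM hC hb1.mem (S_le_pM hC hacS) (isPGroup_of_invol hb1.ord) hg
  have hd : Bad A (a * c') := hμe ▸ bad_conj hC hb1 hμ
  have hcj : cj μ (S : Subgroup G) ≤ cH (a * c') ⊓ pM A := by
    refine cj_le_iff.2 fun s hs => mem_inf.2
      ⟨?_, (pM A).mul_mem ((pM A).mul_mem hμ (S_le_pM hC hs)) ((pM A).inv_mem hμ)⟩
    rw [mem_centralizer_singleton_iff, ← hμe]
    exact ((Commute.conj_iff μ).2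
      (show Commute s c1 from mem_centralizer_singleton_iff.1 (hS1 hs))).eq
  have hcomm : ∀ r ∈ A ⊔ zpowers c', Commute r (a * c') := by
    have : A ⊔ zpowers c' ≤ centralizer ({a * c'} : Set G) := sup_le
      (fun b hb => mem_centralizer_singleton_iff.2 (mem_centralizer_iff.1
        (mul_mem (S_le_centralizer hC hA (hC.pt.le ha)) hc'A) b hb))
      (zpowers_le.2 (mem_centralizer_singleton_iff.2 (by
        rw [← mul_assoc, ← mem_centralizer_iff.1 hc'A a ha, mul_assoc])))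
    exact fun r hr => mem_centralizer_singleton_iff.1 (this hr)
  obtain ⟨π, hπ, hπR, hSd, -, hd2, hd2A⟩ := exists_full_conj hC hd (S.isPGroup'.map _) hcj
    (card_cj μ _).ge (R := A ⊔ zpowers c')
    (S.isPGroup'.to_le (sup_le hC.pt.le (zpowers_le.2 hc'S)))
    (fun r hr => ⟨mem_centralizer_singleton_iff.2 (hcomm r hr).eq,
      S_le_pM hC ((sup_le hC.pt.le (zpowers_le.2 hc'S) : A ⊔ zpowers c' ≤ _) hr)⟩)
  have ha2 : π * a * π⁻¹ ∈ A := ((isA_of_mem ha ha1).conj π).mem hC (hπR a (mem_sup_left ha))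
  refine false_of_full_pair hC hA hd2 hd2A hSd ha2 (fun e => ha1 (conj_eq_one_iff.1 e)) ?_
  rw [show π * a * π⁻¹ * (π * (a * c') * π⁻¹) = π * ((a * a) * c') * π⁻¹ by group,
    exp_two hC ha, one_mul]
  exact bad_conj hC hc' hπ

end CfsgLib.ThreePrime.Block
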