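import Cfsg.Agent.Lib.ThreePrime.Block.SzFacts
import Mathlib.GroupTheory.PGroup
import Mathlib.GroupTheory.GroupAction.Quotient
import Mathlib.Tactic

/-!
Owner: helper6.  Consequences of the basic facts about a Suzuki group.

* `exists_root`, `exists_fixed_four`: a prime order automorphism fixing an involution fixes an element of order four
* `eq_of_mem`, `card_sylow`, `regular`: the Sylow subgroups are TI and act regularly on the others
* `exists_inverter`, `tor_comm`, `tor_trans`: the two point stabiliser is abelian, inverted by an involution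
  exchanging the points, and regular on the involutions of either point
-/

set_option autoImplicit false
set_option linter.all false

namespace CfsgLib.ThreePrime.Block

open Subgroup
open scoped Pointwise

universe u

variable {X : Type u} [Group X] [Finite X] {m : ℕ}

local instance factTwoSzDerived : Fact (Nat.Prime 2) := ⟨Nat.prime_two⟩

theorem sq_of_ord {Y : Type*} [Group Y] {x : Y} (hx : orderOf x = 2) : x ^ 2 = 1 := by
  have h := pow_orderOf_eq_one x
  rwa [hx] at h

/-- An automorphism of odd period moving an element by a fixed involution fixes it. -/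
theorem fixed_of_odd_period {Y : Type*} [Group Y] (φ : MulAut Y) {j : ℕ} (hj : Odd j) (hφ : φ ^ j = 1)
    {x z : Y} (hx : φ x = x * z) (hz : φ z = z) (hz2 : z ^ 2 = 1) : φ x = x := by
  have h : ∀ i : ℕ, (φ ^ i) x = x * z ^ i := by
    intro i
    induction i with
    | zero => simp
    | succ i ih => rw [pow_succ', MulAut.mul_apply, ih, map_mul, map_pow, hx, hz, mul_assoc, ← pow_succ']
  have h1 := h j
  rw [hφ, MulAut.one_apply, eq_comm, mul_eq_left] at h1
  obtain ⟨i, rfl⟩ := hj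
  rw [pow_succ, pow_mul, hz2, one_pow, one_mul] at h1
  rw [hx, h1, mul_one]

theorem q_ge (h : SzFacts X m) : 8 ≤ 2 ^ (2 * m + 1) := by
  have := h.one_le
  calc 8 = 2 ^ 3 := rfl
    _ ≤ _ := Nat.pow_le_pow_right (by norm_num) (by omega)

theorem exists_sylow (h : SzFacts X m) {x : X} (hx : x ^ 2 = 1) : ∃ T : Sylow 2 X, x ∈ (T : Subgroup X) := by
  have hp : IsPGroup 2 (zpowers x) := by
    intro g
    refine ⟨1, Subtype.ext ?_⟩
    obtain ⟨i, hi⟩ := mem_zpowers_iff.1 g.2
    rw [SubgroupClass.coe_pow, pow_one, ← hi, ← zpow_natCast, ← zpow_mul, mul_comm, zpow_mul,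
      zpow_natCast, hx, one_zpow]
    rfl
  obtain ⟨T, hT⟩ := hp.exists_le_sylow
  exact ⟨T, hT (mem_zpowers x)⟩

theorem eq_of_mem (h : SzFacts X m) {T T' : Sylow 2 X} {x : X} (hx : x ≠ 1)
    (hT : x ∈ (T : Subgroup X)) (hT' : x ∈ (T' : Subgroup X)) : T = T' := by
  by_contra hne
  have : x ∈ (T : Subgroup X) ⊓ (T' : Subgroup X) := ⟨hT, hT'⟩
  rw [h.ti T T' hne, mem_bot] at this
  exact hx this

theorem sq_sq (h : SzFacts X m) {T : Sylow 2 X} {x : X} (hx : x ∈ (T : Subgroup X)) : (x ^ 2) ^ 2 = 1 := by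
  rw [← pow_mul]; exact h.exp T x hx

theorem exists_four (h : SzFacts X m) (T : Sylow 2 X) : ∃ x ∈ (T : Subgroup X), x ^ 2 ≠ 1 := by
  by_contra hc
  push Not at hc
  have e : Nat.card {x : X // x ∈ (T : Subgroup X) ∧ x ^ 2 = 1} = Nat.card T :=
    Nat.card_congr (Equiv.subtypeEquivRight fun x => ⟨fun hx => hx.1, fun hx => ⟨hx, hc x hx⟩⟩)
  rw [h.omega_card, h.sylow_card, sq] at e
  have := q_ge h
  nlinarith

theorem exists_root (h : SzFacts X m) {T : Sylow 2 X} {x : X} (hx : x ∈ (T : Subgroup X))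
    (hx2 : x ^ 2 = 1) (hx1 : x ≠ 1) : ∃ y ∈ (T : Subgroup X), y ^ 2 = x := by
  obtain ⟨y, hy, hy2⟩ := exists_four h T
  obtain ⟨g, hg, hgy⟩ := h.trans T (y ^ 2) (pow_mem hy 2) x hx (sq_sq h hy) hy2 hx2 hx1
  refine ⟨g * y * g⁻¹, (mem_normalizer_iff.1 hg y).1 hy, ?_⟩
  rw [conj_pow, hgy]

/-- An automorphism of odd prime order fixing an involution fixes an element of order four. -/
theorem exists_fixed_four (h : SzFacts X m) (φ : MulAut X) {l : ℕ} (hl : l.Prime) (hl2 : l ≠ 2)
    (hφ : φ ^ l = 1) {x : X} (hx : orderOf x = 2) (hφx : φ x = x) :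
    ∃ y, φ y = y ∧ orderOf y = 4 ∧ y ^ 2 = x := by
  haveI := Fact.mk hl
  have hx2 : x ^ 2 = 1 := hx ▸ pow_orderOf_eq_one x
  have hx1 : x ≠ 1 := fun e => by rw [e, orderOf_one] at hx; omega
  obtain ⟨T, hT⟩ := exists_sylow h hx2
  obtain ⟨y, hy, hyx⟩ := exists_root h hT hx2 hx1
  have hφT : (T : Subgroup X).map φ.toMonoidHom = (T : Subgroup X) := by
    obtain ⟨T', hT'⟩ := (T.isPGroup'.map φ.toMonoidHom).exists_le_sylow
    have e : T' = T := eq_of_mem h hx1 (hT' ⟨x, hT, hφx⟩) hT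
    exact eq_of_le_of_card_ge (e ▸ hT') (card_map_of_injective φ.injective).ge
  let R : Type _ := {z : X // z ∈ (T : Subgroup X) ∧ z ^ 2 = x}
  let e : R ≃ {z : X // z ∈ (T : Subgroup X) ∧ z ^ 2 = 1} :=
    { toFun := fun z => ⟨y⁻¹ * z.1, mul_mem (inv_mem hy) z.2.1,
        h.roots T y hy z.1 z.2.1 (hyx.trans z.2.2.symm) (hyx ▸ hx1)⟩
      invFun := fun z => ⟨y * z.1, mul_mem hy z.2.1, by
        rw [((h.omega_central T z.1 z.2.1 z.2.2 y hy).symm).mul_pow, z.2.2, hyx, mul_one]⟩
      left_inv := fun z => Subtype.ext (mul_inv_cancel_left y z.1)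
      right_inv := fun z => Subtype.ext (inv_mul_cancel_left y z.1) }
  have hmem : ∀ z : R, φ z.1 ∈ (T : Subgroup X) ∧ (φ z.1) ^ 2 = x := fun z =>
    ⟨hφT.le (mem_map_of_mem _ z.2.1), by rw [← map_pow, z.2.2, hφx]⟩
  let ψ : Equiv.Perm R := Equiv.ofBijective (fun z => ⟨φ z.1, hmem z⟩)
    (Finite.injective_iff_bijective.1 fun a b hab => Subtype.ext (φ.injective (congrArg Subtype.val hab)))
  have hψ : ∀ (i : ℕ) (z : R), ((ψ ^ i) z).1 = (φ ^ i) z.1 := by
    intro i
    induction i with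
    | zero => intro z; rfl
    | succ i ih =>
      intro z
      rw [pow_succ', pow_succ', Equiv.Perm.mul_apply, MulAut.mul_apply, ← ih]
      rfl
  have hψl : ψ ^ l = 1 := Equiv.ext fun z => Subtype.ext (by rw [hψ, hφ]; rfl)
  have hpg : IsPGroup l (zpowers ψ) := by
    intro g
    refine ⟨1, Subtype.ext ?_⟩
    obtain ⟨i, hi⟩ := mem_zpowers_iff.1 g.2
    rw [SubgroupClass.coe_pow, pow_one, ← hi, ← zpow_natCast, ← zpow_mul, mul_comm, zpow_mul,
      zpow_natCast, hψl, one_zpow]
    rfl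
  haveI := Fintype.ofFinite R
  obtain ⟨z, hz⟩ := hpg.nonempty_fixed_point_of_prime_not_dvd_card R (by
    rw [Nat.card_congr e, h.omega_card]
    exact fun hd => hl2 ((Nat.prime_dvd_prime_iff_eq hl Nat.prime_two).1 (hl.dvd_of_dvd_pow hd)))
  refine ⟨z.1, congrArg Subtype.val (hz ⟨ψ, mem_zpowers ψ⟩), ?_, z.2.2⟩
  refine orderOf_eq_prime_pow (p := 2) (n := 1) ?_ ?_
  · rw [pow_one, z.2.2]; exact hx1
  · exact h.exp T z.1 z.2.1

theorem card_sylow (h : SzFacts X m) : Nat.card (Sylow 2 X) = (2 ^ (2 * m + 1)) ^ 2 + 1 := by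
  obtain ⟨T⟩ := (Sylow.nonempty : Nonempty (Sylow 2 X))
  exact (Sylow.card_eq_index_normalizer T).trans (h.index T)

theorem smul_eq_iff {T : Sylow 2 X} {g : X} :
    g • T = T ↔ g ∈ normalizer ((T : Subgroup X) : Set X) :=
  Sylow.smul_eq_iff_mem_normalizer

/-- A two-element fixing a Sylow subgroup lies in it. -/
theorem mem_of_smul_eq {T T' : Sylow 2 X} {x : X} (hx : x ∈ (T : Subgroup X)) (he : x • T' = T') :
    x ∈ (T' : Subgroup X) := by
  have hz : zpowers x ≤ normalizer ((T' : Subgroup X) : Set X) := zpowers_le.2 (smul_eq_iff.1 he)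
  have hp : IsPGroup 2 (zpowers x) := T.isPGroup'.to_le (zpowers_le.2 hx)
  have hsup : IsPGroup 2 ((zpowers x ⊔ (T' : Subgroup X) : Subgroup X)) :=
    hp.to_sup_of_normal_right' T'.isPGroup' hz
  exact (T'.is_maximal' hsup le_sup_right).le (mem_sup_left (mem_zpowers x))

theorem eq_one_of_smul_eq (h : SzFacts X m) {T T' : Sylow 2 X} (hne : T ≠ T') {x : X}
    (hx : x ∈ (T : Subgroup X)) (he : x • T' = T') : x = 1 :=
  of_not_not fun h1 => hne (eq_of_mem h h1 hx (mem_of_smul_eq hx he))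

/-- A Sylow subgroup is transitive on the others. -/
theorem regular (h : SzFacts X m) {T T₁ T₂ : Sylow 2 X} (h1 : T₁ ≠ T) (h2 : T₂ ≠ T) :
    ∃ x ∈ (T : Subgroup X), x • T₁ = T₂ := by
  classical
  let f : T → {U : Sylow 2 X // U ≠ T} := fun x => ⟨(x : X) • T₁, fun e => h1 (by
    have hx : (x : X) • T = T := smul_eq_iff.2 (le_normalizer x.2)
    exact (MulAction.injective (x : X)) (e.trans hx.symm))⟩
  have hinj : Function.Injective f := fun a b e => by
    have e' : ((b : X)⁻¹ * a) • T₁ = T₁ := by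
      rw [mul_smul, show (a : X) • T₁ = (b : X) • T₁ from congrArg Subtype.val e, inv_smul_smul]
    exact Subtype.ext (inv_mul_eq_one.1 (eq_one_of_smul_eq h h1.symm (mul_mem (inv_mem b.2) a.2) e')).symm
  have hcard : Nat.card {U : Sylow 2 X // U ≠ T} = Nat.card T := by
    haveI := Fintype.ofFinite (Sylow 2 X)
    rw [h.sylow_card, Nat.card_eq_fintype_card, Fintype.card_subtype_compl, Fintype.card_subtype_eq,
      ← Nat.card_eq_fintype_card, card_sylow h, Nat.add_sub_cancel]
  obtain ⟨x, hx⟩ := ((Nat.bijective_iff_injective_and_card f).2 ⟨hinj, hcard.symm⟩).2 ⟨T₂, h2⟩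
  exact ⟨x, x.2, congrArg Subtype.val hx⟩

/-- The two point stabiliser. -/
abbrev tor (T T' : Sylow 2 X) : Subgroup X :=
  normalizer ((T : Subgroup X) : Set X) ⊓ normalizer ((T' : Subgroup X) : Set X)

theorem tor_inf_sylow (h : SzFacts X m) {T T' : Sylow 2 X} (hne : T ≠ T') {x : X} (hx : x ∈ tor T T')
    (hxT : x ∈ (T : Subgroup X)) : x = 1 :=
  eq_one_of_smul_eq h hne hxT (smul_eq_iff.2 hx.2)

theorem card_normalizer (h : SzFacts X m) (T : Sylow 2 X) :
    Nat.card (normalizer ((T : Subgroup X) : Set X)) =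
      (2 ^ (2 * m + 1)) ^ 2 * (2 ^ (2 * m + 1) - 1) := by
  have e := card_mul_index (normalizer ((T : Subgroup X) : Set X))
  rw [h.index, h.card] at e
  refine Nat.eq_of_mul_eq_mul_right (Nat.succ_pos _) (e.trans ?_)
  rw [Nat.succ_eq_add_one]
  ring

theorem card_tor (h : SzFacts X m) {T T' : Sylow 2 X} (hne : T ≠ T') :
    Nat.card (tor T T') = 2 ^ (2 * m + 1) - 1 := by
  classical
  have hfac : ∀ g : normalizer ((T : Subgroup X) : Set X),
      ∃ x : T, ((x : X)⁻¹ * g) • T' = T' := by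
    intro g
    have hg : (g : X) • T' ≠ T := fun e => hne.symm
      ((MulAction.injective (g : X)) (e.trans (smul_eq_iff.2 g.2).symm))
    obtain ⟨x, hx, he⟩ := regular h hne.symm hg
    exact ⟨⟨x, hx⟩, by rw [mul_smul, ← he, inv_smul_smul]⟩
  choose p hp using hfac
  have e : normalizer ((T : Subgroup X) : Set X) ≃ ↥(T : Subgroup X) × tor T T' :=
    { toFun := fun g => (p g, ⟨(p g : X)⁻¹ * g, (normalizer ((T : Subgroup X) : Set X)).mul_mem
          ((normalizer ((T : Subgroup X) : Set X)).inv_mem (le_normalizer (p g).2)) g.2,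
        smul_eq_iff.1 (hp g)⟩)
      invFun := fun x => ⟨(x.1 : X) * x.2, mul_mem (le_normalizer x.1.2) x.2.2.1⟩
      left_inv := fun g => Subtype.ext (mul_inv_cancel_left _ _)
      right_inv := fun x => by
        have hmem : (x.1 : X) * x.2 ∈ normalizer ((T : Subgroup X) : Set X) :=
          mul_mem (le_normalizer x.1.2) x.2.2.1
        have h0 := hp ⟨_, hmem⟩
        have h1 : (((p ⟨_, hmem⟩ : T) : X)⁻¹ * x.1) • T' = T' := by
          conv at h0 => lhs; rw [← mul_assoc, mul_smul, smul_eq_iff.2 x.2.2.2]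
          exact h0
        have h2 := eq_one_of_smul_eq h hne (mul_mem (inv_mem (p _).2) x.1.2) h1
        rw [inv_mul_eq_one] at h2
        refine Prod.ext (Subtype.ext h2) (Subtype.ext ?_)
        show ((p ⟨_, hmem⟩ : T) : X)⁻¹ * ((x.1 : X) * x.2) = x.2
        rw [h2, inv_mul_cancel_left] }
  have hc := Nat.card_congr e
  rw [Nat.card_prod, card_normalizer h, h.sylow_card] at hc
  exact (Nat.eq_of_mul_eq_mul_left (by positivity) hc).symm

theorem conj_mem_sylow {g x : X} {T U : Sylow 2 X} (hg : g • T = U) (hx : x ∈ (T : Subgroup X)) :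
    g * x * g⁻¹ ∈ (U : Subgroup X) := by
  rw [← hg, Sylow.coe_subgroup_smul]
  exact ⟨x, hx, rfl⟩

theorem smul_ne_of_mem (h : SzFacts X m) {T U : Sylow 2 X} {x : X} (hx1 : x ≠ 1)
    (hx : x ∈ (T : Subgroup X)) (hU : U ≠ T) : x • U ≠ U :=
  fun e => hx1 (eq_one_of_smul_eq h hU.symm hx e)

/-- A Sylow subgroup has `q - 1` involutions. -/
theorem card_invol_sylow (h : SzFacts X m) (V : Sylow 2 X) :
    Nat.card {z : X // z ∈ (V : Subgroup X) ∧ orderOf z = 2} = 2 ^ (2 * m + 1) - 1 := by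
  classical
  have hsplit : Nat.card {z : X // z ∈ (V : Subgroup X) ∧ z ^ 2 = 1} =
      Nat.card (Option {z : X // z ∈ (V : Subgroup X) ∧ orderOf z = 2}) :=
    Nat.card_congr
      { toFun := fun z => if hz : z.1 = 1 then none
          else some ⟨z.1, z.2.1, orderOf_eq_prime z.2.2 hz⟩
        invFun := fun o => o.elim ⟨1, one_mem _, one_pow 2⟩
          fun z => ⟨z.1, z.2.1, sq_of_ord z.2.2⟩
        left_inv := fun z => by
          by_cases hz : z.1 = 1
          · simp [hz, Subtype.ext_iff]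
          · simp [hz]
        right_inv := fun o => by
          cases o with
          | none => simp
          | some z =>
            have hz : z.1 ≠ 1 := fun e => by
              have := z.2.2; rw [e, orderOf_one] at this; omega
            simp [hz] }
  rw [h.omega_card, Finite.card_option] at hsplit
  omega

/-- The number of involutions. -/
theorem card_invol (h : SzFacts X m) :
    Nat.card {x : X // orderOf x = 2} = ((2 ^ (2 * m + 1)) ^ 2 + 1) * (2 ^ (2 * m + 1) - 1) := by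
  classical
  let I := {x : X // orderOf x = 2}
  show Nat.card I = _
  have hex : ∀ x : I, ∃ U : Sylow 2 X, (x : X) ∈ (U : Subgroup X) := fun x =>
    exists_sylow h (sq_of_ord x.2)
  choose U hU using hex
  have e : I ≃ Σ V : Sylow 2 X, {z : X // z ∈ (V : Subgroup X) ∧ orderOf z = 2} :=
    { toFun := fun x => ⟨U x, x.1, hU x, x.2⟩
      invFun := fun z => ⟨z.2.1, z.2.2.2⟩
      left_inv := fun x => rfl
      right_inv := fun z => by
        have hz : U ⟨z.2.1, z.2.2.2⟩ = z.1 := eq_of_mem h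
          (fun e => by have := z.2.2.2; rw [e, orderOf_one] at this; omega) (hU _) z.2.2.1
        rcases z with ⟨V, w, hw, ho⟩
        exact Sigma.subtype_ext hz rfl }
  haveI := Fintype.ofFinite (Sylow 2 X)
  rw [Nat.card_congr e, Nat.card_sigma]
  rw [Finset.sum_congr rfl (fun V _ => card_invol_sylow h V), Finset.sum_const, Finset.card_univ, smul_eq_mul,
    ← Nat.card_eq_fintype_card, card_sylow h]

/-- Exactly `q - 1` involutions exchange two Sylow subgroups. -/
theorem exists_inverter (h : SzFacts X m) {T T' : Sylow 2 X} (hne : T ≠ T') :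
    ∃ s : X, orderOf s = 2 ∧ s • T = T' ∧ s • T' = T ∧ ∀ t ∈ tor T T', s * t * s⁻¹ = t⁻¹ := by
  classical
  let I := {x : X // orderOf x = 2}
  let P := {p : Sylow 2 X × Sylow 2 X // p.1 ≠ p.2}
  let F := {z : I × Sylow 2 X // (z.1 : X) • z.2 ≠ z.2}
  let f : F → P := fun z => ⟨(z.1.2, (z.1.1 : X) • z.1.2), fun e => z.2 e.symm⟩
  -- all fibres have the same size
  have hfib : ∀ p p' : P, Nat.card {z : F // f z = p} = Nat.card {z : F // f z = p'} := by
    suffices hle : ∀ p p' : P, Nat.card {z : F // f z = p} ≤ Nat.card {z : F // f z = p'} from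
      fun p p' => le_antisymm (hle p p') (hle p' p)
    rintro ⟨⟨U1, U2⟩, hU⟩ ⟨⟨V1, V2⟩, hV⟩
    obtain ⟨g0, hg0⟩ := MulAction.exists_smul_eq X U1 V1
    have hne' : g0 • U2 ≠ V1 := fun e => hU ((MulAction.injective g0) (hg0.trans e.symm))
    obtain ⟨x, hx, hx2⟩ := regular h hne' (Ne.symm hV)
    have hg1 : (x * g0) • U1 = V1 := by rw [mul_smul, hg0]; exact smul_eq_iff.2 (le_normalizer hx)
    have hg2 : (x * g0) • U2 = V2 := by rw [mul_smul, hx2]
    set g := x * g0
    refine Nat.card_le_card_of_injective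
      (fun z => ⟨⟨(⟨g * (z.1.1.1 : X) * g⁻¹, (orderOf_injective (MulAut.conj g).toMonoidHom
        (MulAut.conj g).injective _).trans z.1.1.1.2⟩, g • z.1.1.2), ?_⟩, ?_⟩) ?_
    · show (g * (z.1.1.1 : X) * g⁻¹) • (g • z.1.1.2) ≠ g • z.1.1.2
      rw [mul_smul, mul_smul, inv_smul_smul]
      exact fun e => z.1.2 ((MulAction.injective g) e)
    · have e := congrArg Subtype.val z.2
      obtain ⟨e1, e2⟩ := Prod.ext_iff.1 e
      refine Subtype.ext (Prod.ext ?_ ?_)
      · show g • z.1.1.2 = V1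
        rw [show z.1.1.2 = U1 from e1, hg1]
      · show (g * (z.1.1.1 : X) * g⁻¹) • (g • z.1.1.2) = V2
        rw [mul_smul, mul_smul, inv_smul_smul, show (z.1.1.1 : X) • z.1.1.2 = U2 from e2, hg2]
    · intro a b e
      have e1 := congrArg (fun w => ((w.1.1.1 : I) : X)) e
      have e2 := congrArg (fun w => w.1.1.2) e
      simp only at e1 e2
      exact Subtype.ext (Subtype.ext (Prod.ext (Subtype.ext (mul_left_cancel (mul_right_cancel e1)))
        ((MulAction.injective g) e2)))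
  have hI : Nat.card I = ((2 ^ (2 * m + 1)) ^ 2 + 1) * (2 ^ (2 * m + 1) - 1) := card_invol h
  have hF : Nat.card F = Nat.card I * (2 ^ (2 * m + 1)) ^ 2 := by
    haveI := Fintype.ofFinite I
    have e : F ≃ Σ x : I, {U : Sylow 2 X // (x : X) • U ≠ U} :=
      { toFun := fun z => ⟨z.1.1, z.1.2, z.2⟩
        invFun := fun z => ⟨(z.1, z.2.1), z.2.2⟩
        left_inv := fun z => rfl
        right_inv := fun z => rfl }
    rw [Nat.card_congr e, Nat.card_sigma, Finset.sum_congr rfl (fun x _ => ?_), Finset.sum_const,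
      Finset.card_univ, smul_eq_mul, ← Nat.card_eq_fintype_card]
    have hx2 : (x : X) ^ 2 = 1 := sq_of_ord x.2
    have hx1 : (x : X) ≠ 1 := fun e => by have := x.2; rw [e, orderOf_one] at this; omega
    obtain ⟨V, hV⟩ := exists_sylow h hx2
    haveI := Fintype.ofFinite (Sylow 2 X)
    rw [Nat.card_congr (Equiv.subtypeEquivRight fun U => (⟨fun he hUV => he (hUV ▸ smul_eq_iff.2
      (le_normalizer hV)), smul_ne_of_mem h hx1 hV⟩ : (x : X) • U ≠ U ↔ U ≠ V)),
      Nat.card_eq_fintype_card, Fintype.card_subtype_compl, Fintype.card_subtype_eq,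
      ← Nat.card_eq_fintype_card, card_sylow h, Nat.add_sub_cancel]
  have hP : Nat.card P = ((2 ^ (2 * m + 1)) ^ 2 + 1) * (2 ^ (2 * m + 1)) ^ 2 := by
    haveI := Fintype.ofFinite (Sylow 2 X)
    have e : P ≃ Σ U : Sylow 2 X, {V : Sylow 2 X // U ≠ V} :=
      { toFun := fun z => ⟨z.1.1, z.1.2, z.2⟩
        invFun := fun z => ⟨(z.1, z.2.1), z.2.2⟩
        left_inv := fun z => rfl
        right_inv := fun z => rfl }
    rw [Nat.card_congr e, Nat.card_sigma, Finset.sum_congr rfl (fun U _ => ?_), Finset.sum_const,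
      Finset.card_univ, smul_eq_mul, ← Nat.card_eq_fintype_card, card_sylow h]
    rw [Nat.card_congr (Equiv.subtypeEquivRight fun V => (ne_comm : U ≠ V ↔ V ≠ U)),
      Nat.card_eq_fintype_card, Fintype.card_subtype_compl, Fintype.card_subtype_eq,
      ← Nat.card_eq_fintype_card, card_sylow h, Nat.add_sub_cancel]
  let p0 : P := ⟨(T, T'), hne⟩
  have hcnt : Nat.card {z : F // f z = p0} = 2 ^ (2 * m + 1) - 1 := by
    haveI := Fintype.ofFinite P
    have e := Nat.card_congr (Equiv.sigmaFiberEquiv f)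
    rw [Nat.card_sigma, Finset.sum_congr rfl (fun p _ => hfib p p0), Finset.sum_const, Finset.card_univ,
      smul_eq_mul, ← Nat.card_eq_fintype_card, hP, hF, hI] at e
    refine Nat.eq_of_mul_eq_mul_left
      (n := ((2 ^ (2 * m + 1)) ^ 2 + 1) * (2 ^ (2 * m + 1)) ^ 2) (by positivity) (e.trans ?_)
    ring
  have hne0 : 0 < Nat.card {z : F // f z = p0} := by have := q_ge h; omega
  obtain ⟨⟨⟨⟨s, U⟩, hs⟩, hz⟩⟩ := (Nat.card_pos_iff.1 hne0).1
  obtain ⟨e1, e2⟩ := Prod.ext_iff.1 (congrArg Subtype.val hz)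
  change U = T at e1
  change (s : X) • U = T' at e2
  subst e1
  have hs2 : (s : X) * s = 1 := by rw [← sq]; exact sq_of_ord s.2
  have hs' : (s : X) • T' = U := by rw [← e2, ← mul_smul, hs2, one_smul]
  refine ⟨s, s.2, e2, hs', ?_⟩
  -- the exchanging involutions fill the coset
  have hmemg : ∀ z : {z : F // f z = p0}, (s : X)⁻¹ * (z.1.1.1 : X) ∈ tor U T' := fun z => by
    obtain ⟨e1', e2'⟩ := Prod.ext_iff.1 (congrArg Subtype.val z.2)
    change z.1.1.2 = U at e1'
    change (z.1.1.1 : X) • z.1.1.2 = T' at e2'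
    rw [e1'] at e2'
    have hz2 : (z.1.1.1 : X) * z.1.1.1 = 1 := by rw [← sq]; exact sq_of_ord z.1.1.1.2
    have hinv : (s : X)⁻¹ = s := inv_eq_of_mul_eq_one_right hs2
    refine ⟨smul_eq_iff.1 ?_, smul_eq_iff.1 ?_⟩
    · rw [mul_smul, e2', hinv, hs']
    · rw [mul_smul, ← e2', ← mul_smul (z.1.1.1 : X), hz2, one_smul, hinv, e2, e2']
  let g : {z : F // f z = p0} → tor U T' := fun z => ⟨_, hmemg z⟩
  have hg : Function.Injective g := fun a b e => by
    obtain ⟨a1, -⟩ := Prod.ext_iff.1 (congrArg Subtype.val a.2)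
    obtain ⟨b1, -⟩ := Prod.ext_iff.1 (congrArg Subtype.val b.2)
    exact Subtype.ext (Subtype.ext (Prod.ext (Subtype.ext
      (mul_left_cancel (congrArg Subtype.val e))) (a1.trans b1.symm)))
  intro t ht
  obtain ⟨z, hz'⟩ := ((Nat.bijective_iff_injective_and_card g).2
    ⟨hg, by rw [hcnt, card_tor h hne]⟩).2 ⟨t, ht⟩
  have hzt : (z.1.1.1 : X) = s * t := by
    have e : (s : X)⁻¹ * (z.1.1.1 : X) = t := congrArg Subtype.val hz'
    rw [← e, mul_inv_cancel_left]
  have hst : (s : X) * t * (s * t) = 1 := by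
    rw [← hzt, ← sq]; exact sq_of_ord z.1.1.1.2
  rw [inv_eq_of_mul_eq_one_right hs2]
  refine eq_inv_of_mul_eq_one_left ?_
  rw [← hst]
  group

theorem tor_comm (h : SzFacts X m) {T T' : Sylow 2 X} (hne : T ≠ T') {a b : X} (ha : a ∈ tor T T')
    (hb : b ∈ tor T T') : a * b = b * a := by
  obtain ⟨s, -, -, -, hs⟩ := exists_inverter h hne
  have h1 : s * (a * b) * s⁻¹ = (s * a * s⁻¹) * (s * b * s⁻¹) := by group
  rw [hs _ (mul_mem ha hb), hs a ha, hs b hb, ← mul_inv_rev, inv_inj] at h1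
  exact h1

/-- The two point stabiliser is regular on the involutions of either point. -/
theorem tor_trans (h : SzFacts X m) {T T' : Sylow 2 X} (hne : T ≠ T') {x y : X}
    (hx : x ∈ (T : Subgroup X)) (hx2 : x ^ 2 = 1) (hx1 : x ≠ 1)
    (hy : y ∈ (T : Subgroup X)) (hy2 : y ^ 2 = 1) (hy1 : y ≠ 1) :
    ∃ t ∈ tor T T', t * x * t⁻¹ = y := by
  classical
  let f : tor T T' → {z : X // z ∈ (T : Subgroup X) ∧ orderOf z = 2} := fun t =>
    ⟨(t : X) * x * (t : X)⁻¹, (mem_normalizer_iff.1 t.2.1 x).1 hx, by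
      exact (orderOf_injective (MulAut.conj (t : X)).toMonoidHom (MulAut.conj (t : X)).injective x).trans
        (orderOf_eq_prime hx2 hx1)⟩
  have hf : Function.Injective f := fun a b e => by
    have e' : ((b : X)⁻¹ * a) * x = x * ((b : X)⁻¹ * a) := by
      have e1 : (a : X) * x * (a : X)⁻¹ = b * x * (b : X)⁻¹ := congrArg Subtype.val e
      calc (b : X)⁻¹ * a * x = (b : X)⁻¹ * ((a : X) * x * (a : X)⁻¹) * a := by group
        _ = _ := by rw [e1]; group
    have hmem : (b : X)⁻¹ * a ∈ (T : Subgroup X) :=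
      h.cent_invol T x hx hx2 hx1 (mem_centralizer_singleton_iff.2 e')
    exact Subtype.ext (inv_mul_eq_one.1
      (tor_inf_sylow h hne (mul_mem (inv_mem b.2) a.2) hmem)).symm
  have hle : Nat.card {z : X // z ∈ (T : Subgroup X) ∧ orderOf z = 2} ≤ Nat.card (tor T T') := by
    rw [card_tor h hne]
    have hsub : Nat.card (Option {z : X // z ∈ (T : Subgroup X) ∧ orderOf z = 2}) ≤
        Nat.card {z : X // z ∈ (T : Subgroup X) ∧ z ^ 2 = 1} := by
      refine Nat.card_le_card_of_injective (fun o => o.elim ⟨1, one_mem _, one_pow 2⟩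
        fun z => ⟨z.1, z.2.1, sq_of_ord z.2.2⟩) ?_
      rintro (_ | a) (_ | b) e
      · rfl
      · exfalso
        have := b.2.2
        rw [← show (1 : X) = b.1 from congrArg Subtype.val e, orderOf_one] at this
        omega
      · exfalso
        have := a.2.2
        rw [show a.1 = (1 : X) from congrArg Subtype.val e, orderOf_one] at this
        omega
      · exact congrArg some (Subtype.ext (congrArg Subtype.val e : _))
    rw [Finite.card_option, h.omega_card] at hsub
    omega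
  obtain ⟨t, ht⟩ := (hf.bijective_of_nat_card_le hle).2 ⟨y, hy, orderOf_eq_prime hy2 hy1⟩
  exact ⟨t, t.2, congrArg Subtype.val ht⟩

end CfsgLib.ThreePrime.Block
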