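import Cfsg.Agent.Lib.ThreePrime.Spec
import Cfsg.Agent.Lib.ThreePrime.Block.SzDerived
import Cfsg.Agent.Lib.Bender.Dichotomy.Setup

/-!
Owner: helper6.  Elementary facts about the points in the setting of the block analysis.

* `Ctx`: the hypotheses of `BlockStep` together with the facts on Suzuki groups
* `le_normalizer_of_two`, `le_pM_of_two`: two-groups over `A`, or over an element of `A`
* `conj_in_pM`: `pM` controls fusion of its two-elements
* `fix_eq_singleton`, `bad_iff`: an involution of `pM` is bad exactly if it fixes another point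
* `exists_conj_bad`: a bad involution is conjugate in `pM` to one centralising `A`
-/

set_option autoImplicit false
set_option linter.all false

namespace CfsgLib.ThreePrime.Block

open Subgroup CfsgLib.Bender.Dichotomy

universe u

local instance factTwoBlockBasic : Fact (Nat.Prime 2) := ⟨Nat.prime_two⟩

variable {G : Type u} [Group G]

/-- An element of `A`-type. -/
def IsA (A : Subgroup G) (x : G) : Prop := ∃ g : G, ∃ a ∈ A, a ≠ 1 ∧ x = g * a * g⁻¹

variable [Finite G]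

/-- The standing hypotheses of the block analysis. -/
structure Ctx (S : Sylow 2 G) (A : Subgroup G) : Prop where
  pt : Pointed S A
  fixA : ∀ a ∈ A, a ≠ 1 → Fix A a = {base A}
  transA : ∀ a ∈ A, ∀ b ∈ A, a ≠ 1 → b ≠ 1 → ∃ g ∈ normalizer (A : Set G), g * a * g⁻¹ = b
  ex : ∃ c, Bad A c ∧ c ∈ centralizer (A : Set G)
  bad : ∀ c, Bad A c → c ∈ normalizer (A : Set G) → c ∈ centralizer (A : Set G) ∧ BlockFacts A c
  sz : SzStep.{u}

variable {S : Sylow 2 G} {A : Subgroup G}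

theorem mk_eq_base_iff {g : G} : ((g : G) : Pts A) = base A ↔ g ∈ pM A := by
  rw [QuotientGroup.eq, mul_one, inv_mem_iff]

theorem smul_mk (x g : G) : x • ((g : G) : Pts A) = ((x * g : G) : Pts A) := rfl

theorem smul_base (g : G) : g • base A = ((g : G) : Pts A) := by
  rw [base, smul_mk, mul_one]

theorem smul_base_eq_iff {g : G} : g • base A = base A ↔ g ∈ pM A := by
  rw [smul_base, mk_eq_base_iff]

theorem mk_mem_fix_iff {x g : G} : ((g : G) : Pts A) ∈ Fix A x ↔ g⁻¹ * x * g ∈ pM A := by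
  rw [MulAction.mem_fixedBy, smul_mk, eq_comm, QuotientGroup.eq, mul_assoc]

theorem base_mem_fix_iff {x : G} : base A ∈ Fix A x ↔ x ∈ pM A := by
  rw [MulAction.mem_fixedBy, smul_base_eq_iff]

theorem mem_fix_conj {g x : G} {p : Pts A} : g • p ∈ Fix A (g * x * g⁻¹) ↔ p ∈ Fix A x := by
  rw [MulAction.mem_fixedBy, MulAction.mem_fixedBy, ← mul_smul, inv_mul_cancel_right, mul_smul,
    smul_left_cancel_iff]

theorem card_fix_conj (g x : G) : Nat.card (Fix A (g * x * g⁻¹)) = Nat.card (Fix A x) := by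
  refine Nat.card_congr
    { toFun := fun p => ⟨g⁻¹ • p.1, (mem_fix_conj (g := g)).1 (by rw [smul_inv_smul]; exact p.2)⟩
      invFun := fun p => ⟨g • p.1, mem_fix_conj.2 p.2⟩
      left_inv := fun p => Subtype.ext (smul_inv_smul g p.1)
      right_inv := fun p => Subtype.ext (inv_smul_smul g p.1) }

theorem exp_two (hC : Ctx S A) {a : G} (ha : a ∈ A) : a * a = 1 :=
  elem_sq hC.pt.elem ha

theorem isPGroup_A (hC : Ctx S A) : IsPGroup 2 A :=
  S.isPGroup'.to_le hC.pt.le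

theorem core_cj_le {g a : G} (hg : g ∈ normalizer (A : Set G)) (ha : a ∈ A) (ha1 : a ≠ 1) :
    cj g (core a) ≤ W0 A := by
  rw [← core2_conj a g]
  exact le_iSup (fun a : {a : G // a ∈ A ∧ a ≠ 1} => core (a : G))
    ⟨g * a * g⁻¹, (mem_normalizer_iff.1 hg a).1 ha, fun e => ha1 (conj_eq_one_iff.1 e)⟩

theorem normalizer_le_normalizer_W0 : normalizer (A : Set G) ≤ normalizer (W0 A : Set G) := by
  have hle : ∀ g ∈ normalizer (A : Set G), cj g (W0 A) ≤ W0 A := by
    intro g hg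
    show (⨆ a : {a : G // a ∈ A ∧ a ≠ 1}, core (a : G)).map _ ≤ _
    rw [Subgroup.map_iSup]
    exact iSup_le fun a => core_cj_le hg a.2.1 a.2.2
  intro g hg
  exact mem_normalizer_of_cj (le_antisymm (hle g hg)
    (by have := cj_mono (g := g) (hle g⁻¹ (inv_mem hg)); rwa [cj_cj, mul_inv_cancel, cj_one] at this))

theorem pM_le_normalizer_W0 : pM A ≤ normalizer (W0 A : Set G) :=
  sup_le normalizer_le_normalizer_W0 le_normalizer

theorem exists_of_mem_pM {x : G} (hx : x ∈ pM A) :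
    ∃ n ∈ normalizer (A : Set G), ∃ w ∈ W0 A, x = n * w := by
  rw [← SetLike.mem_coe, pM, coe_mul_of_left_le_normalizer_right _ _ normalizer_le_normalizer_W0,
    Set.mem_mul] at hx
  obtain ⟨n, hn, w, hw, rfl⟩ := hx
  exact ⟨n, hn, w, hw, rfl⟩

theorem W0_le_pM : W0 A ≤ pM A := le_sup_right

theorem odd_W0 (hC : Ctx S A) : Odd (Nat.card (W0 A)) := hC.pt.cores.odd A hC.pt.elem hC.pt.card

theorem S_le_normalizer (hC : Ctx S A) : (S : Subgroup G) ≤ normalizer (A : Set G) := by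
  intro s hs
  rw [mem_normalizer_iff]
  have key : ∀ t ∈ (S : Subgroup G), ∀ y ∈ A, t * y * t⁻¹ ∈ A := fun t ht y hy =>
    hC.pt.closed.2 y hy t (mul_mem (mul_mem ht (hC.pt.le hy)) (inv_mem ht))
  intro y
  refine ⟨key s hs y, fun h => ?_⟩
  have := key s⁻¹ (inv_mem hs) _ h
  rwa [inv_inv, show s⁻¹ * (s * y * s⁻¹) * s = y by group] at this

theorem S_le_pM (hC : Ctx S A) : (S : Subgroup G) ≤ pM A := (S_le_normalizer hC).trans le_sup_left

theorem exists_conj_sylow {U : Subgroup G} (hU : IsPGroup 2 U) :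
    ∃ g : G, ∀ u ∈ U, g⁻¹ * u * g ∈ (S : Subgroup G) := by
  obtain ⟨T, hT⟩ := hU.exists_le_sylow
  obtain ⟨g, hg⟩ := MulAction.exists_smul_eq G S T
  refine ⟨g, fun u hu => ?_⟩
  have h := hT hu
  rw [← hg, Sylow.coe_subgroup_smul, Subgroup.mem_pointwise_smul_iff_inv_smul_mem] at h
  simpa [MulAut.smul_def, mul_assoc] using h

/-- A two-group containing `A` normalises it. -/
theorem le_normalizer_of_two (hC : Ctx S A) {U : Subgroup G} (hU : IsPGroup 2 U) (hA : A ≤ U) :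
    U ≤ normalizer (A : Set G) := by
  obtain ⟨g, hg⟩ := exists_conj_sylow (S := S) hU
  have hin : ∀ a ∈ A, g⁻¹ * a * g ∈ A := fun a ha => by
    have h := hC.pt.closed.2 a ha g⁻¹ (by rw [inv_inv]; exact hg a (hA ha))
    rwa [inv_inv] at h
  have hgN : g⁻¹ ∈ normalizer (A : Set G) := mem_normalizer_of_cj
    (eq_of_le_of_card_ge (cj_le_iff.2 fun a ha => by rw [inv_inv]; exact hin a ha)
      (card_cj _ _).ge)
  intro u hu
  have h1 := mul_mem (mul_mem (inv_mem hgN) (S_le_normalizer hC (hg u hu))) hgN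
  rwa [inv_inv, show g * (g⁻¹ * u * g) * g⁻¹ = u by group] at h1

/-- A two-group containing a non-trivial element of `A` fixes the base point. -/
theorem le_pM_of_two (hC : Ctx S A) {U : Subgroup G} (hU : IsPGroup 2 U) {a : G} (ha : a ∈ A)
    (ha1 : a ≠ 1) (haU : a ∈ U) : U ≤ pM A := by
  obtain ⟨g, hg⟩ := exists_conj_sylow (S := S) hU
  have hga : g⁻¹ * a * g ∈ A := by
    have h := hC.pt.closed.2 a ha g⁻¹ (by rw [inv_inv]; exact hg a haU)
    rwa [inv_inv] at h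
  have hfix : base A ∈ Fix A (g⁻¹ * a * g) := by
    rw [hC.fixA _ hga (fun e => ha1 (by
      have e' : g * (g⁻¹ * a * g) * g⁻¹ = g * 1 * g⁻¹ := by rw [e]
      simpa [mul_assoc] using e'))]
    exact Set.mem_singleton _
  have hp : g • base A ∈ Fix A (g * (g⁻¹ * a * g) * g⁻¹) := mem_fix_conj.2 hfix
  rw [show g * (g⁻¹ * a * g) * g⁻¹ = a by group, hC.fixA a ha ha1, Set.mem_singleton_iff,
    smul_base_eq_iff] at hp
  intro u hu
  have h1 := mul_mem (mul_mem hp (S_le_pM hC (hg u hu))) (inv_mem hp)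
  rwa [show g * (g⁻¹ * u * g) * g⁻¹ = u by group] at h1

theorem exists_conj_le_S (hC : Ctx S A) {U : Subgroup G} (hU : IsPGroup 2 U) (hle : U ≤ pM A) :
    ∃ m ∈ pM A, ∀ u ∈ U, m * u * m⁻¹ ∈ (S : Subgroup G) := by
  let S' : Sylow 2 (pM A) := S.subtype (S_le_pM hC)
  obtain ⟨T, hT⟩ := (hU.comap_subtype (K := pM A)).exists_le_sylow
  obtain ⟨m, hm⟩ := MulAction.exists_smul_eq (pM A) T S'
  refine ⟨m, m.2, fun u hu => ?_⟩
  have h : m * (⟨u, hle hu⟩ : pM A) * m⁻¹ ∈ (S' : Subgroup (pM A)) := by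
    rw [← hm, Sylow.coe_subgroup_smul]
    exact ⟨⟨u, hle hu⟩, hT (mem_subgroupOf.2 hu), rfl⟩
  exact mem_subgroupOf.1 h

theorem isPGroup_zpowers {x : G} {k : ℕ} (hx : x ^ 2 ^ k = 1) : IsPGroup 2 (zpowers x) := by
  intro g
  refine ⟨k, Subtype.ext ?_⟩
  obtain ⟨i, hi⟩ := mem_zpowers_iff.1 g.2
  rw [SubgroupClass.coe_pow, ← hi, ← zpow_natCast, ← zpow_mul, mul_comm, zpow_mul, zpow_natCast, hx,
    one_zpow, OneMemClass.coe_one]

theorem isPGroup_of_invol {x : G} (hx : orderOf x = 2) : IsPGroup 2 (zpowers x) :=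
  isPGroup_zpowers (k := 1) (by rw [pow_one]; exact sq_of_ord hx)

theorem conj_in_pM (hC : Ctx S A) {x y g : G} (hx : x ∈ pM A) (hy : y ∈ pM A)
    (hp : IsPGroup 2 (zpowers x)) (hg : g * x * g⁻¹ = y) : ∃ m ∈ pM A, m * x * m⁻¹ = y := by
  have hpy : IsPGroup 2 (zpowers y) := by
    have := hp.map (MulAut.conj g).toMonoidHom
    rwa [MonoidHom.map_zpowers, show (MulAut.conj g).toMonoidHom x = y from hg] at this
  obtain ⟨m1, hm1, h1⟩ := exists_conj_le_S hC hp (zpowers_le.2 hx)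
  obtain ⟨m2, hm2, h2⟩ := exists_conj_le_S hC hpy (zpowers_le.2 hy)
  obtain ⟨m, hm, hmx⟩ := hC.pt.ctrl _ (h1 x (mem_zpowers x)) (m2 * g * m1⁻¹) (by
    have h := h2 y (mem_zpowers y)
    rw [← hg] at h
    convert h using 1
    group)
  refine ⟨m2⁻¹ * m * m1, mul_mem (mul_mem (inv_mem hm2) (mem_sup_left hm)) hm1, ?_⟩
  calc m2⁻¹ * m * m1 * x * (m2⁻¹ * m * m1)⁻¹ = m2⁻¹ * (m * (m1 * x * m1⁻¹) * m⁻¹) * m2 := by group
    _ = g * x * g⁻¹ := by rw [hmx]; group
    _ = y := hg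

theorem fix_eq_singleton (hC : Ctx S A) {x : G} (hx : orderOf x = 2) (hxM : x ∈ pM A)
    (hcent : centralizer ({x} : Set G) ≤ pM A) : Fix A x = {base A} := by
  refine Set.eq_singleton_iff_unique_mem.2 ⟨base_mem_fix_iff.2 hxM, fun p hp => ?_⟩
  obtain ⟨g, rfl⟩ := QuotientGroup.mk_surjective p
  obtain ⟨m, hm, hmx⟩ := conj_in_pM hC hxM (mk_mem_fix_iff.1 hp) (isPGroup_of_invol hx)
    (g := g⁻¹) (by rw [inv_inv])
  rw [mk_eq_base_iff]
  have hc : g * m ∈ centralizer ({x} : Set G) := by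
    rw [mem_centralizer_singleton_iff]
    calc g * m * x = g * (m * x * m⁻¹) * m := by group
      _ = x * (g * m) := by rw [hmx]; group
  have h := mul_mem (hcent hc) (inv_mem hm)
  rwa [mul_inv_cancel_right] at h

theorem bad_iff (hC : Ctx S A) {x : G} :
    Bad A x ↔ orderOf x = 2 ∧ x ∈ pM A ∧ Fix A x ≠ {base A} := by
  refine ⟨fun h => ⟨h.ord, h.mem, fun e => h.not_le fun g hg => ?_⟩,
    fun ⟨h1, h2, h3⟩ => ⟨h1, h2, fun hle => h3 (fix_eq_singleton hC h1 h2 hle)⟩⟩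
  have hp : ((g : G) : Pts A) ∈ Fix A x := mk_mem_fix_iff.2 (by
    rw [mul_assoc, ← mem_centralizer_singleton_iff.1 hg, inv_mul_cancel_left]; exact h.mem)
  rw [e, Set.mem_singleton_iff, mk_eq_base_iff] at hp
  exact hp

theorem bad_conj (hC : Ctx S A) {x m : G} (hx : Bad A x) (hm : m ∈ pM A) : Bad A (m * x * m⁻¹) := by
  obtain ⟨h1, h2, h3⟩ := (bad_iff hC).1 hx
  refine (bad_iff hC).2 ⟨(orderOf_injective (MulAut.conj m).toMonoidHom (MulAut.conj m).injective x).trans h1,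
    mul_mem (mul_mem hm h2) (inv_mem hm), fun e => h3 (Set.eq_singleton_iff_unique_mem.2
      ⟨base_mem_fix_iff.2 h2, fun p hp => ?_⟩)⟩
  have hp' : m • p ∈ Fix A (m * x * m⁻¹) := mem_fix_conj.2 hp
  rw [e, Set.mem_singleton_iff] at hp'
  exact MulAction.injective m (hp'.trans (smul_base_eq_iff.2 hm).symm)

theorem exists_conj_bad (hC : Ctx S A) {x : G} (hx : Bad A x) :
    ∃ m ∈ pM A, m * x * m⁻¹ ∈ (S : Subgroup G) ∧ Bad A (m * x * m⁻¹) ∧
      m * x * m⁻¹ ∈ centralizer (A : Set G) ∧ BlockFacts A (m * x * m⁻¹) := by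
  obtain ⟨m, hm, h⟩ := exists_conj_le_S hC (isPGroup_of_invol hx.ord) (zpowers_le.2 hx.mem)
  have hb := bad_conj hC hx hm
  exact ⟨m, hm, h x (mem_zpowers x), hb, hC.bad _ hb (S_le_normalizer hC (h x (mem_zpowers x)))⟩

theorem card_fix_bad (hC : Ctx S A) {x : G} (hx : Bad A x) :
    Nat.card (Fix A x) = Nat.card A ^ 2 + 1 := by
  obtain ⟨m, -, -, -, -, hB⟩ := exists_conj_bad hC hx
  rw [← card_fix_conj m x, hB.card_fix]

theorem card_fix_isA (hC : Ctx S A) {x : G} (hx : IsA A x) : Nat.card (Fix A x) = 1 := by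
  obtain ⟨g, a, ha, ha1, rfl⟩ := hx
  rw [card_fix_conj, hC.fixA a ha ha1]
  simp

theorem not_isA_of_bad (hC : Ctx S A) {x : G} (hx : Bad A x) : ¬ IsA A x := fun h => by
  have h1 := card_fix_isA hC h
  rw [card_fix_bad hC hx] at h1
  have : 0 < Nat.card A ^ 2 := pow_pos Nat.card_pos 2
  omega

theorem IsA.mem {S : Sylow 2 G} (hC : Ctx S A) {x : G} (hx : IsA A x) (hS : x ∈ (S : Subgroup G)) :
    x ∈ A := by
  obtain ⟨g, a, ha, -, rfl⟩ := hx
  exact hC.pt.closed.2 a ha g hS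

theorem IsA.conj {x : G} (hx : IsA A x) (h : G) : IsA A (h * x * h⁻¹) := by
  obtain ⟨g, a, ha, ha1, rfl⟩ := hx
  exact ⟨h * g, a, ha, ha1, by group⟩

theorem isA_of_mem {a : G} (ha : a ∈ A) (ha1 : a ≠ 1) : IsA A a := ⟨1, a, ha, ha1, by group⟩

theorem exists_card_eq_two_pow (hC : Ctx S A) : ∃ n, Nat.card A = 2 ^ n :=
  IsPGroup.iff_card.1 (isPGroup_A hC)

end CfsgLib.ThreePrime.Block
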