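import Cfsg.Agent.Lib.ThreePrime.Block.CentralTwoSpec
import Cfsg.Agent.Lib.LocalEvenB.SubnormalSylow
import Cfsg.Agent.Lib.Components.Radicals

/-!
Owner: helper4.  The group of `CentralTwo` has no components.
-/

set_option autoImplicit false
set_option linter.all false

namespace CfsgLib.ThreePrime.Block

open Subgroup

universe u

local instance factTwoBlockCentralTwoComp : Fact (Nat.Prime 2) := ⟨Nat.prime_two⟩

section Facts

variable {Y : Type u} [Group Y] [Finite Y] {r : ℕ}

theorem SzFacts.sylow_ne_top (hf : SzFacts Y r) (T : Sylow 2 Y) : (T : Subgroup Y) ≠ ⊤ := by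
  intro htop
  have e : Nat.card T = Nat.card Y := by
    rw [show Nat.card T = Nat.card (T : Subgroup Y) from rfl, htop, card_top]
  rw [hf.sylow_card, hf.card] at e
  have := q_ge hf
  set q := 2 ^ (2 * r + 1) with hq
  obtain ⟨t, ht⟩ : ∃ t, q - 1 = t + 7 := ⟨q - 8, by omega⟩
  rw [ht] at e
  nlinarith [Nat.mul_le_mul (Nat.le_refl (q ^ 2)) (show 2 ≤ (q ^ 2 + 1) * (t + 7) by nlinarith)]

theorem SzFacts.center_eq_bot (hf : SzFacts Y r) : center Y = ⊥ := by
  haveI := hf.simple
  refine ((inferInstance : (center Y).Normal).eq_bot_or_eq_top).resolve_right fun htop => ?_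
  obtain ⟨T⟩ := (Sylow.nonempty : Nonempty (Sylow 2 Y))
  obtain ⟨x, hx, hx2⟩ := exists_four hf T
  refine hf.sylow_ne_top T (eq_top_iff.2 fun y _ => ?_)
  refine hf.cent_invol T (x ^ 2) (pow_mem hx 2) (sq_sq hf hx) hx2 (mem_centralizer_singleton_iff.2 ?_)
  exact mem_center_iff.1 (htop ▸ mem_top (x ^ 2)) y

end Facts

variable {Γ : Type u} [Group Γ] [Finite Γ] {D W : Subgroup Γ} {θ : MulAut Γ} {n l k : ℕ}

theorem CentralTwo.exists_ne_one (h : CentralTwo D W θ n l k) : ∃ w ∈ W, w ≠ 1 := by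
  by_contra hc
  push Not at hc
  have : Nat.card W = 1 := card_eq_one.2 ((eq_bot_iff_forall _).2 hc)
  rw [h.card_W] at this
  have := Nat.one_lt_two_pow h.pos.ne'
  omega

/-- The centre of a component is a two-group. -/
theorem CentralTwo.center_isPGroup (h : CentralTwo D W θ n l k) {L : Subgroup Γ}
    (hL : Cfsg.IsComponent L) : IsPGroup 2 (center L) := by
  refine IsPGroup.of_card (n := (Nat.card (center L)).primeFactorsList.length) ?_
  refine Nat.eq_prime_pow_of_unique_prime_dvd Nat.card_pos.ne' fun {q} hq hd => ?_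
  by_contra hq2
  haveI := Fact.mk hq
  obtain ⟨z, hz⟩ := exists_prime_orderOf_dvd_card' q hd
  have hn : (zpowers (z : L)).Normal := ⟨fun a ha b => by
    have hc : a ∈ center L := zpowers_le.2 z.2 ha
    rwa [mem_center_iff.1 hc b, mul_inv_cancel_right]⟩
  have hcard : Nat.card ((zpowers (z : L)).map L.subtype) = q := by
    rw [card_map_of_injective L.subtype_injective, Nat.card_zpowers, orderOf_coe, hz]
  have hle := CfsgLib.Components.subnormal_coprime_le_pPrimeCore (p := 2)
    (hn.isSubnormal.trans' hL.1) (by rw [hcard]; exact (Nat.coprime_primes hq Nat.prime_two).2 hq2)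
  rw [show Cfsg.pPrimeCore 2 Γ = ⊥ from h.core, le_bot_iff] at hle
  rw [hle, card_bot] at hcard
  exact hq.one_lt.ne hcard

set_option maxHeartbeats 1000000 in
/-- No components. -/
theorem CentralTwo.noComponent (h : CentralTwo D W θ n l k) (L : Subgroup Γ) :
    ¬ Cfsg.IsComponent L := by
  intro hL
  classical
  obtain ⟨P, hPD⟩ := h.sylow
  subst hPD
  -- the simple quotient
  obtain ⟨Y, _, _, r, p, hf, hp, hker⟩ : ∃ (Y : Type u) (_ : Group Y) (_ : Finite Y) (r : ℕ)
      (p : L →* Y), SzFacts Y r ∧ Function.Surjective p ∧ p.ker = center L := by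
    let e0 : Γ ≃* Γ ⧸ (⊥ : Subgroup Γ) := (QuotientGroup.quotientBot (G := Γ)).symm
    obtain ⟨r, hr⟩ := h.sz ⊥ _ (CfsgLib.Components.isComponent_map_equiv e0 hL)
    let e : L ≃* L.map e0.toMonoidHom := e0.subgroupMap L
    refine ⟨_, inferInstance, inferInstance, r,
      (QuotientGroup.mk' (center (L.map e0.toMonoidHom))).comp e.toMonoidHom, hr,
      (QuotientGroup.mk'_surjective _).comp e.surjective, ?_⟩
    ext a
    rw [MonoidHom.mem_ker, MonoidHom.comp_apply, QuotientGroup.mk'_apply, QuotientGroup.eq_one_iff,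
      mem_center_iff, mem_center_iff]
    refine ⟨fun hh b => e.injective ?_, fun hh b => ?_⟩
    · rw [map_mul, map_mul]; exact hh (e b)
    · obtain ⟨b, rfl⟩ := e.surjective b
      show e b * e a = e a * e b
      rw [← map_mul, hh b, map_mul]
  have hYc := hf.center_eq_bot
  have hconjinj : ∀ a b : Y, MulAut.conj a = MulAut.conj b → a = b := by
    intro a b e
    have h1 : a⁻¹ * b ∈ center Y := mem_center_iff.2 fun y => by
      have h2 : a * y * a⁻¹ = b * y * b⁻¹ := DFunLike.congr_fun e y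
      calc y * (a⁻¹ * b) = a⁻¹ * (a * y * a⁻¹) * b := by group
        _ = a⁻¹ * b * y := by rw [h2]; group
    rw [hYc, mem_bot, inv_mul_eq_one] at h1
    exact h1
  -- the Sylow subgroup
  let S0 : Subgroup L := ((P : Subgroup Γ) ⊓ L).subgroupOf L
  have hS0p : IsPGroup 2 S0 := (P.isPGroup'.to_le inf_le_left).comap_subtype
  let SL : Sylow 2 L := hS0p.toSylow (CfsgLib.LocalEvenB.not_dvd_relIndex_inf_of_subnormal P hL.1)
  let T : Sylow 2 Y := SL.mapSurjective hp
  have hmemT : ∀ t ∈ (T : Subgroup Y), ∃ a : L, (a : Γ) ∈ (P : Subgroup Γ) ∧ p a = t := by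
    rintro t ⟨a, ha, rfl⟩
    exact ⟨a, (mem_subgroupOf.1 (show a ∈ S0 from ha)).1, rfl⟩
  obtain ⟨t4, ht4, ht4'⟩ := exists_four hf T
  -- an element of `W`
  obtain ⟨w, hwW, hw1⟩ := h.exists_ne_one
  have hcw : ∀ a : Γ, a ∈ (P : Subgroup Γ) ↔ a * w = w * a := fun a => by
    rw [← h.cent w hwW hw1, mem_centralizer_singleton_iff]
  have hθw : θ w = w := (h.fixed w (h.W_le hwW)).2 hwW
  have hwL : L.map (MulAut.conj w).toMonoidHom = L := by
    refine (CfsgLib.Components.components_eq_or_commute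
      (CfsgLib.Components.isComponent_map_equiv (MulAut.conj w) hL) hL).resolve_right fun hc => ?_
    obtain ⟨a, haP, rfl⟩ := hmemT t4 ht4
    refine ht4' ?_
    rw [← map_pow, ← MonoidHom.mem_ker, hker]
    refine pow_mem (mem_center_iff.2 fun b => Subtype.ext ?_) 2
    have hmem : (a : Γ) ∈ L.map (MulAut.conj w).toMonoidHom :=
      ⟨a, a.2, by
        show w * (a : Γ) * w⁻¹ = a
        rw [← (hcw a).1 haP, mul_inv_cancel_right]⟩
    exact (mem_centralizer_iff.1 (commutator_eq_bot_iff_le_centralizer.1 hc hmem) b b.2)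
  let f : MulAut L := ((MulAut.conj w).subgroupMap L).trans (MulEquiv.subgroupCongr hwL)
  have hfcoe : ∀ a : L, (f a : Γ) = w * a * w⁻¹ := fun a => rfl
  -- induced automorphisms
  have hind : ∀ g : MulAut L, ∃ φ : MulAut Y, ∀ a, φ (p a) = p (g a) := by
    intro g
    have hle : p.ker ≤ (p.comp g.toMonoidHom).ker := by
      intro a ha
      rw [hker] at ha
      rw [MonoidHom.mem_ker, MonoidHom.comp_apply, ← MonoidHom.mem_ker, hker]
      exact (Subgroup.characteristic_iff_map_eq.1 inferInstance g).le (mem_map_of_mem _ ha)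
    let q : Y →* Y := p.liftOfSurjective hp ⟨p.comp g.toMonoidHom, hle⟩
    have hq : ∀ a, q (p a) = p (g a) := fun a =>
      MonoidHom.liftOfRightInverse_comp_apply p _ _ ⟨p.comp g.toMonoidHom, hle⟩ a
    have hsur : Function.Surjective q := fun y => by
      obtain ⟨b, rfl⟩ := hp y
      obtain ⟨a, rfl⟩ := g.surjective b
      exact ⟨p a, hq a⟩
    exact ⟨MulEquiv.ofBijective q ⟨Finite.injective_iff_surjective.2 hsur, hsur⟩, hq⟩
  obtain ⟨φ, hφ⟩ := hind f
  have hff : ∀ a, f (f a) = a := fun a => Subtype.ext (by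
    have hw2 : w * w = 1 := by rw [← sq]; exact h.W_sq w hwW
    rw [hfcoe, hfcoe, inv_eq_of_mul_eq_one_right hw2, ← mul_assoc, ← mul_assoc, hw2, one_mul,
      mul_assoc, hw2, mul_one])
  have hφ2 : φ ^ 2 = 1 := MulEquiv.ext fun y => by
    obtain ⟨a, rfl⟩ := hp y
    rw [sq, MulAut.mul_apply, hφ, hφ, hff]
    rfl
  obtain ⟨x, hx⟩ := hf.inner φ ⟨1, hφ2⟩
  have hx2 : x ^ 2 = 1 := hconjinj _ _ (by rw [map_pow, ← hx, hφ2, map_one])
  have hx1 : x ≠ 1 := by
    intro e
    have hcen : ∀ a : L, a⁻¹ * f a ∈ center L := fun a => by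
      rw [← hker, MonoidHom.mem_ker, map_mul, map_inv, ← hφ, hx, e, map_one, MulAut.one_apply,
        inv_mul_cancel]
    let c : L →* center L := MonoidHom.mk' (fun a => ⟨a⁻¹ * f a, hcen a⟩) fun a b => Subtype.ext (by
      show (a * b)⁻¹ * f (a * b) = a⁻¹ * f a * (b⁻¹ * f b)
      rw [map_mul, mul_inv_rev]
      calc b⁻¹ * a⁻¹ * (f a * f b) = b⁻¹ * (a⁻¹ * f a) * f b := by group
        _ = _ := by rw [mem_center_iff.1 (hcen a) b⁻¹]; group)
    have hall : ∀ a : L, (a : Γ) ∈ (P : Subgroup Γ) := fun a => by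
      have h1 : a ∈ c.ker := by
        have hle : _root_.commutator L ≤ c.ker := by
          rw [commutator_def]
          refine commutator_le.2 fun u _ v _ => ?_
          rw [MonoidHom.mem_ker, map_commutatorElement, commutatorElement_eq_one_iff_mul_comm]
          exact Subtype.ext (mem_center_iff.1 (c v).2 (c u : L))
        rw [hL.2.1.commutator_eq_top] at hle
        exact hle (mem_top a)
      have h2 : a⁻¹ * f a = 1 := congrArg Subtype.val (MonoidHom.mem_ker.1 h1)
      rw [inv_mul_eq_one] at h2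
      rw [hcw]
      have h3 := congrArg Subtype.val h2.symm
      rw [hfcoe, mul_inv_eq_iff_eq_mul] at h3
      exact h3.symm
    refine hf.sylow_ne_top T (eq_top_iff.2 fun y _ => ?_)
    obtain ⟨a, rfl⟩ := hp y
    exact ⟨a, show a ∈ S0 from mem_subgroupOf.2 ⟨hall a, a.2⟩, rfl⟩
  have hxT : x ∈ (T : Subgroup Y) := by
    obtain ⟨T', hT'⟩ := exists_sylow hf hx2
    have hle : (T : Subgroup Y) ≤ T' := fun t ht => by
      refine hf.cent_invol T' x hT' hx2 hx1 (mem_centralizer_singleton_iff.2 ?_)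
      obtain ⟨a, haP, rfl⟩ := hmemT t ht
      have h1 : f a = a := Subtype.ext (by rw [hfcoe, ← (hcw a).1 haP, mul_inv_cancel_right])
      have h2 := hφ a
      rw [hx, h1, MulAut.conj_apply, mul_inv_eq_iff_eq_mul] at h2
      exact h2.symm
    rw [← T.is_maximal' T'.isPGroup' hle]
    exact hT'
  have hZT : ∀ a : L, a ∈ center L → (a : Γ) ∈ (P : Subgroup Γ) := fun a ha => by
    have hsup : IsPGroup 2 ((center L ⊔ (SL : Subgroup L) : Subgroup L)) :=
      (h.center_isPGroup hL).to_sup_of_normal_left SL.isPGroup'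
    have h1 : a ∈ S0 := (SL.is_maximal' hsup le_sup_right).le (mem_sup_left ha)
    exact (mem_subgroupOf.1 h1).1
  by_cases hmove : L.map θ.toMonoidHom = L
  · -- invariant: a fixed element of order four
    let g : MulAut L := (θ.subgroupMap L).trans (MulEquiv.subgroupCongr hmove)
    have hgcoe : ∀ a : L, (g a : Γ) = θ a := fun a => rfl
    obtain ⟨ψ, hψ⟩ := hind g
    have hψx : ψ x = x := by
      refine hconjinj _ _ (MulEquiv.ext fun y => ?_)
      obtain ⟨b, rfl⟩ := hp y
      obtain ⟨a, rfl⟩ := g.surjective b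
      have h1 : g (f a) = f (g a) := Subtype.ext (by
        rw [hgcoe, hfcoe, hfcoe, hgcoe, map_mul, map_mul, map_inv, hθw])
      have h2 : ψ (MulAut.conj x (p a)) = MulAut.conj x (p (g a)) := by
        rw [← hx, hφ, hψ, hφ, h1]
      rw [MulAut.conj_apply, map_mul, map_mul, map_inv, hψ] at h2
      exact h2
    have hit : ∀ (i : ℕ) (a : L), (((g ^ i) a : L) : Γ) = (θ ^ i) a ∧ (ψ ^ i) (p a) = p ((g ^ i) a) := by
      intro i
      induction i with
      | zero => intro a; exact ⟨rfl, rfl⟩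
      | succ i ih =>
        intro a
        rw [pow_succ', pow_succ', pow_succ', MulAut.mul_apply, MulAut.mul_apply, MulAut.mul_apply,
          hgcoe, (ih a).1, (ih a).2, hψ]
        exact ⟨rfl, rfl⟩
    have hgl : ∀ a, (g ^ l) a = a := fun a => Subtype.ext (by rw [(hit l a).1, h.pow]; rfl)
    have hψl : ψ ^ l = 1 := MulEquiv.ext fun y => by
      obtain ⟨a, rfl⟩ := hp y
      rw [(hit l a).2, hgl]
      rfl
    have hn0 : 0 < n := by have := h.three_le; omega
    obtain ⟨y, hy, hy4, hyx⟩ := exists_fixed_four hf ψ h.prim.prime (h.prim.ne_two hn0) hψl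
      (orderOf_eq_prime hx2 hx1) hψx
    have hyT : y ∈ (T : Subgroup Y) := hf.cent_invol T x hxT hx2 hx1
      (mem_centralizer_singleton_iff.2 (by rw [← hyx]; exact (Commute.self_pow y 2).eq))
    obtain ⟨a0, ha0P, ha0⟩ := hmemT y hyT
    let S := {a : L // p a = y}
    let F : S → S := fun a => ⟨g a.1, by rw [← hψ, a.2, hy]⟩
    have hF : F^[l] = id := by
      have hit2 : ∀ (i : ℕ) (a : S), (F^[i] a).1 = (g ^ i) a.1 := by
        intro i
        induction i with
        | zero => intro a; rfl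
        | succ i ih => intro a; rw [Function.iterate_succ_apply', pow_succ', MulAut.mul_apply, ← ih]
      exact funext fun a => Subtype.ext (by rw [hit2, hgl]; rfl)
    have hnd : ¬ l ∣ Nat.card S := by
      obtain ⟨j, hj⟩ := IsPGroup.iff_card.1 (h.center_isPGroup hL)
      have e : S ≃ center L :=
        { toFun := fun a => ⟨a0⁻¹ * a.1, by
            rw [← hker, MonoidHom.mem_ker, map_mul, map_inv, ha0, a.2, inv_mul_cancel]⟩
          invFun := fun z => ⟨a0 * z.1, by
            rw [map_mul, ha0, MonoidHom.mem_ker.1 (hker.symm ▸ z.2 : z.1 ∈ p.ker), mul_one]⟩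
          left_inv := fun a => Subtype.ext (mul_inv_cancel_left _ _)
          right_inv := fun z => Subtype.ext (inv_mul_cancel_left _ _) }
      rw [Nat.card_congr e, hj]
      exact h.prim.not_dvd_two_pow hn0 j
    obtain ⟨a, ha⟩ := exists_fixed_of_not_dvd F h.prim.prime hF hnd
    have haθ : θ (a.1 : Γ) = a.1 := by rw [← hgcoe]; exact congrArg (fun b : S => ((b.1 : L) : Γ)) ha
    have haP : (a.1 : Γ) ∈ (P : Subgroup Γ) := by
      have hz : a0⁻¹ * a.1 ∈ center L := by
        rw [← hker, MonoidHom.mem_ker, map_mul, map_inv, ha0, a.2, inv_mul_cancel]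
      have := mul_mem ha0P (hZT _ hz)
      rwa [← Subgroup.coe_mul, mul_inv_cancel_left] at this
    have haW := h.W_sq _ ((h.fixed _ haP).1 haθ)
    refine hx1 ?_
    rw [← hyx, ← a.2, ← map_pow, show a.1 ^ 2 = 1 from Subtype.ext haW, map_one]
  · -- moved: the diagonal
    obtain ⟨Δ, hΔ, hact, hinv⟩ := exists_diag h.prim.prime h.pow hL hmove
    obtain ⟨a, haP, rfl⟩ := hmemT t4 ht4
    have h1 : Δ a ∈ (P : Subgroup Γ) := hinv (P : Subgroup Γ) h.map_mem a haP
    have h2 := h.W_sq _ ((h.fixed _ h1).1 (hΔ a))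
    refine ht4' ?_
    rw [← map_pow, ← MonoidHom.mem_ker, hker, mem_center_iff]
    intro z
    have h3 := hact (a ^ 2) z z.2
    rw [map_pow, h2, one_mul, inv_one, mul_one] at h3
    refine Subtype.ext ?_
    rw [Subgroup.coe_mul, Subgroup.coe_mul]
    exact eq_mul_inv_iff_mul_eq.1 h3

end CfsgLib.ThreePrime.Block
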