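import Cfsg.Agent.Lib.ThreePrime.Block.Moves
import Cfsg.Prelude.Def_Local

/-!
Owner: helper6.  The abstract quotient of `C(A)` in the block analysis.
-/

set_option autoImplicit false
set_option linter.all false

namespace CfsgLib.ThreePrime.Block

open Subgroup

universe u

local instance factTwoBlockCentralTwoSpec : Fact (Nat.Prime 2) := ⟨Nat.prime_two⟩

/-- `D` is a Sylow two-subgroup, the centraliser of each non-identity element of `W`, and `W` is the set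
of fixed points on `D` of `θ`, of primitive prime order `l`. -/
structure CentralTwo {Γ : Type u} [Group Γ] [Finite Γ] (D W : Subgroup Γ) (θ : MulAut Γ)
    (n l k : ℕ) : Prop where
  three_le : 3 ≤ n
  odd : Odd n
  prim : IsPrim l n
  three : ¬ 3 ∣ Nat.card Γ
  core : Cfsg.oddCore Γ = ⊥
  sz : ∀ (N : Subgroup Γ) [N.Normal] (E : Subgroup (Γ ⧸ N)), Cfsg.IsComponent E →
    ∃ r, SzFacts (E ⧸ center E) r
  sylow : ∃ P : Sylow 2 Γ, (P : Subgroup Γ) = D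
  card_D : Nat.card D = 2 ^ (2 * n + k)
  W_le : W ≤ D
  W_sq : ∀ w ∈ W, w ^ 2 = 1
  card_W : Nat.card W = 2 ^ k
  pos : 0 < k
  k_le : k ≤ n
  cent : ∀ w ∈ W, w ≠ 1 → centralizer ({w} : Set Γ) = D
  pow : θ ^ l = 1
  map_mem : ∀ d ∈ D, θ d ∈ D
  fixed : ∀ d ∈ D, (θ d = d ↔ d ∈ W)

/-- The conclusion about such a group. -/
def CentralTwoGoal : Prop :=
  ∀ (Γ : Type u) [Group Γ] [Finite Γ] (D W : Subgroup Γ) (θ : MulAut Γ) (n l k : ℕ),
    CentralTwo D W θ n l k →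
      (D.Normal ∧ (∀ g, g⁻¹ * θ g ∈ D) ∧ W.Normal) ∨
      (D.Normal ∧ k = 1 ∧ (∀ a ∈ D, ∀ b ∈ D, a * b = b * a) ∧ (∀ a ∈ D, a ^ 2 = 1) ∧
        ∃ g : Γ, (∃ a ∈ D, g * a * g⁻¹ ≠ a) ∧
          ∀ B ≤ D, (∀ b ∈ B, g * b * g⁻¹ ∈ B) → B = ⊥ ∨ B = D)

end CfsgLib.ThreePrime.Block
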