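import Cfsg.Agent.Lib.ThreePrime.Block.SzDerived

/-!
Owner: helper6.  An automorphism of odd period of a Suzuki group fixing the involutions of a Sylow subgroup
and another Sylow subgroup or no element outside is trivial.
-/

set_option autoImplicit false
set_option linter.all false

namespace CfsgLib.ThreePrime.Block

open Subgroup
open scoped Pointwise

universe u

local instance factTwoBlockRigid : Fact (Nat.Prime 2) := ⟨Nat.prime_two⟩

variable {X : Type u} [Group X] [Finite X] {m : ℕ}

/-- An automorphism of odd period fixing the centre of a Sylow subgroup pointwise is trivial. -/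
theorem eq_one_of_fix_omega (h : SzFacts X m) {T : Sylow 2 X} {φ : MulAut X} {j : ℕ} (hj : Odd j)
    (hφ : φ ^ j = 1) (hfix : ∀ x ∈ (T : Subgroup X), x ^ 2 = 1 → φ x = x) : φ = 1 := by
  classical
  obtain ⟨y0, hy0, hy02⟩ := exists_four h T
  have hTφ : φ • T = T := by
    refine eq_of_mem h hy02 ?_ (pow_mem hy0 2)
    rw [Sylow.pointwise_smul_def]
    exact ⟨y0 ^ 2, pow_mem hy0 2, hfix _ (pow_mem hy0 2) (sq_sq h hy0)⟩
  have hin : ∀ y ∈ (T : Subgroup X), φ y ∈ (T : Subgroup X) := fun y hy => by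
    conv_lhs => rw [← hTφ, Sylow.pointwise_smul_def]
    exact ⟨y, hy, rfl⟩
  have hfixT : ∀ y ∈ (T : Subgroup X), φ y = y := by
    intro y hy
    by_cases hy2 : y ^ 2 = 1
    · exact hfix y hy hy2
    have hz2 : (y⁻¹ * φ y) ^ 2 = 1 := h.roots T y hy (φ y) (hin y hy)
      (by rw [← map_pow, hfix _ (pow_mem hy 2) (sq_sq h hy)]) hy2
    exact fixed_of_odd_period φ hj hφ (mul_inv_cancel_left y (φ y)).symm
      (hfix _ (mul_mem (inv_mem hy) (hin y hy)) hz2) hz2
  haveI := Fintype.ofFinite (Sylow 2 X)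
  obtain ⟨T', hT'⟩ := Fintype.exists_ne_of_one_lt_card (by
    rw [← Nat.card_eq_fintype_card, card_sylow h]
    have : 0 < (2 ^ (2 * m + 1)) ^ 2 := by positivity
    omega) T
  have hne : φ • T' ≠ T := fun e => hT' ((MulAction.injective φ) (e.trans hTφ.symm))
  obtain ⟨y, hy, hyT⟩ := regular h hT' hne
  have hconj : ∀ (k : X) (U : Sylow 2 X), φ • (k • U) = φ k • (φ • U) := by
    intro k U
    refine Sylow.ext ?_
    rw [Sylow.pointwise_smul_def, Sylow.coe_subgroup_smul, Sylow.coe_subgroup_smul,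
      Sylow.pointwise_smul_def, smul_smul, smul_smul]
    congr 1
    refine MulEquiv.ext fun z => ?_
    show φ (k * z * k⁻¹) = φ k * φ z * (φ k)⁻¹
    rw [map_mul, map_mul, map_inv]
  have hit : ∀ i : ℕ, (φ ^ i) • T' = y ^ i • T' := by
    intro i
    induction i with
    | zero => rw [pow_zero, pow_zero, one_smul, one_smul]
    | succ i ih =>
      rw [pow_succ', mul_smul, ih, hconj, hfixT _ (pow_mem hy i), ← hyT, pow_succ, mul_smul]
  have hy1 : y = 1 := by
    have h1 := hit j
    rw [hφ, one_smul] at h1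
    have h2 := eq_one_of_smul_eq h hT'.symm (pow_mem hy j) h1.symm
    have h3 : orderOf y ∣ j := orderOf_dvd_of_pow_eq_one h2
    have h4 : orderOf y ∣ 2 ^ 2 := orderOf_dvd_of_pow_eq_one (h.exp T y hy)
    exact orderOf_eq_one_iff.1
      (Nat.eq_one_of_dvd_coprimes (Nat.Coprime.pow_right 2 (Nat.coprime_two_right.2 hj)) h3 h4)
  rw [hy1, one_smul] at hyT
  have hall : ∀ U : Sylow 2 X, φ • U = U := by
    intro U
    by_cases hU : U = T
    · rw [hU, hTφ]
    obtain ⟨z, hz, rfl⟩ := regular h hT' hU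
    rw [hconj, hfixT z hz, ← hyT]
  refine MulEquiv.ext fun k => ?_
  have hker : ∀ U : Sylow 2 X, (k⁻¹ * φ k) • U = U := by
    intro U
    have := hall (k • U)
    rw [hconj, hall U] at this
    rw [mul_smul, this, inv_smul_smul]
  have hmem : k⁻¹ * φ k ∈ (normalizer ((T : Subgroup X) : Set X)).normalCore := fun g => by
    refine smul_eq_iff.1 ?_
    rw [mul_smul, mul_smul, hker, smul_inv_smul]
  haveI := h.simple
  rcases IsSimpleGroup.eq_bot_or_eq_top_of_normal (normalizer ((T : Subgroup X) : Set X)).normalCore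
    inferInstance with e | e
  · rw [e, mem_bot, inv_mul_eq_one] at hmem
    exact hmem.symm
  · exfalso
    have h4 := h.index T
    rw [top_le_iff.1 (e.ge.trans (normalCore_le _)), index_top] at h4
    have : 0 < (2 ^ (2 * m + 1)) ^ 2 := by positivity
    omega

end CfsgLib.ThreePrime.Block
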