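import Cfsg.Agent.Lib.ThreePrime.Block.Trans
import Cfsg.Agent.Lib.ThreePrime.Block.Rigid
import Cfsg.Agent.Lib.ZStar.Main

/-!
Owner: helper6.  The centralisers of the component and of the image of `A`.

* `ker_image`: the centraliser of the component is the image of the kernel part
* `image_of_commute`: the centraliser of the image of `A` is the image of the top group
* `exists_top_mul_core`: `C(c) ∩ C(A) ⊆ U · O(C(c))`
-/

set_option autoImplicit false
set_option linter.all false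

namespace CfsgLib.ThreePrime.Block

open Subgroup CfsgLib.Bender.Dichotomy CfsgLib.Signalizer
open scoped Pointwise

universe u

local instance factTwoBlockCentralizer : Fact (Nat.Prime 2) := ⟨Nat.prime_two⟩

variable {G : Type u} [Group G] [Finite G] {S : Sylow 2 G} {A : Subgroup G} {m l : ℕ}
  {c : G} {U : Subgroup G} {K : Subgroup (cQ c)} {k : ℕ} {T : Sylow 2 K}

theorem oddCore_quotient (c : G) : Cfsg.oddCore (cQ c) = ⊥ := by
  refine (Subgroup.eq_bot_iff_forall _).2 fun z hz => ?_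
  obtain ⟨y, rfl⟩ := QuotientGroup.mk'_surjective _ z
  refine (QuotientGroup.eq_one_iff y).2 ?_
  haveI : ((Cfsg.oddCore (cQ c)).comap (cπ c)).Normal :=
    (inferInstance : (Cfsg.oddCore (cQ c)).Normal).comap _
  refine CfsgLib.ZStar.le_oddCore (N := (Cfsg.oddCore (cQ c)).comap (cπ c)) inferInstance ?_ hz
  rw [CfsgLib.Core.card_comap_mk']
  exact (CfsgLib.ZStar.odd_card_oddCore _).mul (CfsgLib.ZStar.odd_card_oddCore _)

section Top

variable (hd : BlockData A c K k T) (hU : IsTop A c U)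
include hd hU

theorem img_U_le : cimg c U ≤ cimg c (pM A) :=
  map_mono fun x hx => mem_subgroupOf.2 (hU.le (mem_subgroupOf.1 hx)).2

/-- The image of a top group is maximal among the two-groups of the image of the stabiliser. -/
theorem two_le_image {R : Subgroup (cQ c)} (hR : IsPGroup 2 R) (hle : cimg c U ≤ R)
    (hRM : R ≤ cimg c (pM A)) : R = cimg c U := by
  refine le_antisymm (fun z hz => ?_) hle
  let W : Subgroup ↥(cH c) := R.comap (cπ c)
  have hWM : ∀ x ∈ W, (x : G) ∈ pM A := fun x hx => mem_pM_of_image hd.bf (hRM hx)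
  have hUW : U.subgroupOf (cH c) ≤ W := fun x hx => hle ⟨x, hx, rfl⟩
  obtain ⟨U2, hU2⟩ := ((hU.two.comap_subtype (K := cH c)).comap_subtype (K := W)).exists_le_sylow
  let U3 : Subgroup G := ((U2 : Subgroup W).map W.subtype).map (cH c).subtype
  have hU3 : U3 = U := by
    refine hU.max U3 ((U2.isPGroup'.map _).map _) (fun u hu => ?_) ?_
    · exact ⟨⟨u, top_mem_cH hd hU hu⟩, ⟨⟨⟨u, top_mem_cH hd hU hu⟩, hUW hu⟩, hU2 hu, rfl⟩, rfl⟩
    · rintro _ ⟨x, ⟨w, -, rfl⟩, rfl⟩
      exact ⟨(w : ↥(cH c)).2, hWM _ w.2⟩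
  let f : W →* ↥R := ((cπ c).comp W.subtype).codRestrict _ fun w => w.2
  have hf : Function.Surjective f := fun z => by
    obtain ⟨x, hx⟩ := QuotientGroup.mk'_surjective _ (z : cQ c)
    exact ⟨⟨x, show cπ c x ∈ R from hx ▸ z.2⟩, Subtype.ext hx⟩
  have htop : (U2.mapSurjective hf : Subgroup ↥R) = ⊤ :=
    ((U2.mapSurjective hf).is_maximal' (hR.to_subgroup ⊤ |>.of_equiv topEquiv |>.to_subgroup _)
      le_top).symm
  have hmem : (⟨z, hz⟩ : ↥R) ∈ (U2.mapSurjective hf : Subgroup ↥R) := htop ▸ mem_top _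
  obtain ⟨w, hw, hwt⟩ := hmem
  exact ⟨w, mem_subgroupOf.2 (hU3 ▸ ⟨_, ⟨w, hw, rfl⟩, rfl⟩), congrArg Subtype.val hwt⟩

/-- A normalising image element has a normalising lift. -/
theorem exists_lift_normalizer {x : ↥(cH c)} (hxM : (x : G) ∈ pM A)
    (hx : ∀ u ∈ cimg c U, cπ c x * u * (cπ c x)⁻¹ ∈ cimg c U) :
    ∃ y : ↥(cH c), cπ c y = cπ c x ∧ (y : G) ∈ pM A ∧ (y : G) ∈ normalizer (U : Set G) := by
  let W : Subgroup G := U ⊔ core c
  have hnorm : U ≤ normalizer (core c : Set G) := fun u hu =>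
    mem_normalizer_of_cj (eq_of_le_of_card_ge (cj_le_iff.2 fun r hr =>
      core_conj hd (top_mem_cH hd hU hu) hr) (card_cj _ _).ge)
  have hin : ∀ u ∈ U, (x : G) * u * (x : G)⁻¹ ∈ W := by
    intro u hu
    let u' : ↥(cH c) := ⟨u, top_mem_cH hd hU hu⟩
    obtain ⟨v, hv, e⟩ := hx (cπ c u') ⟨u', mem_subgroupOf.2 hu, rfl⟩
    rw [← map_inv, ← map_mul, ← map_mul] at e
    have h1 := mem_oddCore_iff.1 (QuotientGroup.eq.1 e)
    have h2 := mul_mem (mem_sup_left (T := core c) (mem_subgroupOf.1 hv)) (mem_sup_right h1)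
    simpa using h2
  have hWle : W ≤ cH c ⊓ pM A := sup_le hU.le (le_inf (core2_le c) (core_le_pM hd.bf))
  let SU : Sylow 2 W :=
    { toSubgroup := U.subgroupOf W
      isPGroup' := hU.two.comap_subtype
      is_maximal' := fun {V} hV hle => by
        have e := hU.max (V.map W.subtype) (hV.map _)
          (fun u hu => ⟨⟨u, mem_sup_left hu⟩, hle hu, rfl⟩) ((map_subtype_le V).trans hWle)
        refine le_antisymm (fun v hv => mem_subgroupOf.2 (e ▸ mem_map_of_mem W.subtype hv)) hle }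
  obtain ⟨S2, hS2⟩ :=
    ((hU.two.map (MulAut.conj (x : G)).toMonoidHom).comap_subtype (K := W)).exists_le_sylow
  obtain ⟨w, hw⟩ := MulAction.exists_smul_eq W S2 SU
  obtain ⟨u1, hu1, r, hr, hwe⟩ : ∃ u1 ∈ U, ∃ r ∈ core c, (w : G) = u1 * r := by
    have h := w.2
    rw [← SetLike.mem_coe, coe_mul_of_left_le_normalizer_right _ _ hnorm, Set.mem_mul] at h
    obtain ⟨a, ha, b, hb, e⟩ := h
    exact ⟨a, ha, b, hb, e.symm⟩
  have hkey : ∀ u ∈ U, r * ((x : G) * u * (x : G)⁻¹) * r⁻¹ ∈ U := by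
    intro u hu
    have h1 : w * (⟨_, hin u hu⟩ : W) * w⁻¹ ∈ (SU : Subgroup W) := by
      rw [← hw, Sylow.coe_subgroup_smul]
      exact ⟨_, hS2 (mem_subgroupOf.2 ⟨u, hu, rfl⟩), rfl⟩
    have h2 : (w : G) * ((x : G) * u * (x : G)⁻¹) * (w : G)⁻¹ ∈ U := mem_subgroupOf.1 h1
    rw [hwe] at h2
    have := mul_mem (mul_mem (inv_mem hu1) h2) hu1
    convert this using 1
    group
  let r' : ↥(cH c) := ⟨r, core2_le c hr⟩
  refine ⟨r' * x, ?_, mul_mem (core_le_pM hd.bf hr) hxM,
    mem_normalizer_of_cj (eq_of_le_of_card_ge (cj_le_iff.2 fun u hu => by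
      show r * (x : G) * u * (r * (x : G))⁻¹ ∈ U
      convert hkey u hu using 1
      group) (card_cj _ _).ge)⟩
  rw [map_mul, show cπ c r' = 1 from (QuotientGroup.eq_one_iff _).2 (mem_oddCore_iff.2 hr), one_mul]

theorem eq_one_of_ker_comp {p : ↥(cH c)} (hp : (p : G) ∈ Ppart c K U)
    (h : cπ c p ∈ centralizer (K : Set (cQ c))) : cπ c p = 1 := by
  obtain ⟨hK, -⟩ := P_image hd hU (p := p) hp
  have : (⟨cπ c p, hK⟩ : K) ∈ center K := mem_center_iff.2 fun z =>
    Subtype.ext (mem_centralizer_iff.1 h z z.2)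
  rw [center_K hd, mem_bot] at this
  exact congrArg Subtype.val this

end Top

variable (hC : Ctx S A) (hA : Aut A m l) (hd : BlockData A c K k T) (hU : IsTop A c U)
include hC hA hd hU

/-- The centraliser of the component is the image of the kernel part. -/
theorem ker_image : centralizer (K : Set (cQ c)) = cimg c (Qpart A c U) := by
  classical
  haveI := hd.normal
  set C := centralizer (K : Set (cQ c)) with hCdef
  haveI hCn : C.Normal := inferInstance
  have hUM := top_isMax hC hA hd.bad hd.cent hU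
  obtain ⟨u, hu⟩ := exists_mover hC hA hd hUM
  set R := cimg c (Qpart A c U) with hR
  have hR2 : IsPGroup 2 R := ((hU.two.to_le inf_le_left).comap_subtype).map _
  have hRC : R ≤ C := by
    rintro _ ⟨q, hq, rfl⟩
    exact (mem_ker_iff hd).1 (mem_subgroupOf.1 hq).2
  let TT : Subgroup (cQ c) := (T : Subgroup K).map K.subtype
  have hTU : TT ≤ cimg c U := by
    rintro _ ⟨t, ht, rfl⟩
    obtain ⟨p, hp, e⟩ := exists_P_lift hd hU ht
    exact ⟨p, mem_subgroupOf.2 hp.1, e⟩
  have hUdec : ∀ z ∈ cimg c U, ∃ p : ↥(cH c), (p : G) ∈ Ppart c K U ∧ ∃ r ∈ R, z = cπ c p * r := by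
    rintro _ ⟨x, hx, rfl⟩
    obtain ⟨p, hp, q, hq, e⟩ := exists_P_mul_Q hd hU (mem_subgroupOf.1 hx)
    refine ⟨⟨p, top_mem_cH hd hU hp.1⟩, hp, _, ⟨⟨q, top_mem_cH hd hU hq.1⟩, mem_subgroupOf.2 hq, rfl⟩, ?_⟩
    rw [← map_mul]
    exact congrArg _ (Subtype.ext e)
  -- `R` is a Sylow subgroup of `C`
  let RS : Sylow 2 C :=
    { toSubgroup := R.subgroupOf C
      isPGroup' := hR2.comap_subtype
      is_maximal' := fun {V} hV hle => by
        set V' := V.map C.subtype
        have hVC : V' ≤ C := map_subtype_le V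
        have hTN : TT ≤ normalizer (V' : Set (cQ c)) :=
          le_trans (fun t ht => mem_centralizer_iff.2 fun v hv =>
            ((mem_centralizer_iff.1 (hVC hv) t (map_subtype_le _ ht))).symm)
            (centralizer_le_normalizer _)
        have hW := two_le_image hd hU (R := V' ⊔ TT)
          ((hV.map _).to_sup_of_normal_left' (T.isPGroup'.map _) hTN)
          (fun z hz => by
            obtain ⟨p, hp, r, hr, rfl⟩ := hUdec z hz
            obtain ⟨hK, hT⟩ := P_image hd hU (p := p) hp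
            exact mul_mem (mem_sup_right ⟨⟨_, hK⟩, hT, rfl⟩)
              (mem_sup_left ⟨⟨r, hRC hr⟩, hle hr, rfl⟩))
          (sup_le (hVC.trans (centralizer_le_img hd)) (hTU.trans (img_U_le hd hU)))
        refine le_antisymm (fun v hv => mem_subgroupOf.2 ?_) hle
        obtain ⟨p, hp, r, hr, e⟩ := hUdec _ (hW ▸ mem_sup_left (mem_map_of_mem C.subtype hv))
        have h1 : cπ c p = 1 := eq_one_of_ker_comp hd hU hp (by
          have := C.mul_mem v.2 (C.inv_mem (hRC hr))
          rw [show (v : cQ c) = cπ c p * r from e, mul_inv_cancel_right] at this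
          exact this)
        rw [show (v : cQ c) = cπ c p * r from e, h1, one_mul]
        exact hr }
  have hnc : normalizer ((RS : Subgroup C) : Set C) ≤ centralizer ((RS : Subgroup C) : Set C) := by
    intro x hx
    refine mem_centralizer_iff.2 fun r hr => ?_
    obtain ⟨q, hq, hqr⟩ := mem_subgroupOf.1 (show r ∈ R.subgroupOf C from hr)
    have hq' : (q : G) ∈ Qpart A c U := mem_subgroupOf.1 hq
    obtain ⟨x0, hx0⟩ := QuotientGroup.mk'_surjective _ (x : cQ c)
    have hx0M : (x0 : G) ∈ pM A := mem_pM_of_image hd.bf (hx0 ▸ centralizer_le_img hd x.2)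
    obtain ⟨y, hy, hyM, hyU⟩ := exists_lift_normalizer hd hU hx0M (fun z hz => by
      obtain ⟨p, hp, r', hr', rfl⟩ := hUdec z hz
      rw [show cπ c x0 = (x : cQ c) from hx0]
      obtain ⟨hK, -⟩ := P_image hd hU (p := p) hp
      have h1 : (x : cQ c) * r' * (x : cQ c)⁻¹ ∈ R :=
        mem_subgroupOf.1 ((mem_normalizer_iff.1 hx ⟨r', hRC hr'⟩).1 (mem_subgroupOf.2 hr'))
      rw [← mul_assoc, ← mem_centralizer_iff.1 x.2 _ hK, mul_assoc (cπ c p), mul_assoc (cπ c p)]
      exact mul_mem ⟨p, mem_subgroupOf.2 hp.1, rfl⟩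
        (map_mono (fun w hw => mem_subgroupOf.2 (show (w : G) ∈ Qpart A c U from hw).1) h1))
    have hyx : cπ c y = (x : cQ c) := hy.trans hx0
    have hyA := mem_normalizer_A hC hU.two hU.A_le hyU
    have hyc : ∀ a ∈ A, (y : G) * a * (y : G)⁻¹ = a := fun a ha => by
      let a' : ↥(cH c) := ⟨a, A_le_cH hd.cent ha⟩
      have h1 : (y : G) * a * (y : G)⁻¹ * a⁻¹ ∈ A :=
        mul_mem ((mem_normalizer_iff.1 hyA a).1 ha) (inv_mem ha)
      have h2 := eq_one_of_image (x := y * a' * y⁻¹ * a'⁻¹) (k := 1)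
        (by rw [pow_one]; exact hC.pt.elem.2 _ h1) (by
          rw [map_mul, map_mul, map_mul, map_inv, map_inv, hyx,
            ← mem_centralizer_iff.1 x.2 _ (hd.Abar_le ⟨a', mem_subgroupOf.2 ha, rfl⟩)]
          group)
      exact mul_inv_eq_one.1 h2
    -- the moved block
    set w := u * c * u⁻¹ * c⁻¹ with hw
    have hwA : w ∈ A := (mover_trans hC hA hd hUM hu (c_mem_Q hd hU)).1
    have hc' : u * c * u⁻¹ = w * c := by rw [hw, inv_mul_cancel_right]
    have hyc' : (y : G) ∈ cH (u * c * u⁻¹) := by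
      rw [mem_centralizer_singleton_iff, hc', ← mul_assoc, mul_inv_eq_iff_eq_mul.1 (hyc w hwA),
        mul_assoc w, mem_centralizer_singleton_iff.1 y.2, ← mul_assoc]
    have hkerconj : ∀ z, z ∈ blockKer A c ↔ u * z * u⁻¹ ∈ blockKer A (u * c * u⁻¹) := by
      intro z
      rw [blockKer, blockKer, mem_fixingSubgroup_iff, mem_fixingSubgroup_iff]
      constructor
      · intro h p hp
        have h1 : u⁻¹ • p ∈ Fix A c :=
          (mem_fix_conj (g := u)).1 (by rw [smul_inv_smul]; exact hp)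
        rw [mul_smul, mul_smul, h _ h1, smul_inv_smul]
      · intro h p hp
        have h1 := h (u • p) (mem_fix_conj.2 hp)
        rw [mul_smul, mul_smul, inv_smul_smul] at h1
        exact smul_left_cancel _ h1
    set ξ := (y : G) * q * (y : G)⁻¹ with hξ
    have hξQ : ξ ∈ Qpart A c U := ⟨(mem_normalizer_iff.1 hyU _).1 hq'.1,
      conj_mem_ker (stabilises_of_le (le_refl (cH c))) y.2 hq'.2⟩
    obtain ⟨r', hr'U, hr'⟩ : ∃ r' ∈ U, u * r' * u⁻¹ = (y : G) * (u * q * u⁻¹) * (y : G)⁻¹ :=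
      ⟨u⁻¹ * ((y : G) * (u * q * u⁻¹) * (y : G)⁻¹) * u,
        (mem_normalizer_iff''.1 hu.norm _).1
          ((mem_normalizer_iff.1 hyU _).1 ((mem_normalizer_iff.1 hu.norm _).1 hq'.1)), by group⟩
    have hr'Q : r' ∈ Qpart A c U := ⟨hr'U, (hkerconj r').2 (hr' ▸
      conj_mem_ker (stabilises_of_le (le_refl (cH (u * c * u⁻¹)))) hyc' ((hkerconj _).1 hq'.2))⟩
    set a := u * (q : G) * u⁻¹ * (q : G)⁻¹ with haq
    have haA : a ∈ A := (mover_trans hC hA hd hUM hu hq').1
    have e1 : u * r' * u⁻¹ = a * ξ := by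
      rw [hr', show u * (q : G) * u⁻¹ = a * q by rw [haq, inv_mul_cancel_right], hξ]
      calc (y : G) * (a * q) * (y : G)⁻¹ = ((y : G) * a * (y : G)⁻¹) * ((y : G) * q * (y : G)⁻¹) := by
            group
        _ = _ := by rw [hyc a haA]
    set b := u * r' * u⁻¹ * r'⁻¹ with hb
    have hbA : b ∈ A := (mover_trans hC hA hd hUM hu hr'Q).1
    have e2 : b * r' = a * ξ := by rw [hb, inv_mul_cancel_right, e1]
    have e3 : r' * ξ⁻¹ = b⁻¹ * a := by
      calc r' * ξ⁻¹ = b⁻¹ * (b * r') * ξ⁻¹ := by group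
        _ = b⁻¹ * a := by rw [e2]; group
    have e4 : b⁻¹ * a = 1 :=
      A_inf_Q hC hd hUM (mul_mem (inv_mem hbA) haA) (e3 ▸ mul_mem hr'Q (inv_mem hξQ))
    have e5 : r' = ξ := mul_inv_eq_one.1 (e3.trans e4)
    have e6 : ((q : G) * r') = 1 := hu.meet _ (mul_mem hq' hr'Q) (by
      rw [show u * ((q : G) * r') * u⁻¹ = (u * q * u⁻¹) * (u * r' * u⁻¹) by group,
        show u * (q : G) * u⁻¹ = a * q by rw [haq, inv_mul_cancel_right],
        show u * r' * u⁻¹ = b * r' by rw [hb, inv_mul_cancel_right], ← inv_mul_eq_one.1 e4,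
        A_central hC hd hU hbA hq'.1, mul_assoc, ← mul_assoc b b, inv_mul_eq_one.1 e4,
        exp_two hC haA, one_mul]
      exact mul_mem hq' hr'Q)
    have e7 : (y : G) * q * (y : G)⁻¹ = q := by
      rw [← hξ, ← e5, eq_inv_of_mul_eq_one_right e6]
      exact inv_eq_of_mul_eq_one_right (by rw [← sq]; exact Q_sq hC hA hd hUM hu hq')
    refine Subtype.ext ?_
    rw [Subgroup.coe_mul, Subgroup.coe_mul, show (r : cQ c) = cπ c q from hqr.symm, ← hyx, ← map_mul,
      ← map_mul]
    exact congrArg _ (Subtype.ext (mul_inv_eq_iff_eq_mul.1 e7).symm)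
  have hcompl := MonoidHom.ker_transferSylow_isComplement' RS hnc
  set N := (MonoidHom.transferSylow RS hnc).ker
  have hodd : Odd (Nat.card N) := by
    rw [← Nat.not_even_iff_odd, even_iff_two_dvd]
    exact MonoidHom.not_dvd_card_ker_transferSylow RS hnc
  have hN : N = ⊥ := by
    have h1 : N ≤ Cfsg.oddCore C := CfsgLib.ZStar.le_oddCore inferInstance hodd
    haveI : (Cfsg.oddCore C).Characteristic := CfsgLib.Components.pPrimeCore_characteristic 2
    haveI : ((Cfsg.oddCore C).map C.subtype).Normal := inferInstance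
    have h2 : (Cfsg.oddCore C).map C.subtype ≤ Cfsg.oddCore (cQ c) :=
      CfsgLib.ZStar.le_oddCore inferInstance (by
        rw [card_map_of_injective C.subtype_injective]; exact CfsgLib.ZStar.odd_card_oddCore _)
    rw [oddCore_quotient] at h2
    exact le_bot_iff.1 ((le_bot_iff.2 ((map_eq_bot_iff_of_injective _ C.subtype_injective).1
      (le_bot_iff.1 h2))).trans' h1)
  refine le_antisymm (fun z hz => ?_) hRC
  have htop : (RS : Subgroup C) = ⊤ := by
    have := hcompl.sup_eq_top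
    rwa [hN, bot_sup_eq] at this
  exact mem_subgroupOf.1 (show (⟨z, hz⟩ : C) ∈ (RS : Subgroup C) from htop ▸ mem_top _)

/-- The centraliser of the image of `A` is the image of the top group. -/
theorem image_of_commute {z : cQ c} (hz : z ∈ centralizer (cimg c A : Set (cQ c))) :
    z ∈ cimg c U := by
  haveI := hd.normal
  have hCU : cimg c U ≤ centralizer (cimg c A : Set (cQ c)) := by
    rintro _ ⟨x, hx, rfl⟩
    refine mem_centralizer_iff.2 ?_
    rintro _ ⟨a, ha, rfl⟩
    rw [← map_mul, ← map_mul]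
    exact congrArg _ (Subtype.ext (A_central hC hd hU (mem_subgroupOf.1 ha) (mem_subgroupOf.1 hx)))
  have htwo : IsPGroup 2 (centralizer (cimg c A : Set (cQ c))) := by
    intro w
    set j := (orderOf (w : cQ c)).factorization 2
    refine ⟨j, Subtype.ext ?_⟩
    rw [SubgroupClass.coe_pow, OneMemClass.coe_one]
    set v := (w : cQ c) ^ 2 ^ j with hv
    have hvA : v ∈ centralizer (cimg c A : Set (cQ c)) := pow_mem w.2 _
    have hodd : Odd (orderOf v) := by
      rw [hv, orderOf_pow' _ (by positivity), Nat.gcd_eq_right (Nat.ordProj_dvd _ 2),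
        ← Nat.not_even_iff_odd, even_iff_two_dvd]
      exact Nat.not_dvd_ordCompl Nat.prime_two (orderOf_pos _).ne'
    have h1 : MulAut.conjNormal v = (1 : MulAut K) := eq_one_of_fix_omega hd.facts (T := T) hodd
      (by rw [← map_pow, pow_orderOf_eq_one, map_one]) fun x hxT hx2 => Subtype.ext (by
        rw [MulAut.conjNormal_apply, ← mem_centralizer_iff.1 hvA _ ((hd.omega x).2 ⟨hxT, hx2⟩),
          mul_inv_cancel_right])
    have h2 : v ∈ cimg c (Qpart A c U) := by
      rw [← ker_image hC hA hd hU]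
      refine mem_centralizer_iff.2 fun y hy => ?_
      have := congrArg Subtype.val (DFunLike.congr_fun h1 ⟨y, hy⟩)
      rw [MulAut.conjNormal_apply] at this
      exact (mul_inv_eq_iff_eq_mul.1 this).symm
    obtain ⟨i, hi⟩ := (((hU.two.to_le inf_le_left).comap_subtype (K := cH c)).map (cπ c)) ⟨v, h2⟩
    exact orderOf_eq_one_iff.1 ((Nat.Coprime.pow_right i (Nat.coprime_two_right.2 hodd)).eq_one_of_dvd
      (orderOf_dvd_of_pow_eq_one (congrArg Subtype.val hi)))
  have hle : centralizer (cimg c A : Set (cQ c)) ≤ cimg c (pM A) := by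
    rw [hd.img]; exact centralizer_le_normalizer _
  exact two_le_image hd hU htwo hCU hle ▸ hz

/-- Elements centralising `c` and `A` lie in `U` times the core. -/
theorem exists_top_mul_core {x : G} (hx : x ∈ cH c) (hxA : x ∈ centralizer (A : Set G)) :
    ∃ u ∈ U, u⁻¹ * x ∈ core c := by
  obtain ⟨v, hv, e⟩ := image_of_commute hC hA hd hU (z := cπ c ⟨x, hx⟩) (mem_centralizer_iff.2 (by
    rintro _ ⟨a, ha, rfl⟩
    rw [← map_mul, ← map_mul]
    exact congrArg _ (Subtype.ext (mem_centralizer_iff.1 hxA (a : G) (mem_subgroupOf.1 ha)))))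
  refine ⟨v, mem_subgroupOf.1 hv, ?_⟩
  have := mem_oddCore_iff.1 (QuotientGroup.eq.1 e)
  simpa using this

end CfsgLib.ThreePrime.Block
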