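import Cfsg.Agent.Lib.ThreePrime.Block.Count

/-!
Owner: helper6.  A class of bad involutions outside the base stabiliser, the number of points and a large block.

* `card_fibre`: the conjugates outside `pM` with a given witness
* `card_points`: `|G : pM A| = (q² + 1)(q²(q-1) + 1)`
* `exists_big`: some block has a top group of index `q` in a Sylow subgroup
-/

set_option autoImplicit false
set_option linter.all false

namespace CfsgLib.ThreePrime.Block

open Subgroup CfsgLib.Bender.Dichotomy CfsgLib.Signalizer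
open scoped Pointwise

universe u

local instance factTwoBlockClass : Fact (Nat.Prime 2) := ⟨Nat.prime_two⟩

section Sz

variable {X : Type u} [Group X] [Finite X] {m : ℕ}

theorem mem_of_invol_normalizer (T : Sylow 2 X) {s : X} (hs : s ^ 2 = 1)
    (hN : s ∈ normalizer ((T : Subgroup X) : Set X)) : s ∈ (T : Subgroup X) := by
  have hp : IsPGroup 2 (zpowers s) := by
    intro g
    refine ⟨1, Subtype.ext ?_⟩
    obtain ⟨i, hi⟩ := mem_zpowers_iff.1 g.2
    rw [SubgroupClass.coe_pow, pow_one, ← hi, ← zpow_natCast, ← zpow_mul, mul_comm, zpow_mul,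
      zpow_natCast, hs, one_zpow]
    rfl
  have := T.is_maximal' (T.isPGroup'.to_sup_of_normal_left' hp (zpowers_le.2 hN)) le_sup_left
  exact this ▸ mem_sup_right (mem_zpowers s)

theorem card_outside (h : SzFacts X m) (T : Sylow 2 X) :
    Nat.card {s : X // orderOf s = 2 ∧ s ∉ normalizer ((T : Subgroup X) : Set X)} =
      (2 ^ (2 * m + 1)) ^ 2 * (2 ^ (2 * m + 1) - 1) := by
  classical
  have e : {s : X // orderOf s = 2} ≃
      {s : X // orderOf s = 2 ∧ s ∉ normalizer ((T : Subgroup X) : Set X)} ⊕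
        {s : X // s ∈ (T : Subgroup X) ∧ orderOf s = 2} :=
    { toFun := fun s => if hs : (s : X) ∈ (T : Subgroup X) then Sum.inr ⟨s, hs, s.2⟩
        else Sum.inl ⟨s, s.2, fun hN => hs (mem_of_invol_normalizer T (sq_of_ord s.2) hN)⟩
      invFun := Sum.elim (fun s => ⟨s.1, s.2.1⟩) fun s => ⟨s.1, s.2.2⟩
      left_inv := fun s => by
        by_cases hs : (s : X) ∈ (T : Subgroup X) <;> simp [hs]
      right_inv := fun s => by
        rcases s with s | s
        · have : (s : X) ∉ (T : Subgroup X) := fun hs => s.2.2 (le_normalizer hs)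
          simp [this]
        · simp [s.2.1] }
  have h1 := Nat.card_congr e
  rw [Nat.card_sum, card_invol h, card_invol_sylow h, add_one_mul] at h1
  exact (Nat.add_right_cancel h1).symm

end Sz

variable {G : Type u} [Group G] [Finite G] {S : Sylow 2 G} {A : Subgroup G} {m l : ℕ}

section Fibre

variable {c : G} {K : Subgroup (cQ c)} {k : ℕ} {T : Sylow 2 K} (hC : Ctx S A) (hA : Aut A m l)
  (hd : BlockData A c K k T)
include hC hA hd

omit hA in
theorem orderOf_mul_c {a : G} (ha : a ∈ A) (ha1 : a ≠ 1) : orderOf (c * a) = 2 := by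
  refine orderOf_eq_two_of (fun h => ?_) ?_
  · refine not_isA_of_bad hC hd.bad ?_
    rw [eq_inv_of_mul_eq_one_left h, involution_inv (orderOf_A hC ha ha1)]
    exact isA_of_mem ha ha1
  · have hcomm : a * c = c * a := mem_centralizer_iff.1 hd.cent a ha
    rw [mul_assoc, ← mul_assoc a, hcomm, mul_assoc c a a, exp_two hC ha, mul_one,
      involution_sq hd.bad.ord]

omit hA in
/-- An involution of the component is conjugate to the image of a given element of `A`. -/
theorem exists_conj_given {s : K} (hs : orderOf s = 2) {b : ↥(cH c)} (hb : (b : G) ∈ A)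
    (hb1 : (b : G) ≠ 1) : ∃ y : ↥(cH c), cπ c y * cπ c b * (cπ c y)⁻¹ = (s : cQ c) := by
  obtain ⟨T', hT'⟩ := exists_sylow hd.facts (sq_of_ord hs)
  obtain ⟨g, hg⟩ := MulAction.exists_smul_eq K T T'
  have h := conj_mem_sylow (show g⁻¹ • T' = T by rw [← hg, inv_smul_smul]) hT'
  rw [inv_inv] at h
  have hbK : cπ c b ∈ K := hd.Abar_le ⟨b, mem_subgroupOf.2 hb, rfl⟩
  obtain ⟨hbT, hb2⟩ := (hd.omega ⟨_, hbK⟩).1 ⟨b, mem_subgroupOf.2 hb, rfl⟩
  obtain ⟨n, -, hn⟩ := hd.facts.trans T ⟨_, hbK⟩ hbT (g⁻¹ * s * g) h hb2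
    (fun e => hb1 (eq_one_of_image (x := b) (k := 1) (by rw [pow_one]; exact hC.pt.elem.2 _ hb)
      (congrArg Subtype.val e)))
    (by
      have e := conj_pow (i := 2) (a := g⁻¹) (b := s)
      rw [inv_inv] at e
      rw [e, sq_of_ord hs, mul_one, inv_mul_cancel])
    (fun e => by
      have : s = 1 := by
        have e' := congrArg (fun z => g * z * g⁻¹) e
        simpa [mul_assoc] using e'
      rw [this, orderOf_one] at hs
      omega)
  obtain ⟨y, hy⟩ := QuotientGroup.mk'_surjective (Cfsg.oddCore ↥(cH c)) ((g * n : K) : cQ c)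
  refine ⟨y, ?_⟩
  rw [hy]
  have := congrArg (fun z : K => ((g * z * g⁻¹ : K) : cQ c)) hn
  simp only [Subgroup.coe_mul, Subgroup.coe_inv] at this ⊢
  simpa [mul_assoc] using this

/-- The involutions over the witness times a component involution form one orbit. -/
theorem card_over {s : K} (hs : orderOf s = 2) {b : G} (hb : b ∈ A) (hb1 : b ≠ 1) :
    (∀ x : ↥(cH c), orderOf (x : G) = 2 → cπ c x = cπ c ⟨c, c_mem_cH c⟩ * s →
        IsConj ((x : G)) c) ∧
      Nat.card {x : ↥(cH c) // orderOf (x : G) = 2 ∧ cπ c x = cπ c ⟨c, c_mem_cH c⟩ * s} =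
        Nat.card (cOrbit (core c) (c * b)) := by
  let b' : ↥(cH c) := ⟨b, A_le_cH hd.cent hb⟩
  obtain ⟨y, hy⟩ := exists_conj_given hC hd hs (b := b') hb hb1
  let z : ↥(cH c) := ⟨c, c_mem_cH c⟩
  let x0 : ↥(cH c) := y * (z * b') * y⁻¹
  have hx0 : cπ c x0 = cπ c z * s := by
    rw [map_mul, map_mul, map_inv, map_mul, ← mul_assoc (cπ c y), ← image_central c (cπ c y), ← hy]
    simp only [mul_assoc]
    rfl
  have hx02 : orderOf (x0 : G) = 2 := by
    show orderOf ((y : G) * (c * b) * (y : G)⁻¹) = 2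
    rw [CfsgLib.Signalizer.orderOf_conj]
    exact orderOf_mul_c hC hd hb hb1
  have hkey : ∀ x : ↥(cH c), orderOf (x : G) = 2 → cπ c x = cπ c z * s →
      ∃ r ∈ core c, r * (x0 : G) * r⁻¹ = x := fun x hx he =>
    exists_conj_of_image hx02 hx (hx0.trans he.symm)
  refine ⟨fun x hx he => ?_, ?_⟩
  · obtain ⟨r, -, e⟩ := hkey x hx he
    obtain ⟨g, -, hg⟩ := exists_translate hC hA hd.bad hd.cent hb
    rw [mem_centralizer_iff.1 hd.cent b hb] at hg
    exact (isConj_iff.2 ⟨r * y * g, by rw [← e]; show _ = r * ((y : G) * (c * b) * (y : G)⁻¹) * r⁻¹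
                                       rw [← hg]; group⟩ : IsConj c (x : G)).symm
  · have h1 : Nat.card {x : ↥(cH c) // orderOf (x : G) = 2 ∧ cπ c x = cπ c z * s} =
        Nat.card (cOrbit (core c) (x0 : G)) := by
      refine Nat.card_congr
        { toFun := fun x => ⟨x.1, hkey x.1 x.2.1 x.2.2⟩
          invFun := fun x => ⟨⟨x.1, ?_⟩, ?_, ?_⟩
          left_inv := fun x => rfl
          right_inv := fun x => rfl }
      · obtain ⟨r, hr, e⟩ := x.2
        exact e ▸ (cH c).mul_mem ((cH c).mul_mem (core2_le c hr) x0.2) ((cH c).inv_mem (core2_le c hr))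
      · obtain ⟨r, hr, e⟩ := x.2
        show orderOf (x : G) = 2
        rw [← e, CfsgLib.Signalizer.orderOf_conj, hx02]
      · obtain ⟨r, hr, e⟩ := x.2
        rw [← hx0]
        let r' : ↥(cH c) := ⟨r, core2_le c hr⟩
        have e' : (⟨(x : G), e ▸ (cH c).mul_mem ((cH c).mul_mem (core2_le c hr) x0.2)
            ((cH c).inv_mem (core2_le c hr))⟩ : ↥(cH c)) = r' * x0 * r'⁻¹ := Subtype.ext e.symm
        rw [e', map_mul, map_mul, map_inv,
          show cπ c r' = 1 from (QuotientGroup.eq_one_iff _).2 (mem_oddCore_iff.2 hr), one_mul, inv_one,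
          mul_one]
    rw [h1]
    have e1 := card_orbit_mul (core c) (x0 : G)
    have e2 := card_orbit_mul (core c) (c * b)
    have hyN : (y : G) ∈ normalizer (core c : Set G) :=
      mem_normalizer_of_cj (eq_of_le_of_card_ge (cj_le_iff.2 fun r hr => core_conj hd y.2 hr) (card_cj _ _).ge)
    rw [show (x0 : G) = (y : G) * (c * b) * (y : G)⁻¹ from rfl, card_inf_cent_conj hyN] at e1
    exact Nat.eq_of_mul_eq_mul_right Nat.card_pos (e1.trans e2.symm)

omit hA in
/-- The witness of an involution over `c` times an outside component involution is `c`. -/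
theorem wit_eq {t : ↥(cH c)} {s : K} (hs : orderOf s = 2)
    (hsN : s ∉ normalizer ((T : Subgroup K) : Set K)) (ht : orderOf (t : G) = 2)
    (hts : cπ c t = cπ c ⟨c, c_mem_cH c⟩ * s) {b : G} (hb : b ∈ A) (hb1 : b ≠ 1) :
    Even (orderOf ((t : G) * b)) ∧ wit (t : G) b = c := by
  haveI := hd.normal
  let b' : ↥(cH c) := ⟨b, A_le_cH hd.cent hb⟩
  set z := cπ c ⟨c, c_mem_cH c⟩ with hz
  have hbK : cπ c b' ∈ K := hd.Abar_le ⟨b', mem_subgroupOf.2 hb, rfl⟩
  set a : K := ⟨cπ c b', hbK⟩ with ha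
  obtain ⟨haT, ha2⟩ := (hd.omega a).1 ⟨b', mem_subgroupOf.2 hb, rfl⟩
  have ha1 : a ≠ 1 := fun e => hb1 (eq_one_of_image (x := b') (k := 1)
    (by rw [pow_one]; exact hC.pt.elem.2 _ hb) (congrArg Subtype.val e))
  have hz2 : z ^ 2 = 1 := by
    rw [hz, ← map_pow, show (⟨c, c_mem_cH c⟩ : ↥(cH c)) ^ 2 = 1 from
      Subtype.ext (sq_of_ord hd.bad.ord), map_one]
  have hpow : ∀ j : ℕ, cπ c ((t * b') ^ j) = z ^ j * ((s * a) ^ j : K) := fun j => by
    rw [map_pow, map_mul, hts, mul_assoc, (show Commute z ((s : cQ c) * cπ c b') from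
      image_central c _).mul_pow]
    rfl
  have hd2 : ∀ j : ℕ, z ^ j ∈ K → Even j := fun j hj => by
    rw [Nat.even_iff]
    by_contra h
    obtain ⟨i, rfl⟩ : ∃ i, j = 2 * i + 1 := ⟨j / 2, by omega⟩
    rw [pow_succ, pow_mul, hz2, one_pow, one_mul] at hj
    exact image_c_not_mem hd hj
  -- a power of `s a` commuting with both factors is trivial
  have hfree : ∀ v : K, v ^ 2 = 1 → Commute v s → Commute v a → v = 1 := by
    intro v hv2 hvs hva
    by_contra hv1
    have hvT := hd.facts.cent_invol T a haT ha2 ha1 (mem_centralizer_singleton_iff.2 hva.eq)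
    exact hsN (le_normalizer (hd.facts.cent_invol T v hvT hv2 hv1
      (mem_centralizer_singleton_iff.2 hvs.eq.symm)))
  have he : Even (orderOf ((t : G) * b)) := by
    refine hd2 _ ?_
    have h := hpow (orderOf ((t : G) * b))
    rw [show (t * b') ^ orderOf ((t : G) * b) = 1 from Subtype.ext (pow_orderOf_eq_one _), map_one] at h
    rw [← inv_eq_of_mul_eq_one_left h.symm]
    exact K.inv_mem (Subtype.mem _)
  obtain ⟨h1, h2, h3⟩ := central_involution ht (orderOf_A hC hb hb1) he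
  refine ⟨he, ?_⟩
  set h := orderOf ((t : G) * b) / 2 with hh
  have hx2 : ((t * b') ^ h) ^ 2 = 1 := Subtype.ext (sq_of_ord h1)
  have hw := hpow h
  set v : K := (s * a) ^ h with hv
  have hcomm : ∀ u : ↥(cH c), Commute ((t * b') ^ h) u → Commute (cπ c ((t * b') ^ h)) (cπ c u) :=
    fun u hu => hu.map _
  have hv1 : v = 1 := by
    refine hfree v ?_ ?_ ?_
    · refine Subtype.ext ?_
      have h4 : (cπ c ((t * b') ^ h)) ^ 2 = 1 := by rw [← map_pow, hx2, map_one]
      rw [hw, (show Commute (z ^ h) (v : cQ c) from (Commute.pow_left (image_central c _) h)).mul_pow,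
        ← pow_mul, mul_comm h, pow_mul, hz2, one_pow, one_mul] at h4
      rw [SubgroupClass.coe_pow]
      exact h4
    · have h4 : Commute (cπ c ((t * b') ^ h)) (cπ c t) := hcomm t (Subtype.ext h2.eq)
      refine Subtype.ext ?_
      rw [Subgroup.coe_mul, Subgroup.coe_mul]
      have h5 : Commute (v : cQ c) (cπ c t) := by
        have h6 : Commute (z ^ h)⁻¹ (cπ c t) := (Commute.pow_left (image_central c _) h).inv_left
        have h7 := h6.mul_left h4
        rwa [hw, inv_mul_cancel_left] at h7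
      rw [hts] at h5
      have h8 := (show Commute z (v : cQ c) from image_central c _).symm.inv_right.mul_right h5
      rwa [inv_mul_cancel_left] at h8
    · have h4 : Commute (cπ c ((t * b') ^ h)) (cπ c b') := hcomm b' (Subtype.ext h3.eq)
      refine Subtype.ext ?_
      rw [Subgroup.coe_mul, Subgroup.coe_mul]
      have h6 : Commute (z ^ h)⁻¹ (cπ c b') := (Commute.pow_left (image_central c _) h).inv_left
      have h7 := h6.mul_left h4
      rwa [hw, inv_mul_cancel_left] at h7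
  rw [hv1, OneMemClass.coe_one, mul_one] at hw
  rcases Nat.even_or_odd h with ⟨i, hi⟩ | ⟨i, hi⟩
  · exfalso
    have e : z ^ h = 1 := by rw [hi, ← two_mul, pow_mul, hz2, one_pow]
    rw [e] at hw
    have := eq_one_of_image (x := (t * b') ^ h) (k := 1) (by
      rw [pow_one]
      exact congrArg Subtype.val hx2) hw
    rw [SubgroupClass.coe_pow, Subgroup.coe_mul] at this
    exact involution_ne_one h1 this
  · have hzh : z ^ h = z := by rw [hi, pow_succ, pow_mul, hz2, one_pow, one_mul]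
    rw [hzh] at hw
    have hcc : Commute (((t : G) * b) ^ h) c :=
      (mem_centralizer_singleton_iff.1 ((t * b') ^ h).2 : _)
    have := eq_one_of_image (x := (t * b') ^ h * ⟨c, c_mem_cH c⟩) (k := 1) (by
      rw [pow_one, Subgroup.coe_mul, SubgroupClass.coe_pow, Subgroup.coe_mul]
      show (((t : G) * b) ^ h * c) ^ 2 = 1
      rw [hcc.mul_pow, sq_of_ord h1, sq_of_ord hd.bad.ord, one_mul]) (by
      rw [map_mul, hw, ← hz, ← sq, hz2])
    rw [Subgroup.coe_mul, SubgroupClass.coe_pow, Subgroup.coe_mul] at this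
    exact (eq_inv_of_mul_eq_one_left this).trans (involution_inv hd.bad.ord)

omit hA in
theorem mem_out {t : ↥(cH c)} {s : K} (hsN : s ∉ normalizer ((T : Subgroup K) : Set K))
    (hts : cπ c t = cπ c ⟨c, c_mem_cH c⟩ * s) : (t : G) ∉ pM A := by
  intro htM
  refine hsN ((hd.stab s).1 ?_)
  have h1 : cπ c t ∈ cimg c (pM A) := ⟨t, mem_subgroupOf.2 htM, rfl⟩
  have h2 : cπ c ⟨c, c_mem_cH c⟩ ∈ cimg c (pM A) := ⟨_, mem_subgroupOf.2 hd.bad.mem, rfl⟩
  have := mul_mem (inv_mem h2) h1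
  rwa [hts, inv_mul_cancel_left] at this

/-- The conjugates outside `pM` with witness `c`. -/
theorem card_fibre_cent {c0 : G} (hc0 : Bad A c0) (hconj : IsConj c0 c) {b : G} (hb : b ∈ A)
    (hb1 : b ≠ 1) :
    Nat.card {t : G // IsConj c0 t ∧ t ∉ pM A ∧ wit t b = c} =
      (Nat.card A) ^ 2 * (Nat.card A - 1) * Nat.card (cOrbit (core c) (c * b)) := by
  classical
  set z := cπ c ⟨c, c_mem_cH c⟩ with hz
  let I := {s : K // orderOf s = 2 ∧ s ∉ normalizer ((T : Subgroup K) : Set K)}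
  let F := {t : G // IsConj c0 t ∧ t ∉ pM A ∧ wit t b = c}
  have hF : ∀ t : F, ∃ (h : (t : G) ∈ cH c) (s : I), cπ c ⟨t, h⟩ = z * (s.1 : cQ c) := by
    rintro ⟨t, htc, htM, htw⟩
    have htA : ¬ IsA A t := fun h => by
      obtain ⟨g, rfl⟩ := isConj_iff.1 htc
      exact not_isA_of_bad hC hc0 (by have := h.conj g⁻¹; rwa [inv_inv, show g⁻¹ * (g * c0 * g⁻¹) * g = c0
        by group] at this)
    have ht2 : orderOf t = 2 := by
      obtain ⟨g, rfl⟩ := isConj_iff.1 htc
      rw [CfsgLib.Signalizer.orderOf_conj, hc0.ord]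
    obtain ⟨-, hwt, -⟩ := wit_spec hC ht2 htM htA hb hb1
    rw [htw] at hwt
    have htH : t ∈ cH c := mem_centralizer_singleton_iff.2 hwt.eq.symm
    obtain ⟨s, hs2, hsN, hts⟩ := exists_component_form hC hd (t := ⟨t, htH⟩)
      (b := ⟨b, A_le_cH hd.cent hb⟩) ht2 htM (isA_of_mem hb hb1) (mem_sup_left (le_normalizer hb)) htw
    exact ⟨htH, ⟨s, orderOf_eq_prime hs2 (fun e => hsN (e ▸ one_mem _)), hsN⟩, hts⟩
  choose hmem f hf using hF
  haveI := Fintype.ofFinite I
  haveI := Fintype.ofFinite F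
  have hfib : ∀ s : I, Nat.card {t : F // f t = s} = Nat.card (cOrbit (core c) (c * b)) := by
    intro s
    obtain ⟨h1, h2⟩ := card_over hC hA hd s.2.1 hb hb1
    rw [← h2]
    refine Nat.card_congr
      { toFun := fun t => ⟨⟨t.1, hmem t.1⟩, ?_, ?_⟩
        invFun := fun x => ⟨⟨x.1, hconj.trans (h1 x.1 x.2.1 x.2.2).symm, mem_out hC hd s.2.2 x.2.2,
          (wit_eq hC hd s.2.1 s.2.2 x.2.1 x.2.2 hb hb1).2⟩, ?_⟩
        left_inv := fun t => rfl
        right_inv := fun x => rfl }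
    · obtain ⟨g, hg⟩ := isConj_iff.1 t.1.2.1
      show orderOf (t.1 : G) = 2
      rw [← hg, CfsgLib.Signalizer.orderOf_conj, hc0.ord]
    · rw [hf t.1, t.2]
    · refine Subtype.ext (Subtype.ext (mul_left_cancel (a := z) ?_))
      rw [← hf]
      exact x.2.2
  have h3 := card_outside hd.facts T
  rw [← hd.qA] at h3
  rw [← Nat.card_congr (Equiv.sigmaFiberEquiv f), Nat.card_sigma, Finset.sum_congr rfl (fun s _ => hfib s),
    Finset.sum_const, Finset.card_univ, smul_eq_mul, ← Nat.card_eq_fintype_card, h3]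

end Fibre

variable (hC : Ctx S A) (hA : Aut A m l)
include hC hA

theorem card_fibre {c0 w b : G} (hc0 : Bad A c0) (hw : IsConj c0 w) (hwM : w ∈ pM A) (hb : b ∈ A)
    (hb1 : b ≠ 1) (hwb : Commute w b) :
    Nat.card {t : G // IsConj c0 t ∧ t ∉ pM A ∧ wit t b = w} =
      (Nat.card A) ^ 2 * (Nat.card A - 1) * Nat.card (cOrbit (core w) (w * b)) := by
  have hwbad : Bad A w := by
    obtain ⟨g, rfl⟩ := isConj_iff.1 hw
    obtain ⟨μ, hμ, e⟩ := conj_in_pM hC hc0.mem hwM (isPGroup_of_invol hc0.ord) rfl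
    exact e ▸ bad_conj hC hc0 hμ
  obtain ⟨μ, hμ, hb', hw', hwA⟩ := exists_conj_pair hC hwbad hb hb1 hwb
  obtain ⟨K, k, T, hd⟩ := exists_blockData hC hw' hwA
  have key := card_fibre_cent hC hA hd hc0 (hw.trans (isConj_iff.2 ⟨μ, rfl⟩)) hb'
    (fun e => hb1 (conj_eq_one_iff.1 e))
  have e1 : Nat.card (cOrbit (core (μ * w * μ⁻¹)) (μ * w * μ⁻¹ * (μ * b * μ⁻¹))) =
      Nat.card (cOrbit (core w) (w * b)) := by
    rw [show core (μ * w * μ⁻¹) = cj μ (core w) from core2_conj w μ,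
      show μ * w * μ⁻¹ * (μ * b * μ⁻¹) = μ * (w * b) * μ⁻¹ by group]
    refine Nat.card_congr
      { toFun := fun y => ⟨μ⁻¹ * y * μ, ?_⟩
        invFun := fun y => ⟨μ * y * μ⁻¹, ?_⟩
        left_inv := fun y => Subtype.ext (by group)
        right_inv := fun y => Subtype.ext (by group) }
    · obtain ⟨_, ⟨r, hr, rfl⟩, e⟩ := y.2
      refine ⟨r, hr, ?_⟩
      rw [← e]
      show _ = μ⁻¹ * ((μ * r * μ⁻¹) * (μ * (w * b) * μ⁻¹) * (μ * r * μ⁻¹)⁻¹) * μ
      group
    · obtain ⟨r, hr, e⟩ := y.2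
      refine ⟨μ * r * μ⁻¹, ⟨r, hr, rfl⟩, ?_⟩
      rw [← e]
      group
  rw [← e1, ← key]
  refine Nat.card_congr
    { toFun := fun t => ⟨μ * t * μ⁻¹, t.2.1.trans (isConj_iff.2 ⟨μ, rfl⟩), fun h => t.2.2.1 (by
          have := mul_mem (mul_mem (inv_mem hμ) h) hμ
          rwa [show μ⁻¹ * (μ * (t : G) * μ⁻¹) * μ = t by group] at this),
        by rw [wit_conj, t.2.2.2]⟩
      invFun := fun t => ⟨μ⁻¹ * t * μ, t.2.1.trans (isConj_iff.2 ⟨μ⁻¹, by rw [inv_inv]⟩), fun h => t.2.2.1 (by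
          have := mul_mem (mul_mem hμ h) (inv_mem hμ)
          rwa [show μ * (μ⁻¹ * (t : G) * μ) * μ⁻¹ = t by group] at this), by
        have h := wit_conj μ⁻¹ (t : G) (μ * b * μ⁻¹)
        rw [inv_inv, t.2.2.2, show μ⁻¹ * (μ * b * μ⁻¹) * μ = b by group,
          show μ⁻¹ * (μ * w * μ⁻¹) * μ = w by group] at h
        exact h⟩
      left_inv := fun t => Subtype.ext (by group)
      right_inv := fun t => Subtype.ext (by group) }

/-- A class of bad involutions outside the stabiliser. -/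
theorem card_class {c0 : G} (hc0 : Bad A c0) :
    Nat.card {t : G // IsConj c0 t ∧ t ∉ pM A} =
      (Nat.card A) ^ 2 * (Nat.card A - 1) * Nat.card {x : G // IsConj c0 x ∧ x ∈ pM A} := by
  classical
  obtain ⟨b, hb, hb1⟩ := exists_ne_one_A hC
  let W := {w : G // IsConj c0 w ∧ w ∈ pM A ∧ Commute w b}
  let F := {t : G // IsConj c0 t ∧ t ∉ pM A}
  haveI := Fintype.ofFinite W
  have hspec : ∀ t : F, IsConj c0 (wit (t : G) b) ∧ Bad A (wit (t : G) b) ∧ Commute (wit (t : G) b) b := by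
    rintro ⟨t, htc, htM⟩
    have htA : ¬ IsA A t := fun h => by
      obtain ⟨g, rfl⟩ := isConj_iff.1 htc
      exact not_isA_of_bad hC hc0 (by have := h.conj g⁻¹; rwa [inv_inv, show g⁻¹ * (g * c0 * g⁻¹) * g = c0
        by group] at this)
    have ht2 : orderOf t = 2 := by
      obtain ⟨g, rfl⟩ := isConj_iff.1 htc
      rw [CfsgLib.Signalizer.orderOf_conj, hc0.ord]
    obtain ⟨hwb, hwt, hwc⟩ := wit_spec hC ht2 htM htA hb hb1
    refine ⟨?_, hwb, hwc⟩
    -- transport to a centralising involution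
    obtain ⟨μ, hμ, hb', hw', hwA⟩ := exists_conj_pair hC hwb hb hb1 hwc
    obtain ⟨K, k, T, hd⟩ := exists_blockData hC hw' hwA
    set t' := μ * t * μ⁻¹ with ht'
    have ht'H : t' ∈ cH (μ * wit t b * μ⁻¹) :=
      mem_centralizer_singleton_iff.2 ((Commute.conj_iff μ).2 hwt.symm).eq
    have ht'2 : orderOf t' = 2 := by rw [ht', CfsgLib.Signalizer.orderOf_conj, ht2]
    have ht'M : t' ∉ pM A := fun h => htM (by
      have := mul_mem (mul_mem (inv_mem hμ) h) hμ
      rwa [ht', show μ⁻¹ * (μ * t * μ⁻¹) * μ = t by group] at this)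
    obtain ⟨s, hs, hsN, hts⟩ := exists_component_form hC hd (t := ⟨t', ht'H⟩)
      (b := ⟨μ * b * μ⁻¹, A_le_cH hwA hb'⟩) ht'2 ht'M ((isA_of_mem hb hb1).conj μ)
      (mem_sup_left (le_normalizer hb')) (k := orderOf (t * b) / 2) (by
        show (μ * t * μ⁻¹ * (μ * b * μ⁻¹)) ^ (orderOf (t * b) / 2) = μ * wit t b * μ⁻¹
        rw [show μ * t * μ⁻¹ * (μ * b * μ⁻¹) = μ * (t * b) * μ⁻¹ by group, conj_pow, wit])
    have hb1' : μ * b * μ⁻¹ ≠ 1 := fun e => hb1 (conj_eq_one_iff.1 e)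
    have h1 := (card_over hC hA hd (orderOf_eq_prime hs fun e => hsN (e ▸ one_mem _)) hb' hb1').1
      ⟨t', ht'H⟩ ht'2 hts
    exact (htc.trans (isConj_iff.2 ⟨μ, rfl⟩)).trans (h1.trans (isConj_iff.2 ⟨μ, rfl⟩ :
      IsConj (wit t b) (μ * wit t b * μ⁻¹)).symm)
  let f : F → W := fun t => ⟨wit t b, (hspec t).1, (hspec t).2.1.mem, (hspec t).2.2⟩
  rw [card_class_mem hC hA hc0 hb hb1, Finset.mul_sum, ← Nat.card_congr (Equiv.sigmaFiberEquiv f),
    Nat.card_sigma]
  refine Finset.sum_congr rfl fun w _ => ?_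
  rw [← card_fibre hC hA hc0 w.2.1 w.2.2.1 hb hb1 w.2.2.2]
  exact Nat.card_congr
    { toFun := fun t => ⟨t.1.1, t.1.2.1, t.1.2.2, congrArg Subtype.val t.2⟩
      invFun := fun t => ⟨⟨t.1, t.2.1, t.2.2.1⟩, Subtype.ext t.2.2.2⟩
      left_inv := fun t => rfl
      right_inv := fun t => rfl }

/-- The number of points. -/
theorem card_points :
    Nat.card (Pts A) = (Nat.card A ^ 2 + 1) * (Nat.card A ^ 2 * (Nat.card A - 1) + 1) := by
  classical
  obtain ⟨c0, hc0, -⟩ := hC.ex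
  let Cls := {t : G // IsConj c0 t}
  haveI := Fintype.ofFinite Cls
  haveI := Fintype.ofFinite (Pts A)
  have hsplit : Nat.card Cls =
      Nat.card {x : G // IsConj c0 x ∧ x ∈ pM A} + Nat.card {x : G // IsConj c0 x ∧ x ∉ pM A} := by
    rw [← Nat.card_sum]
    exact Nat.card_congr
      { toFun := fun t => if h : (t : G) ∈ pM A then Sum.inl ⟨t, t.2, h⟩ else Sum.inr ⟨t, t.2, h⟩
        invFun := Sum.elim (fun t => ⟨t.1, t.2.1⟩) fun t => ⟨t.1, t.2.1⟩
        left_inv := fun t => by by_cases h : (t : G) ∈ pM A <;> simp [h]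
        right_inv := fun t => by
          rcases t with t | t
          · simp [t.2.2]
          · simp [t.2.2] }
  have h1 : ∀ t : Cls, Nat.card (Fix A (t : G)) = Nat.card A ^ 2 + 1 := fun t => by
    obtain ⟨g, hg⟩ := isConj_iff.1 t.2
    rw [← hg, card_fix_conj, card_fix_bad hC hc0]
  have h2 : ∀ p : Pts A, Nat.card {t : Cls // (t : G) • p = p} =
      Nat.card {x : G // IsConj c0 x ∧ x ∈ pM A} := by
    intro p
    obtain ⟨g, rfl⟩ := QuotientGroup.mk_surjective p
    refine Nat.card_congr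
      { toFun := fun t => ⟨g⁻¹ * (t.1 : G) * g, t.1.2.trans (isConj_iff.2 ⟨g⁻¹, by rw [inv_inv]⟩),
          mk_mem_fix_iff.1 t.2⟩
        invFun := fun x => ⟨⟨g * x * g⁻¹, x.2.1.trans (isConj_iff.2 ⟨g, rfl⟩)⟩,
          mk_mem_fix_iff.2 (by
            show g⁻¹ * (g * (x : G) * g⁻¹) * g ∈ pM A
            rw [show g⁻¹ * (g * (x : G) * g⁻¹) * g = x by group]
            exact x.2.2)⟩
        left_inv := fun t => Subtype.ext (Subtype.ext (by group))
        right_inv := fun x => Subtype.ext (by group) }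
  have key : Nat.card Cls * (Nat.card A ^ 2 + 1) =
      Nat.card (Pts A) * Nat.card {x : G // IsConj c0 x ∧ x ∈ pM A} := by
    have e : (Σ t : Cls, Fix A (t : G)) ≃ Σ p : Pts A, {t : Cls // (t : G) • p = p} :=
      { toFun := fun x => ⟨x.2.1, x.1, x.2.2⟩
        invFun := fun x => ⟨x.2.1, x.1, x.2.2⟩
        left_inv := fun x => rfl
        right_inv := fun x => rfl }
    have := Nat.card_congr e
    rw [Nat.card_sigma, Nat.card_sigma, Finset.sum_congr rfl (fun t _ => h1 t),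
      Finset.sum_congr rfl (fun p _ => h2 p), Finset.sum_const, Finset.sum_const, Finset.card_univ,
      Finset.card_univ, smul_eq_mul, smul_eq_mul, ← Nat.card_eq_fintype_card,
      ← Nat.card_eq_fintype_card] at this
    exact this
  rw [hsplit, card_class hC hA hc0] at key
  haveI : Nonempty {x : G // IsConj c0 x ∧ x ∈ pM A} := ⟨⟨c0, IsConj.refl _, hc0.mem⟩⟩
  have hpos : 0 < Nat.card {x : G // IsConj c0 x ∧ x ∈ pM A} := Nat.card_pos
  refine Nat.eq_of_mul_eq_mul_right hpos (key.symm.trans ?_)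
  ring

omit hA in
theorem card_top {c : G} {K : Subgroup (cQ c)} {k : ℕ} {T : Sylow 2 K} (hd : BlockData A c K k T)
    {U : Subgroup G} (hU : IsTop A c U) :
    Nat.card U = Nat.card A ^ 2 * Nat.card (Qpart A c U) := by
  rw [← card_P hd hU, ← Nat.card_prod]
  refine (Nat.card_congr (Equiv.ofBijective
    (fun x : Ppart c K U × Qpart A c U => (⟨x.1 * x.2, U.mul_mem x.1.2.1 x.2.2.1⟩ : U)) ⟨?_, ?_⟩)).symm
  · intro x y e
    have e' : (x.1 : G) * x.2 = y.1 * y.2 := congrArg Subtype.val e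
    have h : (y.1 : G)⁻¹ * x.1 = y.2 * (x.2 : G)⁻¹ := by
      calc (y.1 : G)⁻¹ * x.1 = (y.1 : G)⁻¹ * (x.1 * x.2) * (x.2 : G)⁻¹ := by group
        _ = _ := by rw [e']; group
    have h1 := P_inf_Q hd hU (mul_mem (inv_mem y.1.2) x.1.2) (h ▸ mul_mem y.2.2 (inv_mem x.2.2))
    have h2 : (y.1 : G) = x.1 := inv_mul_eq_one.1 h1
    exact Prod.ext (Subtype.ext h2.symm) (Subtype.ext (by rw [h2] at e'; exact mul_left_cancel e'))
  · rintro ⟨u, hu⟩
    obtain ⟨p, hp, q, hq, rfl⟩ := exists_P_mul_Q hd hU hu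
    exact ⟨(⟨p, hp⟩, ⟨q, hq⟩), rfl⟩

theorem dvd_trans_card {c : G} {K : Subgroup (cQ c)} {k : ℕ} {T : Sylow 2 K} (hd : BlockData A c K k T)
    {U : Subgroup G} (hU : IsTop A c U) : Nat.card A * Nat.card U ∣ Nat.card (trans A c U) := by
  have hM := top_isMax hC hA hd.bad hd.cent hU
  obtain ⟨u, hu⟩ := exists_mover hC hA hd hM
  have hUA := top_le_centralizer hC hA hU
  have hcQ := c_mem_Q hd hU
  have hUt : U ≤ trans A c U := fun v hv => ⟨(hU.le hv).2, le_normalizer hv, hUA hv, fun w hw => by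
    obtain ⟨p, hp, q, hq, rfl⟩ := exists_P_mul_Q hd hU hv
    rw [show p * q * w * (p * q)⁻¹ = p * (q * w * q⁻¹) * p⁻¹ by group,
      Q_comm hC hA hd hM hu hq hw, mul_inv_cancel_right, P_comm_Q hd hU hp hw, mul_inv_cancel_right,
      mul_inv_cancel]
    exact one_mem _⟩
  let ev : trans A c U →* A := MonoidHom.mk' (fun g => ⟨g * c * (g : G)⁻¹ * c⁻¹, g.2.2.2.2 c hcQ⟩)
    fun g h => Subtype.ext (by
      show (g : G) * h * c * ((g : G) * h)⁻¹ * c⁻¹ = (g * c * (g : G)⁻¹ * c⁻¹) * (h * c * (h : G)⁻¹ * c⁻¹)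
      rw [show (g : G) * h * c * ((g : G) * h)⁻¹ * c⁻¹ =
        (g : G) * ((h : G) * c * (h : G)⁻¹ * c⁻¹) * (g : G)⁻¹ * (g * c * (g : G)⁻¹ * c⁻¹) by group,
        commute_of_mem_cent (h.2.2.2.2 c hcQ) g.2.2.2.1]
      exact (elementary_comm hC.pt.elem (h.2.2.2.2 c hcQ) (g.2.2.2.2 c hcQ)))
  have hsurj : Function.Surjective ev := by
    rintro ⟨a, ha⟩
    obtain ⟨g, hg, e⟩ := exists_trans hC hA hd hM hcQ (involution_ne_one hd.bad.ord) ha
    refine ⟨⟨g, hg⟩, Subtype.ext ?_⟩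
    show g * c * g⁻¹ * c⁻¹ = a
    rw [e, mul_inv_cancel_right]
  rw [← ev.ker.index_mul_card, index_ker, MonoidHom.range_eq_top.2 hsurj, Subgroup.card_top]
  refine Nat.mul_dvd_mul_left _ ?_
  rw [← Nat.card_congr (subgroupOfEquivOfLe hUt).toEquiv]
  refine card_dvd_of_le fun x hx => ?_
  rw [MonoidHom.mem_ker]
  refine Subtype.ext ?_
  show (x : G) * c * (x : G)⁻¹ * c⁻¹ = 1
  rw [mem_centralizer_singleton_iff.1 (hU.le (mem_subgroupOf.1 hx)).1, mul_inv_cancel_right,
    mul_inv_cancel]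

theorem mul_card_le {c : G} {K : Subgroup (cQ c)} {k : ℕ} {T : Sylow 2 K} (hd : BlockData A c K k T)
    {U : Subgroup G} (hU : IsTop A c U) : Nat.card A * Nat.card U ≤ Nat.card (S : Subgroup G) := by
  obtain ⟨i, hi⟩ := IsPGroup.iff_card.1 (isPGroup_A hC)
  obtain ⟨j, hj⟩ := IsPGroup.iff_card.1 hU.two
  refine Nat.le_of_dvd Nat.card_pos ?_
  have h := (dvd_trans_card hC hA hd hU).trans (card_subgroup_dvd_card _)
  rw [hi, hj, ← pow_add] at h ⊢
  exact S.pow_dvd_card_of_pow_dvd_card h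

/-- A two point two-stabiliser lies in a kernel part. -/
theorem exists_kernel_of_stab {V : Subgroup G} (hVS : V ≤ (S : Subgroup G)) (hV : V ≠ ⊥) {p : Pts A}
    (hp : p ≠ base A) (hfix : ∀ v ∈ V, v • p = p) :
    ∃ (c : G) (U : Subgroup G), Bad A c ∧ c ∈ centralizer (A : Set G) ∧ c ∈ V ∧ IsTop A c U ∧
      A ≤ U ∧ V ≤ Qpart A c U := by
  have hVp : IsPGroup 2 V := S.isPGroup'.to_le hVS
  haveI : Nontrivial V := (Subgroup.nontrivial_iff_ne_bot V).2 hV
  haveI := hVp.center_nontrivial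
  obtain ⟨z, hz⟩ := exists_prime_orderOf_dvd_card' (G := center V) 2 (by
    rcases (hVp.to_subgroup (center V)).card_eq_or_dvd with h | h
    · exact absurd h (Finite.one_lt_card).ne'
    · exact h)
  rw [← Subgroup.orderOf_coe, ← Subgroup.orderOf_coe] at hz
  set c : G := ((z : V) : G) with hc
  have hcV : c ∈ V := (z : V).2
  have hcA : c ∈ centralizer (A : Set G) := S_le_centralizer hC hA (hVS hcV)
  have hbad : Bad A c := bad_of_not_isA hC hA hz (S_le_pM hC (hVS hcV)) fun h => by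
    obtain ⟨g, a, ha, ha1, e⟩ := h
    have hca : c ∈ A := IsA.mem hC ⟨g, a, ha, ha1, e⟩ (hVS hcV)
    have h2 : p ∈ Fix A c := hfix c hcV
    rw [hC.fixA c hca (involution_ne_one hz)] at h2
    exact hp h2
  have hle : A ⊔ V ≤ cH c ⊓ pM A := sup_le (le_inf (A_le_cH hcA) (le_normalizer.trans le_sup_left))
    (le_inf (fun v hv => mem_centralizer_singleton_iff.2
      (congrArg Subtype.val (mem_center_iff.1 z.2 ⟨v, hv⟩))) (hVS.trans (S_le_pM hC)))
  obtain ⟨U, hUle, hU⟩ := exists_top (S.isPGroup'.to_le (sup_le hC.pt.le hVS)) le_sup_left hle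
  obtain ⟨K, k, T, hd⟩ := exists_blockData hC hbad hcA
  have hpF : p ∈ Fix A c := hfix c hcV
  refine ⟨c, U, hbad, hcA, hcV, hU, hU.A_le, fun v hv => ?_⟩
  obtain ⟨p0, hp0, q0, hq0, e⟩ := exists_P_mul_Q hd hU (hUle (mem_sup_right hv))
  have h1 : p0 • p = p := by
    have h := hfix v hv
    rw [e, mul_smul, (mem_fixingSubgroup_iff _).1 hq0.2 p hpF] at h
    exact h
  rw [e, P_semiregular hd hU hp0 hpF hp h1, one_mul]
  exact hq0

/-- Some block has a top group of index `q` in a Sylow subgroup. -/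
theorem exists_big : ∃ (c : G) (U : Subgroup G), Bad A c ∧ c ∈ centralizer (A : Set G) ∧ IsTop A c U ∧
    Nat.card (S : Subgroup G) = Nat.card A * Nat.card U := by
  classical
  obtain ⟨n, hn⟩ := exists_card_eq_two_pow hC
  obtain ⟨j, hj⟩ := IsPGroup.iff_card.1 S.isPGroup'
  have hqpos : 0 < Nat.card A := Nat.card_pos
  -- a point with large stabiliser
  obtain ⟨p, hp, hpd⟩ : ∃ p : Pts A, p ≠ base A ∧
      ¬ 2 * Nat.card A ^ 3 ∣ Nat.card (MulAction.orbit (S : Subgroup G) p) := by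
    by_contra hno
    push Not at hno
    haveI := Fintype.ofFinite (Pts A)
    haveI := Fintype.ofFinite (MulAction.orbitRel.Quotient (S : Subgroup G) (Pts A))
    have h1 := Nat.card_congr (MulAction.selfEquivSigmaOrbits' (S : Subgroup G) (Pts A))
    rw [Nat.card_sigma, card_points hC hA] at h1
    have hbase : MulAction.orbit (S : Subgroup G) (base A) = {base A} :=
      Set.eq_singleton_iff_unique_mem.2 ⟨MulAction.mem_orbit_self _, by
        rintro _ ⟨s, rfl⟩
        exact smul_base_eq_iff.2 (S_le_pM hC s.2)⟩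
    let o : MulAction.orbitRel.Quotient (S : Subgroup G) (Pts A) := Quotient.mk'' (base A)
    rw [← Finset.add_sum_erase _ _ (Finset.mem_univ o),
      show Nat.card o.orbit = 1 by
        rw [MulAction.orbitRel.Quotient.orbit_mk, hbase]; simp] at h1
    have h2 : 2 * Nat.card A ^ 3 ∣ ∑ x ∈ Finset.univ.erase o, Nat.card x.orbit := by
      refine Finset.dvd_sum fun x hx => ?_
      induction x using Quotient.inductionOn' with
      | h p =>
        rw [MulAction.orbitRel.Quotient.orbit_mk]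
        refine hno p fun e => (Finset.mem_erase.1 hx).1 ?_
        rw [e]
    set M := ∑ x ∈ Finset.univ.erase o, Nat.card x.orbit with hM
    obtain ⟨i, hi⟩ := h2
    have hAq : 2 ∣ Nat.card A := by
      rw [hn]
      exact dvd_pow_self 2 fun e => by
        have := hC.pt.card
        rw [hn, e] at this
        omega
    obtain ⟨r, hr⟩ := hAq
    obtain ⟨r', rfl⟩ : ∃ r', r = r' + 1 := ⟨r - 1, by omega⟩
    rw [hi, hr, show 2 * (r' + 1) - 1 = 2 * r' + 1 by omega] at h1
    have h3 : (r' + 1) ^ 3 * (4 * (4 * (r' + 1) ^ 2 - 2 * (r' + 1) + 1) * 2) = (r' + 1) ^ 3 * (4 * (4 * i)) := by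
      obtain ⟨w, hw⟩ : ∃ w, 4 * (r' + 1) ^ 2 = 2 * (r' + 1) + w :=
        ⟨4 * (r' + 1) ^ 2 - 2 * (r' + 1), by
          have : 2 * (r' + 1) ≤ 4 * (r' + 1) ^ 2 := by nlinarith
          omega⟩
      have h7 : 8 * (r' + 1) ^ 3 * (4 * (r' + 1) ^ 2) = 8 * (r' + 1) ^ 3 * (2 * (r' + 1) + w) := by rw [hw]
      rw [hw, Nat.add_sub_cancel_left]
      ring_nf at h1 h7 ⊢
      omega
    have h4 := Nat.eq_of_mul_eq_mul_left (by positivity) h3
    have h5 : 4 * (r' + 1) ^ 2 - 2 * (r' + 1) + 1 = 2 * i := by omega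
    have h6 : 2 * (r' + 1) ≤ 4 * (r' + 1) ^ 2 := by nlinarith
    omega
  set V := (MulAction.stabilizer (S : Subgroup G) p).map (S : Subgroup G).subtype with hV
  have hVS : V ≤ (S : Subgroup G) := map_subtype_le _
  have hfix : ∀ v ∈ V, v • p = p := by rintro _ ⟨v, hv, rfl⟩; exact hv
  have hdiv : Nat.card (S : Subgroup G) ≤ Nat.card A ^ 3 * Nat.card V := by
    have e := Nat.card_congr (MulAction.orbitProdStabilizerEquivGroup (S : Subgroup G) p)
    rw [Nat.card_prod, ← card_map_of_injective (S : Subgroup G).subtype_injective] at e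
    rw [← e]
    refine Nat.mul_le_mul_right _ ?_
    obtain ⟨i, hi⟩ := S.isPGroup'.card_orbit p
    rw [hi] at hpd ⊢
    rw [hn, ← pow_mul] at hpd ⊢
    rw [← pow_succ'] at hpd
    refine Nat.pow_le_pow_right (by norm_num) ?_
    by_contra hlt
    exact hpd (pow_dvd_pow 2 (by omega))
  obtain ⟨c0, hc0, hc0A⟩ := hC.ex
  have hV1 : V ≠ ⊥ := by
    intro e
    obtain ⟨K, k, T, hd⟩ := exists_blockData hC hc0 hc0A
    obtain ⟨U, -, hU⟩ := exists_top (A := A) (c := c0) (isPGroup_A hC) le_rfl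
      (le_inf (A_le_cH hc0A) (le_normalizer.trans le_sup_left))
    have h1 := mul_card_le hC hA hd hU
    rw [card_top hC hd hU] at h1
    have h2 : 2 ≤ Nat.card (Qpart A c0 U) := by
      haveI : Nontrivial (Qpart A c0 U) :=
        ⟨⟨⟨c0, c_mem_Q hd hU⟩, 1, fun e => involution_ne_one hc0.ord (congrArg Subtype.val e)⟩⟩
      exact Finite.one_lt_card
    rw [e, card_bot, mul_one] at hdiv
    have h3 : Nat.card A * (Nat.card A ^ 2 * 2) ≤ Nat.card A * (Nat.card A ^ 2 * Nat.card (Qpart A c0 U)) :=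
      Nat.mul_le_mul_left _ (Nat.mul_le_mul_left _ h2)
    have h4 : 0 < Nat.card A ^ 3 := pow_pos hqpos 3
    nlinarith
  obtain ⟨c, U, hc, hcA, -, hU, -, hVQ⟩ := exists_kernel_of_stab hC hA hVS hV1 hp hfix
  obtain ⟨K, k, T, hd⟩ := exists_blockData hC hc hcA
  refine ⟨c, U, hc, hcA, hU, le_antisymm ?_ (mul_card_le hC hA hd hU)⟩
  calc _ ≤ Nat.card A ^ 3 * Nat.card V := hdiv
    _ ≤ Nat.card A ^ 3 * Nat.card (Qpart A c U) :=
      Nat.mul_le_mul_left _ (Nat.le_of_dvd Nat.card_pos (card_dvd_of_le hVQ))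
    _ = Nat.card A * Nat.card U := by rw [card_top hC hd hU]; ring

end CfsgLib.ThreePrime.Block
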