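import Cfsg.Agent.Lib.ThreePrime.Block.Centralizer
import Cfsg.Agent.Lib.HallNumber.EightSeven

/-!
Owner: helper6.  The number of points.

* `card_orbit_mul`: orbit and centraliser
* `card_witness_fibre`: the outside involutions with a given witness
* `card_class`: a class of bad involutions has `1 + q²(q-1)` times as many elements as in the stabiliser
* `card_points`: `|G : pM A| = (q² + 1)(q³ - q² + 1)`
-/

set_option autoImplicit false
set_option linter.all false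

namespace CfsgLib.ThreePrime.Block

open Subgroup CfsgLib.Bender.Dichotomy CfsgLib.Signalizer
open scoped Pointwise

universe u

local instance factTwoBlockCount : Fact (Nat.Prime 2) := ⟨Nat.prime_two⟩

variable {G : Type u} [Group G] [Finite G]

/-- The orbit of `x` under conjugation by `H`. -/
def cOrbit (H : Subgroup G) (x : G) : Set G := {y | ∃ h ∈ H, h * x * h⁻¹ = y}

theorem card_orbit_mul (H : Subgroup G) (x : G) :
    Nat.card (cOrbit H x) * Nat.card (H ⊓ centralizer ({x} : Set G) : Subgroup G) = Nat.card H := by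
  set C := (centralizer ({x} : Set G)).subgroupOf H with hC
  let f : H ⧸ C → cOrbit H x := Quotient.lift (fun h : H => ⟨h * x * (h : G)⁻¹, h, h.2, rfl⟩)
    fun a b hab => Subtype.ext (by
      have h1 : ((a⁻¹ * b : H) : G) ∈ centralizer ({x} : Set G) :=
        mem_subgroupOf.1 (QuotientGroup.leftRel_apply.1 hab)
      rw [Subgroup.coe_mul, Subgroup.coe_inv, mem_centralizer_singleton_iff] at h1
      show (a : G) * x * (a : G)⁻¹ = b * x * (b : G)⁻¹
      calc (a : G) * x * (a : G)⁻¹ = (a : G) * (x * ((a : G)⁻¹ * b)) * (b : G)⁻¹ := by group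
        _ = (a : G) * ((a : G)⁻¹ * b * x) * (b : G)⁻¹ := by rw [h1]
        _ = b * x * (b : G)⁻¹ := by group)
  have hf : Function.Bijective f := by
    refine ⟨fun a b => ?_, fun y => ?_⟩
    · refine QuotientGroup.induction_on a fun a => QuotientGroup.induction_on b fun b e => ?_
      have e' : (a : G) * x * (a : G)⁻¹ = b * x * (b : G)⁻¹ := congrArg Subtype.val e
      refine QuotientGroup.eq.2 (mem_subgroupOf.2 (mem_centralizer_singleton_iff.2 ?_))
      rw [Subgroup.coe_mul, Subgroup.coe_inv]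
      calc (a : G)⁻¹ * b * x = (a : G)⁻¹ * (b * x * (b : G)⁻¹) * b := by group
        _ = x * ((a : G)⁻¹ * b) := by rw [← e']; group
    · obtain ⟨h, hh, e⟩ := y.2
      exact ⟨((⟨h, hh⟩ : H) : H ⧸ C), Subtype.ext e⟩
  have hcard : Nat.card C = Nat.card (H ⊓ centralizer ({x} : Set G) : Subgroup G) :=
    (card_map_of_injective H.subtype_injective).symm.trans (by rw [hC, subgroupOf_map_subtype, inf_comm])
  rw [← Nat.card_congr (Equiv.ofBijective f hf), ← hcard, ← index_eq_card, index_mul_card]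

theorem exists_conj_odd_mul {H : Subgroup G} (hH : Odd (Nat.card H)) {x y : G} (hx : orderOf x = 2)
    (hy : orderOf y = 2) (h : x * y ∈ H) : ∃ r ∈ H, r * x * r⁻¹ = y := by
  have hodd : Odd (orderOf (x * y)) := hH.of_dvd_nat (by
    rw [← Subgroup.orderOf_mk _ h]; exact orderOf_dvd_natCard _)
  obtain ⟨d, hd, hdx⟩ := exists_conj_of_odd hx hy hodd
  obtain ⟨k, rfl | rfl⟩ := (mem_closure_pair_iff hx hy).1 hd
  · exact ⟨_, zpow_mem h k, hdx⟩
  · exact ⟨_, zpow_mem h k, Eq.trans (by group) hdx⟩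

theorem card_inf_cent_conj {H : Subgroup G} {g : G} (hg : g ∈ normalizer (H : Set G)) (x : G) :
    Nat.card (H ⊓ centralizer ({g * x * g⁻¹} : Set G) : Subgroup G) =
      Nat.card (H ⊓ centralizer ({x} : Set G) : Subgroup G) := by
  refine Nat.card_congr
    { toFun := fun r => ⟨g⁻¹ * r * g, mem_inf.2 ⟨(mem_normalizer_iff''.1 hg r).1 r.2.1, by
        rw [mem_centralizer_singleton_iff]
        calc g⁻¹ * r * g * x = g⁻¹ * (r * (g * x * g⁻¹)) * g := by group
          _ = g⁻¹ * ((g * x * g⁻¹) * r) * g := by rw [mem_centralizer_singleton_iff.1 r.2.2]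
          _ = x * (g⁻¹ * r * g) := by group⟩⟩
      invFun := fun r => ⟨g * r * g⁻¹, mem_inf.2 ⟨(mem_normalizer_iff.1 hg r).1 r.2.1, by
        rw [mem_centralizer_singleton_iff]
        calc g * r * g⁻¹ * (g * x * g⁻¹) = g * (r * x) * g⁻¹ := by group
          _ = g * (x * r) * g⁻¹ := by rw [mem_centralizer_singleton_iff.1 r.2.2]
          _ = g * x * g⁻¹ * (g * r * g⁻¹) := by group⟩⟩
      left_inv := fun r => Subtype.ext (by group)
      right_inv := fun r => Subtype.ext (by group) }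

variable {S : Sylow 2 G} {A : Subgroup G} {m l : ℕ}

/-- The witness of a pair. -/
noncomputable def wit (t b : G) : G := (t * b) ^ (orderOf (t * b) / 2)

theorem wit_spec (hC : Ctx S A) {t b : G} (ht : orderOf t = 2) (htM : t ∉ pM A) (htA : ¬ IsA A t)
    (hb : b ∈ A) (hb1 : b ≠ 1) :
    Bad A (wit t b) ∧ Commute (wit t b) t ∧ Commute (wit t b) b := by
  have hb2 := orderOf_A hC hb hb1
  rcases Nat.even_or_odd (orderOf (t * b)) with he | ho
  · obtain ⟨h1, h2, h3⟩ := central_involution ht hb2 he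
    exact ⟨⟨h1, hC.pt.cent b hb hb1 (mem_centralizer_singleton_iff.2 h3.eq),
      fun hle => htM (hle (mem_centralizer_singleton_iff.2 h2.eq.symm))⟩, h2, h3⟩
  · obtain ⟨d, -, hd⟩ := exists_conj_of_odd ht hb2 ho
    exact absurd ⟨d⁻¹, b, hb, hb1, by rw [← hd]; group⟩ htA

theorem wit_conj (g t b : G) : wit (g * t * g⁻¹) (g * b * g⁻¹) = g * wit t b * g⁻¹ := by
  rw [wit, wit, show g * t * g⁻¹ * (g * b * g⁻¹) = g * (t * b) * g⁻¹ by group,
    CfsgLib.Signalizer.orderOf_conj, conj_pow]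

section Core

variable (hC : Ctx S A)
include hC

theorem exists_conj_pair {w b : G} (hw : Bad A w) (hb : b ∈ A) (hb1 : b ≠ 1) (hc : Commute w b) :
    ∃ μ ∈ pM A, μ * b * μ⁻¹ ∈ A ∧ Bad A (μ * w * μ⁻¹) ∧ μ * w * μ⁻¹ ∈ centralizer (A : Set G) := by
  have hp : IsPGroup 2 (zpowers w ⊔ zpowers b : Subgroup G) :=
    (isPGroup_of_invol hw.ord).to_sup_of_normal_left' (isPGroup_of_invol (orderOf_A hC hb hb1))
      ((zpowers_le.2 (mem_centralizer_iff.2 fun z hz => by
        obtain ⟨i, rfl⟩ := mem_zpowers_iff.1 hz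
        exact (hc.zpow_left i).eq)).trans (centralizer_le_normalizer _))
  obtain ⟨μ, hμ, hμS⟩ := exists_conj_le_S hC hp
    (sup_le (zpowers_le.2 hw.mem) (zpowers_le.2 (mem_sup_left (le_normalizer hb))))
  have hbd := bad_conj hC hw hμ
  exact ⟨μ, hμ, ((isA_of_mem hb hb1).conj μ).mem hC (hμS b (mem_sup_right (mem_zpowers b))), hbd,
    (hC.bad _ hbd (S_le_normalizer hC (hμS w (mem_sup_left (mem_zpowers w))))).1⟩

theorem core_eq_bad {w : G} (hw : Bad A w) : core w = W0 A ⊓ cH w := by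
  obtain ⟨μ, hμ, -, -, -, hB⟩ := exists_conj_bad hC hw
  have h1 := hB.core_eq
  have hN := pM_le_normalizer_W0 hμ
  rw [show core (μ * w * μ⁻¹) = cj μ (core w) from core2_conj w μ] at h1
  refine le_antisymm (fun r hr => ?_) ?_
  · have h2 : μ * r * μ⁻¹ ∈ W0 A ⊓ cH (μ * w * μ⁻¹) := h1 ▸ (⟨r, hr, rfl⟩ : μ * r * μ⁻¹ ∈ cj μ (core w))
    exact ⟨(mem_normalizer_iff.1 hN r).2 h2.1, core2_le w hr⟩
  · intro r hr
    have h2 : μ * r * μ⁻¹ ∈ cj μ (core w) := h1.symm ▸ mem_inf.2 ⟨(mem_normalizer_iff.1 hN r).1 hr.1,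
      mem_centralizer_singleton_iff.2
        ((Commute.conj_iff μ).2 (show Commute r w from mem_centralizer_singleton_iff.1 hr.2)).eq⟩
    obtain ⟨r', hr', e⟩ := h2
    rwa [← show r' = r from mul_left_cancel (mul_right_cancel (e : μ * r' * μ⁻¹ = μ * r * μ⁻¹))]

/-- The orbit of `w b` under the core, times the orbit of `w` in `C(b)`, is the orbit of `w`. -/
theorem orbit_identity (hA : Aut A m l) {w b : G} (hw : Bad A w) (hb : b ∈ A) (hb1 : b ≠ 1)
    (hc : Commute w b) :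
    Nat.card (cOrbit (core w) (w * b)) * Nat.card (cOrbit (W0 A ⊓ cH b) w) =
      Nat.card (cOrbit (W0 A) w) := by
  have hbM : b ∈ pM A := mem_sup_left (le_normalizer hb)
  have hN := pM_le_normalizer_W0 (A := A)
  haveI := Fintype.ofFinite G
  have hbw := CfsgLib.HallNumber.brauer_wielandt_subgroup (W0 A) (odd_W0 hC)
    (by rw [← sq]; exact sq_of_ord hw.ord) (exp_two hC hb) hc.eq (hN hw.mem) (hN hbM)
  -- translation
  have htr : Nat.card (W0 A ⊓ cH (w * b) : Subgroup G) = Nat.card (W0 A ⊓ cH w : Subgroup G) := by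
    obtain ⟨μ, hμ, hb', hw', hwA⟩ := exists_conj_pair hC hw hb hb1 hc
    obtain ⟨g, hg, e⟩ := exists_translate hC hA hw' hwA hb'
    have e' : (μ⁻¹ * g * μ) * w * (μ⁻¹ * g * μ)⁻¹ = w * b := by
      calc (μ⁻¹ * g * μ) * w * (μ⁻¹ * g * μ)⁻¹ = μ⁻¹ * (g * (μ * w * μ⁻¹) * g⁻¹) * μ := by group
        _ = b * w := by rw [e]; group
        _ = w * b := hc.eq.symm
    rw [← e']
    exact card_inf_cent_conj (hN (mul_mem (mul_mem (inv_mem hμ) hg) hμ)) w
  have e1 := card_orbit_mul (W0 A) w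
  have e2 := card_orbit_mul (W0 A ⊓ cH b) w
  have e3 := card_orbit_mul (core w) (w * b)
  rw [core_eq_bad hC hw] at e3 ⊢
  have e4 : W0 A ⊓ cH w ⊓ cH (w * b) = W0 A ⊓ cH w ⊓ cH b := by
    ext r
    simp only [mem_inf, mem_centralizer_singleton_iff]
    refine ⟨fun ⟨h1, h2⟩ => ⟨h1, ?_⟩, fun ⟨h1, h2⟩ => ⟨h1, ?_⟩⟩
    · have h3 : Commute r w := h1.2
      have h4 := h3.mul_right h2
      rw [← mul_assoc, ← sq, sq_of_ord hw.ord, one_mul] at h4
      exact h4
    · exact ((show Commute r w from h1.2).mul_right h2).eq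
  rw [e4] at e3
  rw [show W0 A ⊓ cH b ⊓ cH w = W0 A ⊓ cH w ⊓ cH b by ac_rfl] at e2
  rw [htr] at hbw
  generalize Nat.card (W0 A ⊓ cH w ⊓ cH b : Subgroup G) = z at e2 e3 hbw
  have hz : 0 < z := by
    rcases Nat.eq_zero_or_pos z with h | h
    · rw [h, mul_zero] at e3; exact absurd e3.symm (Nat.card_pos).ne'
    · exact h
  generalize Nat.card (cOrbit (W0 A ⊓ cH w : Subgroup G) (w * b)) = x at e3 ⊢
  generalize Nat.card (cOrbit (W0 A ⊓ cH b : Subgroup G) w) = y at e2 ⊢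
  generalize Nat.card (cOrbit (W0 A) w) = o at e1 ⊢
  have hcw : 0 < Nat.card (W0 A ⊓ cH w : Subgroup G) := Nat.card_pos
  generalize Nat.card (W0 A ⊓ cH w : Subgroup G) = p at e1 e3 hbw hcw
  generalize Nat.card (W0 A ⊓ cH b : Subgroup G) = r at e2 hbw
  generalize Nat.card (W0 A) = n at e1 hbw
  subst e1 e2 e3
  have : (x * y) * (x * z * (z * z)) = o * (x * z * (z * z)) := by
    have h : o * (x * z) * z ^ 2 = x * z * (y * z) * (x * z) := hbw
    calc (x * y) * (x * z * (z * z)) = x * z * (y * z) * (x * z) := by ring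
      _ = o * (x * z) * z ^ 2 := h.symm
      _ = o * (x * z * (z * z)) := by ring
  exact Nat.eq_of_mul_eq_mul_right (Nat.mul_pos hcw (Nat.mul_pos hz hz)) this

/-- Conjugates of bad involutions in `pM` commute with `b` modulo `W0`. -/
theorem comm_mem_W0 {x b : G} (hx : Bad A x) (hb : b ∈ A) : x * b * x⁻¹ * b⁻¹ ∈ W0 A := by
  obtain ⟨μ, hμ, -, -, hcA, -⟩ := exists_conj_bad hC hx
  set c := μ * x * μ⁻¹ with hc
  obtain ⟨n, hn, w, hw, e⟩ := exists_of_mem_pM hμ
  have hN := normalizer_le_normalizer_W0 (A := A)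
  have hna : n * b * n⁻¹ ∈ A := (mem_normalizer_iff.1 hn b).1 hb
  have hr : (n * b * n⁻¹)⁻¹ * (μ * b * μ⁻¹) ∈ W0 A := by
    have h1 : b⁻¹ * w * b * w⁻¹ ∈ W0 A := by
      refine mul_mem ?_ (inv_mem hw)
      have h := (mem_normalizer_iff.1 (hN (le_normalizer (inv_mem hb))) w).1 hw
      rwa [inv_inv] at h
    have h2 := (mem_normalizer_iff.1 (hN hn) _).1 h1
    rw [e]
    convert h2 using 1
    group
  set a := n * b * n⁻¹ with ha
  set r := a⁻¹ * (μ * b * μ⁻¹) with hr'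
  have hμb : μ * b * μ⁻¹ = a * r := by rw [hr', mul_inv_cancel_left]
  have h3 : c * (μ * b * μ⁻¹) * c⁻¹ * (μ * b * μ⁻¹)⁻¹ ∈ W0 A := by
    have hcM : c ∈ pM A := mul_mem (mul_mem hμ hx.mem) (inv_mem hμ)
    rw [hμb, show c * (a * r) * c⁻¹ * (a * r)⁻¹ = (c * a * c⁻¹) * (c * r * c⁻¹ * r⁻¹) * a⁻¹ by group,
      ← mem_centralizer_iff.1 hcA a hna, mul_inv_cancel_right]
    exact (mem_normalizer_iff.1 (hN (le_normalizer hna)) _).1
      (mul_mem ((mem_normalizer_iff.1 (pM_le_normalizer_W0 hcM) r).1 hr) (inv_mem hr))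
  rw [hc] at h3
  refine (mem_normalizer_iff.1 (pM_le_normalizer_W0 hμ) _).2 ?_
  convert h3 using 1
  group

/-- The part of a class in the stabiliser, counted by core orbits. -/
theorem card_class_mem (hA : Aut A m l) {c0 b : G} (hc0 : Bad A c0) (hb : b ∈ A) (hb1 : b ≠ 1)
    [Fintype {w : G // IsConj c0 w ∧ w ∈ pM A ∧ Commute w b}] :
    Nat.card {x : G // IsConj c0 x ∧ x ∈ pM A} =
      ∑ w : {w : G // IsConj c0 w ∧ w ∈ pM A ∧ Commute w b}, Nat.card (cOrbit (core w.1) (w.1 * b)) := by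
  classical
  have hN := pM_le_normalizer_W0 (A := A)
  have hW : W0 A ≤ pM A := W0_le_pM
  have hbad : ∀ x : G, IsConj c0 x → x ∈ pM A → Bad A x := by
    intro x hx hxM
    obtain ⟨g, rfl⟩ := isConj_iff.1 hx
    obtain ⟨μ, hμ, e⟩ := conj_in_pM hC hc0.mem hxM (isPGroup_of_invol hc0.ord) rfl
    exact e ▸ bad_conj hC hc0 hμ
  haveI := Fintype.ofFinite {x : G // IsConj c0 x ∧ x ∈ pM A}
  let f : {x : G // IsConj c0 x ∧ x ∈ pM A} → Set G := fun x => cOrbit (W0 A) x.1
  let f' : {w : G // IsConj c0 w ∧ w ∈ pM A ∧ Commute w b} → Set G := fun x => cOrbit (W0 A) x.1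
  have hfib : ∀ x : {x : G // IsConj c0 x ∧ x ∈ pM A}, ∀ y : G,
      y ∈ f x ↔ ∃ h : IsConj c0 y ∧ y ∈ pM A, f ⟨y, h⟩ = f x := by
    intro x y
    constructor
    · rintro ⟨r, hr, rfl⟩
      refine ⟨⟨x.2.1.trans (isConj_iff.2 ⟨r, rfl⟩), mul_mem (mul_mem (hW hr) x.2.2) (inv_mem (hW hr))⟩,
        Set.ext fun z => ⟨?_, ?_⟩⟩
      · rintro ⟨h, hh, rfl⟩
        exact ⟨h * r, mul_mem hh hr, by group⟩
      · rintro ⟨h, hh, rfl⟩
        exact ⟨h * r⁻¹, mul_mem hh (inv_mem hr), by group⟩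
    · rintro ⟨h, e⟩
      have : y ∈ f ⟨y, h⟩ := ⟨1, one_mem _, by group⟩
      rwa [e] at this
  rw [Nat.card_eq_fintype_card, ← Finset.card_univ,
    Finset.card_eq_sum_card_fiberwise (f := f) (t := Finset.univ.image f)
      (fun x _ => Finset.mem_image_of_mem f (Finset.mem_univ x))]
  symm
  rw [← Finset.sum_fiberwise_of_maps_to (g := f') (t := Finset.univ.image f) (fun w _ =>
    Finset.mem_image.2 ⟨⟨w.1, w.2.1, w.2.2.1⟩, Finset.mem_univ _, rfl⟩)]
  refine Finset.sum_congr rfl fun O hO => ?_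
  obtain ⟨x, -, rfl⟩ := Finset.mem_image.1 hO
  have hcardO : (Finset.univ.filter fun y => f y = f x).card = Nat.card (cOrbit (W0 A) x.1) := by
    rw [← Fintype.card_subtype, ← Nat.card_eq_fintype_card]
    exact Nat.card_congr
      { toFun := fun y => ⟨y.1.1, (hfib x _).2 ⟨y.1.2, y.2⟩⟩
        invFun := fun y => ⟨⟨y.1, ((hfib x _).1 y.2).1⟩, ((hfib x _).1 y.2).2⟩
        left_inv := fun y => rfl
        right_inv := fun y => rfl }
  rw [hcardO]
  -- a point of the orbit commuting with `b`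
  have hx2 : orderOf x.1 = 2 := (hbad _ x.2.1 x.2.2).ord
  have hinv : ∀ y ∈ f x, b * y * b⁻¹ ∈ f x := by
    intro y hy
    obtain ⟨⟨hy1, hy2⟩, e⟩ := (hfib x y).1 hy
    have hyb := hbad y hy1 hy2
    have hyy : y * (b * y * b⁻¹) ∈ W0 A := by
      have := comm_mem_W0 hC hyb hb
      rwa [involution_inv hyb.ord, mul_assoc, mul_assoc, ← mul_assoc b] at this
    obtain ⟨r, hr, e'⟩ := exists_conj_odd_mul (odd_W0 hC) hyb.ord
      (by rw [CfsgLib.Signalizer.orderOf_conj]; exact hyb.ord) hyy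
    rw [← e]
    exact ⟨r, hr, e'⟩
  obtain ⟨w, hwx, hwb⟩ : ∃ w ∈ f x, Commute w b := by
    haveI : Finite (f x) := inferInstance
    obtain ⟨w, hw⟩ := exists_fixed_of_not_dvd (α := f x) (fun y => ⟨b * y * b⁻¹, hinv _ y.2⟩) Nat.prime_two
      (funext fun y => Subtype.ext (by
        show b * (b * y * b⁻¹) * b⁻¹ = y
        calc b * (b * (y : G) * b⁻¹) * b⁻¹ = (b * b) * y * (b * b)⁻¹ := by group
          _ = y := by rw [exp_two hC hb, one_mul, inv_one, mul_one]))
      (fun h => Nat.not_even_iff_odd.2 ((odd_W0 hC).of_dvd_nat ⟨_, (card_orbit_mul (W0 A) x.1).symm⟩)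
        (even_iff_two_dvd.2 h))
    exact ⟨w.1, w.2, (mul_inv_eq_iff_eq_mul.1 (congrArg Subtype.val hw)).symm⟩
  obtain ⟨⟨hw1, hw2⟩, hwO⟩ := (hfib x w).1 hwx
  have hwbad := hbad w hw1 hw2
  -- the points commuting with `b` form one orbit
  have hset : ∀ y : G, (y ∈ f x ∧ Commute y b) ↔ y ∈ cOrbit (W0 A ⊓ cH b) w := by
    intro y
    constructor
    · rintro ⟨hy, hyb⟩
      rw [← hwO] at hy
      obtain ⟨r, hr, rfl⟩ := hy
      have hwy : w * (r * w * r⁻¹) ∈ W0 A ⊓ cH b := by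
        refine mem_inf.2 ⟨?_, mem_centralizer_singleton_iff.2 (hwb.mul_left hyb).eq⟩
        have h1 := mul_mem ((mem_normalizer_iff.1 (hN hw2) r).1 hr) (inv_mem hr)
        rwa [show w * r * w⁻¹ * r⁻¹ = w * (r * w * r⁻¹) by
          rw [involution_inv hwbad.ord]; group] at h1
      exact exists_conj_odd_mul ((odd_W0 hC).of_dvd_nat (card_dvd_of_le inf_le_left)) hwbad.ord
        (by rw [CfsgLib.Signalizer.orderOf_conj]; exact hwbad.ord) hwy
    · rintro ⟨r, hr, rfl⟩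
      refine ⟨hwO ▸ ⟨r, hr.1, rfl⟩, ?_⟩
      have := (Commute.conj_iff r).2 hwb
      rwa [mem_centralizer_singleton_iff.1 hr.2, mul_inv_cancel_right] at this
  have hcardC : (Finset.univ.filter fun y => f' y = f x).card = Nat.card (cOrbit (W0 A ⊓ cH b) w) := by
    rw [← Fintype.card_subtype, ← Nat.card_eq_fintype_card]
    exact Nat.card_congr
      { toFun := fun y => ⟨y.1.1, (hset _).1 ⟨(hfib x _).2 ⟨⟨y.1.2.1, y.1.2.2.1⟩, y.2⟩, y.1.2.2.2⟩⟩
        invFun := fun y =>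
          ⟨⟨y.1, ((hfib x _).1 ((hset _).2 y.2).1).1.1, ((hfib x _).1 ((hset _).2 y.2).1).1.2,
            ((hset _).2 y.2).2⟩, ((hfib x _).1 ((hset _).2 y.2).1).2⟩
        left_inv := fun y => rfl
        right_inv := fun y => rfl }
  have hrho : ∀ y ∈ Finset.univ.filter (fun y => f' y = f x),
      Nat.card (cOrbit (core y.1) (y.1 * b)) = Nat.card (cOrbit (core w) (w * b)) := by
    intro y hy
    have hy' : cOrbit (W0 A) y.1 = f x := (Finset.mem_filter.1 hy).2
    have hyb := hbad _ y.2.1 y.2.2.1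
    have e1 := orbit_identity hC hA hyb hb hb1 y.2.2.2
    have e2 := orbit_identity hC hA hwbad hb hb1 hwb
    have e3 : cOrbit (W0 A ⊓ cH b) y.1 = cOrbit (W0 A ⊓ cH b) w := by
      obtain ⟨r, hr, e⟩ := (hset y.1).1 ⟨(hfib x _).2 ⟨⟨y.2.1, y.2.2.1⟩, hy'⟩, y.2.2.2⟩
      ext z
      constructor
      · rintro ⟨h, hh, rfl⟩
        exact ⟨h * r, mul_mem hh hr, by rw [← e]; group⟩
      · rintro ⟨h, hh, rfl⟩
        exact ⟨h * r⁻¹, mul_mem hh (inv_mem hr), by rw [← e]; group⟩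
    rw [e3, hy', ← hwO] at e1
    refine Nat.eq_of_mul_eq_mul_right ?_ (e1.trans e2.symm)
    haveI : Nonempty (cOrbit (W0 A ⊓ cH b) w) := ⟨⟨w, 1, one_mem _, by group⟩⟩
    exact Nat.card_pos
  rw [Finset.sum_congr rfl hrho, Finset.sum_const, smul_eq_mul, hcardC, mul_comm,
    orbit_identity hC hA hwbad hb hb1 hwb]
  exact congrArg (fun s : Set G => Nat.card s) hwO

end Core

end CfsgLib.ThreePrime.Block
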