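import Cfsg.Agent.Lib.ThreePrime.Block.Class

/-!
Owner: helper6.  A large block inside the Sylow subgroup.

* `Frame`, `exists_frame`: all of `S` translates the kernel part of `U`
* `S_inf_cent`: `U` is the centraliser in `S` of each kernel involution
* `exists_mover_A`: normalisers of the frame are transitive on `A`
* `exists_tau_frame`: a torus element of odd order normalising the frame
-/

set_option autoImplicit false
set_option linter.all false

namespace CfsgLib.ThreePrime.Block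

open Subgroup CfsgLib.Bender.Dichotomy CfsgLib.Signalizer
open scoped Pointwise

universe u

local instance factTwoBlockFrame : Fact (Nat.Prime 2) := ⟨Nat.prime_two⟩

variable {G : Type u} [Group G] [Finite G] {S : Sylow 2 G} {A : Subgroup G} {m l : ℕ}

/-- A block with all of `S` as translations. -/
structure Frame (S : Sylow 2 G) (A : Subgroup G) (c : G) (U : Subgroup G) : Prop where
  bad : Bad A c
  cent : c ∈ centralizer (A : Set G)
  top : IsTop A c U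
  le : U ≤ (S : Subgroup G)
  card : Nat.card (S : Subgroup G) = Nat.card A * Nat.card U
  trans_le : (S : Subgroup G) ≤ trans A c U

theorem conj_mem_ker_iff (μ c q : G) :
    μ * q * μ⁻¹ ∈ blockKer A (μ * c * μ⁻¹) ↔ q ∈ blockKer A c := by
  rw [blockKer, blockKer, mem_fixingSubgroup_iff, mem_fixingSubgroup_iff]
  constructor
  · intro h p hp
    have h1 := h (μ • p) (mem_fix_conj.2 hp)
    rw [mul_smul, mul_smul, inv_smul_smul] at h1
    exact smul_left_cancel _ h1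
  · intro h p hp
    have h1 : μ⁻¹ • p ∈ Fix A c := (mem_fix_conj (g := μ)).1 (by rw [smul_inv_smul]; exact hp)
    rw [mul_smul, mul_smul, h _ h1, smul_inv_smul]

theorem cj_inf_le {μ : G} {U : Subgroup G} {x : G} (hx : x ∈ cj μ U) : μ⁻¹ * x * μ ∈ U := by
  obtain ⟨y, hy, rfl⟩ := hx
  show μ⁻¹ * (μ * y * μ⁻¹) * μ ∈ U
  rw [show μ⁻¹ * (μ * y * μ⁻¹) * μ = y by group]
  exact hy

theorem mem_cj {μ : G} {U : Subgroup G} {x : G} (hx : μ⁻¹ * x * μ ∈ U) : x ∈ cj μ U :=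
  ⟨_, hx, by show μ * (μ⁻¹ * x * μ) * μ⁻¹ = x; group⟩

theorem exists_frame (hC : Ctx S A) (hA : Aut A m l) : ∃ c U, Frame S A c U := by
  obtain ⟨c, U, hb, hcA, hU, hcard⟩ := exists_big hC hA
  obtain ⟨K, k, T, hd⟩ := exists_blockData hC hb hcA
  have hM := top_isMax hC hA hb hcA hU
  obtain ⟨u, hu⟩ := exists_mover hC hA hd hM
  have hUt : U ≤ trans A c U := fun v hv => ⟨(hU.le hv).2, le_normalizer hv,
    top_le_centralizer hC hA hU hv, fun w hw => by
      obtain ⟨p, hp, q, hq, rfl⟩ := exists_P_mul_Q hd hU hv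
      rw [show p * q * w * (p * q)⁻¹ = p * (q * w * q⁻¹) * p⁻¹ by group,
        Q_comm hC hA hd hM hu hq hw, mul_inv_cancel_right, P_comm_Q hd hU hp hw, mul_inv_cancel_right,
        mul_inv_cancel]
      exact one_mem _⟩
  obtain ⟨P, hUP, hPle, hP, -, hPconj⟩ := exists_sylow_in hU.two hUt
  have hPc : Nat.card P = Nat.card (S : Subgroup G) := by
    obtain ⟨j, hj⟩ := IsPGroup.iff_card.1 S.isPGroup'
    have hdvd : 2 ^ j ∣ Nat.card (trans A c U) := hj ▸ hcard ▸ dvd_trans_card hC hA hd hU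
    obtain ⟨V, hV⟩ := Sylow.exists_subgroup_card_pow_prime 2 hdvd
    have hVp : IsPGroup 2 V := IsPGroup.of_card hV
    obtain ⟨x, -, hle⟩ := hPconj (V.map (trans A c U).subtype) (map_subtype_le _) (hVp.map _)
    have h1 := Nat.le_of_dvd Nat.card_pos (card_dvd_of_le hle)
    rw [card_cj, card_map_of_injective (trans A c U).subtype_injective, hV, ← hj] at h1
    obtain ⟨Q', hQ'⟩ := hP.exists_le_sylow
    have h2 := Nat.le_of_dvd Nat.card_pos (card_dvd_of_le hQ')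
    rw [Nat.card_congr (Sylow.equiv Q' S).toEquiv] at h2
    exact le_antisymm h2 h1
  obtain ⟨μ, hμ, hμS⟩ := exists_conj_le_S hC hP (hPle.trans fun x hx => hx.1)
  have hPS : cj μ P = (S : Subgroup G) :=
    eq_of_le_of_card_ge (cj_le_iff.2 hμS) (by rw [card_cj, hPc])
  have hμA : μ ∈ normalizer (A : Set G) := mem_normalizer_of_cj (eq_of_le_of_card_ge (cj_le_iff.2
    fun a ha => by
      by_cases ha1 : a = 1
      · rw [ha1, mul_one, mul_inv_cancel]; exact one_mem _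
      exact ((isA_of_mem ha ha1).conj μ).mem hC (hμS a (hUP (hU.A_le ha)))) (card_cj _ _).ge)
  have hμM : ∀ {x : G}, x ∈ pM A ↔ μ⁻¹ * x * μ ∈ pM A := fun {x} =>
    ⟨fun h => mul_mem (mul_mem (inv_mem hμ) h) hμ, fun h => by
      have := mul_mem (mul_mem hμ h) (inv_mem hμ)
      rwa [show μ * (μ⁻¹ * x * μ) * μ⁻¹ = x by group] at this⟩
  have hμH : ∀ {x : G}, x ∈ cH (μ * c * μ⁻¹) ↔ μ⁻¹ * x * μ ∈ cH c := fun {x} => by
    rw [mem_centralizer_singleton_iff, mem_centralizer_singleton_iff]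
    constructor
    · intro h
      calc μ⁻¹ * x * μ * c = μ⁻¹ * (x * (μ * c * μ⁻¹)) * μ := by group
        _ = μ⁻¹ * ((μ * c * μ⁻¹) * x) * μ := by rw [h]
        _ = c * (μ⁻¹ * x * μ) := by group
    · intro h
      calc x * (μ * c * μ⁻¹) = μ * (μ⁻¹ * x * μ * c) * μ⁻¹ := by group
        _ = μ * (c * (μ⁻¹ * x * μ)) * μ⁻¹ := by rw [h]
        _ = μ * c * μ⁻¹ * x := by group
  refine ⟨μ * c * μ⁻¹, cj μ U, bad_conj hC hb hμ, conj_mem_centralizer_A hμA hcA, ⟨hU.two.map _,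
    fun a ha => mem_cj (hU.A_le ((mem_normalizer_iff''.1 hμA a).1 ha)),
    fun x hx => mem_inf.2 ⟨hμH.2 (hU.le (cj_inf_le hx)).1, hμM.2 (hU.le (cj_inf_le hx)).2⟩, ?_⟩,
    ?_, ?_, ?_⟩
  · intro V hV hUV hle
    have h1 := hU.max (cj μ⁻¹ V) (hV.map _) (fun v hv => mem_cj (by
        rw [inv_inv]; exact hUV ⟨v, hv, rfl⟩))
      (fun v hv => by
        have := hle (cj_inf_le hv)
        rw [inv_inv] at this
        refine mem_inf.2 ⟨?_, ?_⟩
        · have h2 := hμH.1 this.1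
          rwa [show μ⁻¹ * (μ * v * μ⁻¹) * μ = v by group] at h2
        · have h2 := hμM.1 this.2
          rwa [show μ⁻¹ * (μ * v * μ⁻¹) * μ = v by group] at h2)
    rw [← h1, cj_cj, mul_inv_cancel, cj_one]
  · exact fun x hx => hPS ▸ cj_mono hUP hx
  · rw [card_cj, ← hcard]
  · intro g hg
    rw [← hPS] at hg
    obtain ⟨h, hh, rfl⟩ := hg
    obtain ⟨h1, h2, h3, h4⟩ := hPle hh
    refine ⟨mul_mem (mul_mem hμ h1) (inv_mem hμ), ?_, conj_mem_centralizer_A hμA h3, ?_⟩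
    · refine mem_normalizer_of_cj (eq_of_le_of_card_ge (cj_le_iff.2 ?_) (card_cj _ _).ge)
      rintro _ ⟨v, hv, rfl⟩
      exact ⟨h * v * h⁻¹, (mem_normalizer_iff.1 h2 v).1 hv, by
        show μ * (h * v * h⁻¹) * μ⁻¹ = (μ * h * μ⁻¹) * (μ * v * μ⁻¹) * (μ * h * μ⁻¹)⁻¹
        group⟩
    · intro w hw
      have hwQ : μ⁻¹ * w * μ ∈ Qpart A c U := ⟨cj_inf_le hw.1, (conj_mem_ker_iff μ c _).1 (by
        rw [show μ * (μ⁻¹ * w * μ) * μ⁻¹ = w by group]; exact hw.2)⟩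
      have := (mem_normalizer_iff.1 hμA _).1 (h4 _ hwQ)
      convert this using 1
      show (μ * h * μ⁻¹) * w * (μ * h * μ⁻¹)⁻¹ * w⁻¹ = _
      group

variable {c : G} {U : Subgroup G} (hC : Ctx S A) (hA : Aut A m l) (hF : Frame S A c U)
include hC hA hF

theorem frame_bad {w : G} (hw : w ∈ Qpart A c U) (hw1 : w ≠ 1) :
    Fix A w = Fix A c ∧ Bad A w ∧ w ∈ centralizer (A : Set G) ∧ orderOf w = 2 := by
  obtain ⟨K, k, T, hd⟩ := exists_blockData hC hF.bad hF.cent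
  obtain ⟨u, hu⟩ := exists_mover hC hA hd (top_isMax hC hA hF.bad hF.cent hF.top)
  have hw2 := orderOf_eq_prime (Q_sq hC hA hd (top_isMax hC hA hF.bad hF.cent hF.top) hu hw) hw1
  obtain ⟨h1, h2⟩ := ker_bad hC hF.bad hd.bf hw.2 hw2 (mem_centralizer_singleton_iff.1 (hF.top.le hw.1).1)
  exact ⟨h1, h2, top_le_centralizer hC hA hF.top hw.1, hw2⟩

theorem U_le_cent {w : G} (hw : w ∈ Qpart A c U) : U ≤ cH w := by
  intro v hv
  obtain ⟨K, k, T, hd⟩ := exists_blockData hC hF.bad hF.cent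
  obtain ⟨u, hu⟩ := exists_mover hC hA hd (top_isMax hC hA hF.bad hF.cent hF.top)
  obtain ⟨p, hp, q, hq, rfl⟩ := exists_P_mul_Q hd hF.top hv
  rw [mem_centralizer_singleton_iff, mul_assoc,
    Q_comm hC hA hd (top_isMax hC hA hF.bad hF.cent hF.top) hu hq hw, ← mul_assoc,
    P_comm_Q hd hF.top hp hw, mul_assoc]

/-- `U` is the centraliser in `S` of every non-identity kernel element. -/
theorem S_inf_cent {w g : G} (hw : w ∈ Qpart A c U) (hw1 : w ≠ 1) (hg : g ∈ (S : Subgroup G))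
    (hc : g * w = w * g) : g ∈ U := by
  obtain ⟨hfix, -, -, -⟩ := frame_bad hC hA hF hw hw1
  have hsub : U ⊔ zpowers g ≤ (S : Subgroup G) := sup_le hF.le (zpowers_le.2 hg)
  have hle : U ⊔ zpowers g ≤ cH w :=
    sup_le (U_le_cent hC hA hF hw) (zpowers_le.2 (mem_centralizer_singleton_iff.2 hc))
  have := (top_isMax hC hA hF.bad hF.cent hF.top).stab_max _ (S.isPGroup'.to_le hsub) le_sup_left
    (hsub.trans (S_le_pM hC)) fun v hv p => by
      rw [← hfix]; exact stabilises_of_le hle hv p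
  exact this ▸ mem_sup_right (mem_zpowers g)

/-- `U` is a top group for each of its kernel involutions. -/
theorem top_of_Q {w : G} (hw : w ∈ Qpart A c U) (hw1 : w ≠ 1) : IsTop A w U := by
  obtain ⟨hfix, -, -, -⟩ := frame_bad hC hA hF hw hw1
  exact ⟨hF.top.two, hF.top.A_le, le_inf (U_le_cent hC hA hF hw) (hF.top.le.trans inf_le_right),
    fun V hV hUV hle => (top_isMax hC hA hF.bad hF.cent hF.top).stab_max V hV hUV (hle.trans inf_le_right)
      fun v hv p => by rw [← hfix]; exact stabilises_of_le (hle.trans inf_le_left) hv p⟩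

theorem frame_trans_value {g : G} (hg : g ∈ (S : Subgroup G)) {w : G} (hw : w ∈ Qpart A c U) :
    g * w * g⁻¹ * w⁻¹ ∈ A :=
  (hF.trans_le hg).2.2.2 w hw

/-- Every value is taken on `S`. -/
theorem frame_exists_value {w a : G} (hw : w ∈ Qpart A c U) (hw1 : w ≠ 1) (ha : a ∈ A) :
    ∃ g ∈ (S : Subgroup G), g * w * g⁻¹ = a * w := by
  let ev : (S : Subgroup G) →* A :=
    MonoidHom.mk' (fun g => ⟨g * w * (g : G)⁻¹ * w⁻¹, frame_trans_value hC hA hF g.2 hw⟩)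
    fun g h => Subtype.ext (by
      show (g : G) * h * w * ((g : G) * h)⁻¹ * w⁻¹ = (g * w * (g : G)⁻¹ * w⁻¹) * (h * w * (h : G)⁻¹ * w⁻¹)
      rw [show (g : G) * h * w * ((g : G) * h)⁻¹ * w⁻¹ =
        (g : G) * ((h : G) * w * (h : G)⁻¹ * w⁻¹) * (g : G)⁻¹ * (g * w * (g : G)⁻¹ * w⁻¹) by group,
        commute_of_mem_cent (frame_trans_value hC hA hF h.2 hw) (hF.trans_le g.2).2.2.1]
      exact elementary_comm hC.pt.elem (frame_trans_value hC hA hF h.2 hw)
        (frame_trans_value hC hA hF g.2 hw))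
  have hker : ev.ker ≤ U.subgroupOf (S : Subgroup G) := fun g hg => by
    have h1 : (g : G) * w * (g : G)⁻¹ * w⁻¹ = 1 := congrArg Subtype.val (MonoidHom.mem_ker.1 hg)
    exact mem_subgroupOf.2 (S_inf_cent hC hA hF hw hw1 g.2
      (mul_inv_eq_iff_eq_mul.1 (mul_inv_eq_one.1 h1)))
  have hcard : Nat.card ev.range = Nat.card A := by
    refine le_antisymm (card_le_card_group _) ?_
    have e := ev.ker.index_mul_card
    rw [index_ker, hF.card] at e
    have h1 := Nat.le_of_dvd Nat.card_pos (card_dvd_of_le hker)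
    rw [Nat.card_congr (subgroupOfEquivOfLe hF.le).toEquiv] at h1
    have hU0 : 0 < Nat.card U := Nat.card_pos
    nlinarith
  obtain ⟨g, hg⟩ := (eq_top_of_card_eq _ hcard).symm ▸ mem_top (⟨a, ha⟩ : A)
  refine ⟨g, g.2, ?_⟩
  rw [← show g * w * (g : G)⁻¹ * w⁻¹ = a from congrArg Subtype.val hg, inv_mul_cancel_right]

/-- An element fixing `c` and normalising `U` can be corrected to normalise `S`. -/
theorem exists_adjust {σ : G} (hσc : σ ∈ cH c) (hσM : σ ∈ pM A) (hσU : σ ∈ normalizer (U : Set G))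
    (hσA : σ ∈ normalizer (A : Set G)) (hσQ : ∀ w ∈ Qpart A c U, σ * w = w * σ) :
    ∃ ρ ∈ core c, ρ ∈ centralizer (A : Set G) ∧ ρ * σ ∈ normalizer ((S : Subgroup G) : Set G) ∧
      ρ * σ ∈ normalizer (U : Set G) ∧ ∀ w ∈ Qpart A c U, ρ * σ * w = w * (ρ * σ) := by
  have hcQ : c ∈ Qpart A c U := by
    obtain ⟨K, k, T, hd⟩ := exists_blockData hC hF.bad hF.cent
    exact c_mem_Q hd hF.top
  have hsub : cj σ (S : Subgroup G) ≤ trans A c U := by
    rintro _ ⟨g, hg, rfl⟩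
    obtain ⟨h1, h2, h3, h4⟩ := hF.trans_le hg
    refine ⟨mul_mem (mul_mem hσM h1) (inv_mem hσM), mul_mem (mul_mem hσU h2) (inv_mem hσU),
      conj_mem_centralizer_A hσA h3, fun w hw => ?_⟩
    show σ * g * σ⁻¹ * w * (σ * g * σ⁻¹)⁻¹ * w⁻¹ ∈ A
    rw [show σ * g * σ⁻¹ * w * (σ * g * σ⁻¹)⁻¹ * w⁻¹ =
      σ * (g * (σ⁻¹ * w * σ) * g⁻¹ * (σ⁻¹ * w * σ)⁻¹) * σ⁻¹ by group,
      show σ⁻¹ * w * σ = w by rw [mul_assoc, ← hσQ w hw, inv_mul_cancel_left]]
    exact (mem_normalizer_iff.1 hσA _).1 (h4 w hw)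
  obtain ⟨P, hSP, hPle, hP, -, hconj⟩ := exists_sylow_in S.isPGroup' hF.trans_le
  have hPS : P = (S : Subgroup G) := S.is_maximal' hP hSP
  obtain ⟨r, hr, hrle⟩ := hconj _ hsub (S.isPGroup'.map _)
  rw [hPS] at hrle
  have hN : r * σ ∈ normalizer ((S : Subgroup G) : Set G) := mem_normalizer_of_cj (eq_of_le_of_card_ge
    (by rw [← cj_cj]; exact hrle) (card_cj _ _).ge)
  -- split off an element of `S`
  obtain ⟨s, hs, hse⟩ := frame_exists_value hC hA hF hcQ (involution_ne_one hF.bad.ord)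
    (hr.2.2.2 c hcQ)
  rw [inv_mul_cancel_right] at hse
  set r0 := s⁻¹ * r with hr0
  have hr0c : r0 ∈ cH c := mem_centralizer_singleton_iff.2 (by
    calc r0 * c = s⁻¹ * (r * c * r⁻¹) * r := by rw [hr0]; group
      _ = s⁻¹ * (s * c * s⁻¹) * r := by rw [hse]
      _ = c * r0 := by rw [hr0]; group)
  have hr0A : r0 ∈ centralizer (A : Set G) := mul_mem (inv_mem (hF.trans_le hs).2.2.1) hr.2.2.1
  obtain ⟨K, k, T, hd⟩ := exists_blockData hC hF.bad hF.cent
  obtain ⟨v, hv, hvr⟩ := exists_top_mul_core hC hA hd hF.top hr0c hr0A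
  set ρ := v⁻¹ * r0 with hρ
  have hρA : ρ ∈ centralizer (A : Set G) := mul_mem (inv_mem (top_le_centralizer hC hA hF.top hv)) hr0A
  have hρS : ρ * σ ∈ normalizer ((S : Subgroup G) : Set G) := by
    rw [show ρ * σ = (v⁻¹ * s⁻¹) * (r * σ) by rw [hρ, hr0]; group]
    exact mul_mem (le_normalizer (mul_mem (inv_mem (hF.le hv)) (inv_mem hs))) hN
  have hρU : ρ ∈ normalizer (U : Set G) :=
    mul_mem (inv_mem (le_normalizer hv)) (mul_mem (inv_mem (hF.trans_le hs).2.1) hr.2.1)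
  refine ⟨ρ, hvr, hρA, hρS, mul_mem hρU hσU, fun w hw => ?_⟩
  have h1 : ρ * w * ρ⁻¹ * w⁻¹ ∈ U := mul_mem ((mem_normalizer_iff.1 hρU w).1 hw.1) (inv_mem hw.1)
  have h2 : ρ * w * ρ⁻¹ * w⁻¹ ∈ core c := by
    have := mul_mem hvr (core_conj hd (hF.top.le hw.1).1 (inv_mem hvr))
    rwa [show ρ * (w * ρ⁻¹ * w⁻¹) = ρ * w * ρ⁻¹ * w⁻¹ by group] at this
  obtain ⟨j, hj⟩ := exists_pow_two hF.top.two h1
  have h3 : ρ * w = w * ρ := mul_inv_eq_iff_eq_mul.1 (mul_inv_eq_one.1 (eq_one_of_two_core hj h2))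
  rw [mul_assoc, hσQ w hw, ← mul_assoc, h3, mul_assoc]

/-- The stabiliser of the frame is transitive on `A`. -/
theorem exists_mover_A {a b : G} (ha : a ∈ A) (ha1 : a ≠ 1) (hb : b ∈ A) (hb1 : b ≠ 1) :
    ∃ g ∈ normalizer ((S : Subgroup G) : Set G), g ∈ normalizer (U : Set G) ∧
      g ∈ normalizer (A : Set G) ∧ (∀ w ∈ Qpart A c U, g * w = w * g) ∧ g * a * g⁻¹ = b := by
  classical
  obtain ⟨K, k, T, hd⟩ := exists_blockData hC hF.bad hF.cent
  haveI := Fintype.ofFinite (Sylow 2 K)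
  obtain ⟨T', hT'⟩ := Fintype.exists_ne_of_one_lt_card (by
    rw [← Nat.card_eq_fintype_card, card_sylow hd.facts]
    have : 0 < (2 ^ (2 * k + 1)) ^ 2 := by positivity
    omega) T
  let a' : ↥(cH c) := ⟨a, A_le_cH hF.cent ha⟩
  let b' : ↥(cH c) := ⟨b, A_le_cH hF.cent hb⟩
  have haK : cπ c a' ∈ K := hd.Abar_le ⟨a', mem_subgroupOf.2 ha, rfl⟩
  have hbK : cπ c b' ∈ K := hd.Abar_le ⟨b', mem_subgroupOf.2 hb, rfl⟩
  obtain ⟨haT, ha2⟩ := (hd.omega ⟨_, haK⟩).1 ⟨a', mem_subgroupOf.2 ha, rfl⟩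
  obtain ⟨hbT, hb2⟩ := (hd.omega ⟨_, hbK⟩).1 ⟨b', mem_subgroupOf.2 hb, rfl⟩
  have hne : ∀ (x : G) (hx : x ∈ A) (hx1 : x ≠ 1), cπ c ⟨x, A_le_cH hF.cent hx⟩ ≠ 1 := fun x hx hx1 e =>
    hx1 (eq_one_of_image (x := ⟨x, A_le_cH hF.cent hx⟩) (k := 1) (by rw [pow_one]; exact hC.pt.elem.2 _ hx) e)
  obtain ⟨t, ht, htab⟩ := tor_trans hd.facts hT'.symm (x := ⟨_, haK⟩) (y := ⟨_, hbK⟩) haT ha2
    (fun e => hne a ha ha1 (congrArg Subtype.val e)) hbT hb2 (fun e => hne b hb hb1 (congrArg Subtype.val e))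
  obtain ⟨σ, hσM, hσt, hσU, hσQ⟩ := exists_torus hd hF.top ht.1
  have hσA := mem_normalizer_A hC hF.top.two hF.top.A_le hσU
  obtain ⟨ρ, hρc, hρA, hρS, hρU, hρQ⟩ := exists_adjust hC hA hF σ.2 hσM hσU hσA hσQ
  refine ⟨ρ * σ, hρS, hρU, mul_mem (centralizer_le_normalizer _ hρA) hσA, hρQ, ?_⟩
  have h1 : (σ : G) * a * (σ : G)⁻¹ ∈ A := (mem_normalizer_iff.1 hσA a).1 ha
  have h2 := eq_one_of_image (x := σ * a' * σ⁻¹ * b'⁻¹) (k := 1)
    (by rw [pow_one]; exact hC.pt.elem.2 _ (mul_mem h1 (inv_mem hb))) (by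
      rw [map_mul, map_mul, map_mul, map_inv, map_inv, hσt]
      have := congrArg Subtype.val htab
      simp only [Subgroup.coe_mul, Subgroup.coe_inv] at this
      rw [this, mul_inv_cancel])
  calc ρ * σ * a * (ρ * σ)⁻¹ = ρ * (σ * a * (σ : G)⁻¹) * ρ⁻¹ := by group
    _ = σ * a * (σ : G)⁻¹ := commute_of_mem_cent h1 hρA
    _ = b := mul_inv_eq_one.1 h2

/-- A torus element of odd order normalising the frame. -/
theorem exists_tau_frame : ∃ τ : G, Odd (orderOf τ) ∧ τ ∈ normalizer ((S : Subgroup G) : Set G) ∧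
    τ ∈ normalizer (U : Set G) ∧ τ ∈ normalizer (A : Set G) ∧ τ ^ l ∈ centralizer (A : Set G) ∧
    τ ∉ centralizer (A : Set G) ∧ ∀ w ∈ Qpart A c U, τ * w = w * τ := by
  obtain ⟨K, k, T, hd⟩ := exists_blockData hC hF.bad hF.cent
  obtain ⟨σ, hσc, hσM, hσU, hσA, hσl, hσn, hσQ⟩ := exists_tau hC hA hd hF.top
  obtain ⟨ρ, hρc, hρA, hρS, hρU, hρQ⟩ := exists_adjust hC hA hF hσc hσM hσU hσA hσQ
  have hρN := centralizer_le_normalizer _ hρA
  set τ := ρ * σ with hτ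
  have hτA : τ ∈ normalizer (A : Set G) := mul_mem hρN hσA
  have hτl : τ ^ l ∈ centralizer (A : Set G) := by
    have key : ∀ j : ℕ, τ ^ j * (σ ^ j)⁻¹ ∈ centralizer (A : Set G) := by
      intro j
      induction j with
      | zero => simp
      | succ j ih =>
        rw [pow_succ' τ, pow_succ' σ, show τ * τ ^ j * (σ * σ ^ j)⁻¹ =
          ρ * (σ * (τ ^ j * (σ ^ j)⁻¹) * σ⁻¹) by rw [hτ]; group]
        exact mul_mem hρA (conj_mem_centralizer_A hσA ih)
    have := mul_mem (key l) hσl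
    rwa [inv_mul_cancel_right] at this
  have hτn : τ ∉ centralizer (A : Set G) := fun h => hσn (by
    have := mul_mem (inv_mem hρA) h
    rwa [hτ, inv_mul_cancel_left] at this)
  set j := (orderOf τ).factorization 2
  refine ⟨τ ^ 2 ^ j, ?_, pow_mem hρS _, pow_mem hρU _, pow_mem hτA _, ?_,
    fun h => hτn (hA.even τ hτA j h),
    fun w hw => ((show Commute τ w from hρQ w hw).pow_left _).eq⟩
  · rw [orderOf_pow' _ (by positivity), Nat.gcd_eq_right (Nat.ordProj_dvd _ 2), ← Nat.not_even_iff_odd,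
      even_iff_two_dvd]
    exact Nat.not_dvd_ordCompl Nat.prime_two (orderOf_pos _).ne'
  · rw [← pow_mul, mul_comm, pow_mul]
    exact pow_mem hτl _

end CfsgLib.ThreePrime.Block
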