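import Cfsg.Agent.Lib.ThreePrime.Block.Automizer
import Cfsg.Agent.Lib.PGroups.Basic

/-!
Owner: helper6.  A top group is maximal in the stabiliser of its block; translations.

* `exists_max`: a block has a bad involution with a top group maximal in its stabiliser
* `exists_mover`: an element moving the block and normalising the top group
* `Q_sq`, `card_Q_le`, `mover_trans`, `exists_trans`: the kernel part is elementary of order at most `q` and the
  translations of it fill `A`
-/

set_option autoImplicit false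
set_option linter.all false

namespace CfsgLib.ThreePrime.Block

open Subgroup CfsgLib.Bender.Dichotomy CfsgLib.Signalizer

universe u

local instance factTwoBlockFull : Fact (Nat.Prime 2) := ⟨Nat.prime_two⟩

variable {G : Type u} [Group G] [Finite G] {S : Sylow 2 G} {A : Subgroup G} {m l : ℕ}

/-- The setwise stabiliser of the block of `c`. -/
def blockStab (A : Subgroup G) (c : G) : Subgroup G where
  carrier := {g | ∀ p : Pts A, g • p ∈ Fix A c ↔ p ∈ Fix A c}
  one_mem' p := by rw [one_smul]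
  mul_mem' {x y} hx hy p := by rw [mul_smul]; exact (hx _).trans (hy p)
  inv_mem' {x} hx p := by rw [← hx (x⁻¹ • p), smul_inv_smul]

/-- Every element of `V` maps the block of `c` to itself. -/
abbrev Stabilises (A : Subgroup G) (c : G) (V : Subgroup G) : Prop := V ≤ blockStab A c

theorem stabilises_of_le {c : G} {V : Subgroup G} (h : V ≤ cH c) : Stabilises A c V := by
  intro v hv p
  have h1 : v • p ∈ Fix A (v * c * v⁻¹) ↔ p ∈ Fix A c := mem_fix_conj
  rwa [mem_centralizer_singleton_iff.1 (h hv), mul_inv_cancel_right] at h1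

omit [Finite G] in
theorem conj_mem_ker {c v q : G} {V : Subgroup G} (h : Stabilises A c V) (hv : v ∈ V)
    (hq : q ∈ blockKer A c) : v * q * v⁻¹ ∈ blockKer A c := by
  rw [blockKer, mem_fixingSubgroup_iff] at hq ⊢
  intro p hp
  have h1 : v⁻¹ • p ∈ Fix A c := (h (inv_mem hv) p).2 hp
  rw [mul_smul, mul_smul, hq _ h1, smul_inv_smul]

omit [Finite G] in
theorem c_mem_ker (c : G) : c ∈ blockKer A c := (mem_fixingSubgroup_iff _).2 fun _ hp => hp

/-- A top group which is maximal in the stabiliser of its block. -/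
structure IsMax (A : Subgroup G) (c : G) (U : Subgroup G) : Prop extends IsTop A c U where
  stab_max : ∀ V : Subgroup G, IsPGroup 2 V → U ≤ V → V ≤ pM A → Stabilises A c V → V = U

theorem ker_bad (hC : Ctx S A) {c w : G} (hc : Bad A c) (hB : BlockFacts A c) (hw : w ∈ blockKer A c)
    (hw2 : orderOf w = 2) (hwc : Commute w c) : Fix A w = Fix A c ∧ Bad A w := by
  have hfix := hB.fix_eq w hw hw2 hwc
  have hb : base A ∈ Fix A c := base_mem_fix_iff.2 hc.mem
  refine ⟨hfix, (bad_iff hC).2 ⟨hw2, ?_, fun e => ?_⟩⟩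
  · rw [← base_mem_fix_iff, hfix]; exact hb
  · have h1 := card_fix_bad hC hc
    rw [← hfix, e] at h1
    simp at h1
    exact absurd h1 (Nat.card_pos (α := A)).ne'

theorem exists_max (hC : Ctx S A) (hA : Aut A m l) {c : G} (hc : Bad A c)
    (hcA : c ∈ centralizer (A : Set G)) {V0 : Subgroup G} (h2 : IsPGroup 2 V0) (hA0 : A ≤ V0)
    (hc0 : c ∈ V0) (hM : V0 ≤ pM A) (hstab : Stabilises A c V0) :
    ∃ c1 V, Bad A c1 ∧ c1 ∈ centralizer (A : Set G) ∧ Fix A c1 = Fix A c ∧ IsMax A c1 V ∧ V0 ≤ V := by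
  classical
  obtain ⟨V, ⟨hV2, hV0, hVM, hVs⟩, hmax⟩ := (Set.toFinite {V : Subgroup G |
    IsPGroup 2 V ∧ V0 ≤ V ∧ V ≤ pM A ∧ Stabilises A c V}).exists_maximal ⟨V0, h2, le_rfl, hM, hstab⟩
  let N : Subgroup V := (blockKer A c).subgroupOf V
  haveI : N.Normal := ⟨fun q hq v => mem_subgroupOf.2 (conj_mem_ker hVs v.2 (mem_subgroupOf.1 hq))⟩
  have hN : N ≠ ⊥ := fun e => by
    have h : (⟨c, hV0 hc0⟩ : V) ∈ N := mem_subgroupOf.2 (c_mem_ker c)
    rw [e, mem_bot] at h
    exact involution_ne_one hc.ord (congrArg Subtype.val h)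
  haveI : Nontrivial ↥(N ⊓ center V) := (Subgroup.nontrivial_iff_ne_bot _).2
    (CfsgLib.PGroups.inf_center_ne_bot hV2 hN)
  have hd : 2 ∣ Nat.card ↥(N ⊓ center V) := by
    rcases (hV2.to_subgroup (N ⊓ center V)).card_eq_or_dvd with h | h
    · exact absurd h (Finite.one_lt_card).ne'
    · exact h
  obtain ⟨z, hz⟩ := exists_prime_orderOf_dvd_card' 2 hd
  rw [← Subgroup.orderOf_coe, ← Subgroup.orderOf_coe] at hz
  set c1 : G := ((z : V) : G) with hc1
  have hcen : ∀ v ∈ V, Commute c1 v := fun v hv =>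
    (congrArg Subtype.val (mem_center_iff.1 z.2.2 ⟨v, hv⟩)).symm
  obtain ⟨hfix, hb1⟩ := ker_bad hC hc (hC.bad c hc (centralizer_le_normalizer _ hcA)).2
    (mem_subgroupOf.1 z.2.1) hz (hcen c (hV0 hc0))
  have hc1A : c1 ∈ centralizer (A : Set G) :=
    mem_centralizer_iff.2 fun a ha => (hcen a (hV0 (hA0 ha))).eq.symm
  have hstab1 : ∀ W : Subgroup G, Stabilises A c1 W → Stabilises A c W := fun W h v hv p => by
    rw [← hfix]; exact h hv p
  have hVc : V ≤ cH c1 := fun v hv => mem_centralizer_singleton_iff.2 (hcen v hv).eq.symm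
  have hup : ∀ W : Subgroup G, IsPGroup 2 W → V ≤ W → W ≤ pM A → Stabilises A c W → W = V :=
    fun W h h1 h2 h3 => le_antisymm (hmax ⟨h, hV0.trans h1, h2, h3⟩ h1) h1
  exact ⟨c1, V, hb1, hc1A, hfix,
    ⟨⟨hV2, hA0.trans hV0, le_inf hVc hVM, fun W h h1 h2 => hup W h h1 (h2.trans inf_le_right)
      (hstab1 W (stabilises_of_le (h2.trans inf_le_left)))⟩,
      fun W h h1 h2 h3 => hup W h h1 h2 (hstab1 W h3)⟩, hV0⟩

/-- An element moving the block and normalising the top group. -/
structure Mover (A : Subgroup G) (c : G) (U : Subgroup G) (u : G) : Prop where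
  mem : u ∈ pM A
  norm : u ∈ normalizer (U : Set G)
  cent : u ∈ centralizer (A : Set G)
  not_mem : u ∉ U
  sq : u ^ 2 ∈ U
  meet : ∀ q ∈ Qpart A c U, u * q * u⁻¹ ∈ Qpart A c U → q = 1

variable {c : G} {U : Subgroup G}

theorem top_le_centralizer (hC : Ctx S A) (hA : Aut A m l) (hU : IsTop A c U) :
    U ≤ centralizer (A : Set G) :=
  le_centralizer_of_two hA hU.two (le_normalizer_of_two hC hU.two hU.A_le)

variable {K : Subgroup (cQ c)} {k : ℕ} {T : Sylow 2 K}

theorem exists_mover (hC : Ctx S A) (hA : Aut A m l) (hd : BlockData A c K k T) (hU : IsMax A c U) :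
    ∃ u, Mover A c U u := by
  classical
  obtain ⟨P, hUP, hPle, hP, hPmax, hPconj⟩ := exists_sylow_in hU.two (hU.le.trans inf_le_right)
  have hne : U.subgroupOf P ≠ ⊤ := by
    intro e
    have hPU : P ≤ U := subgroupOf_eq_top.1 e
    obtain ⟨x, hx, hle⟩ := hPconj (S : Subgroup G) (S_le_pM hC) S.isPGroup'
    have := card_lt_of_bad hC hA hd.bad hU.two hU.le
    have := Nat.le_of_dvd Nat.card_pos (card_dvd_of_le (hle.trans hPU))
    rw [card_cj] at this
    omega
  haveI := hP.isNilpotent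
  obtain ⟨w, hwN, hwU⟩ := Set.exists_of_ssubset
    (Group.normalizerCondition_of_isNilpotent (U.subgroupOf P) (lt_top_iff_ne_top.2 hne))
  obtain ⟨j, hj⟩ := hP w
  have hex : ∃ i : ℕ, w ^ 2 ^ i ∈ U.subgroupOf P := ⟨j, by rw [hj]; exact one_mem _⟩
  have hi0 : Nat.find hex ≠ 0 := fun e => hwU (by
    have := Nat.find_spec hex; rwa [e, pow_zero, pow_one] at this)
  set u : P := w ^ 2 ^ (Nat.find hex - 1) with hu
  have huU : (u : G) ∉ U := fun h => Nat.find_min hex (by omega) (mem_subgroupOf.2 h)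
  have husq : (u : G) ^ 2 ∈ U := by
    have := mem_subgroupOf.1 (Nat.find_spec hex)
    rwa [show Nat.find hex = Nat.find hex - 1 + 1 by omega, pow_succ, pow_mul, ← hu,
      SubgroupClass.coe_pow] at this
  have huN : (u : G) ∈ normalizer (U : Set G) := by
    refine mem_normalizer_of_cj (eq_of_le_of_card_ge (cj_le_iff.2 fun v hv => ?_) (card_cj _ _).ge)
    exact mem_subgroupOf.1 ((mem_normalizer_iff.1 (pow_mem hwN (2 ^ (Nat.find hex - 1))) ⟨v, hUP hv⟩).1
      (mem_subgroupOf.2 hv))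
  refine ⟨u, hPle u.2, huN, le_centralizer_of_two hA hP (le_normalizer_of_two hC hP
    (hU.A_le.trans hUP)) u.2, huU, husq, fun q hq hq' => ?_⟩
  -- a common element of the kernel and its conjugate
  by_contra hq1
  obtain ⟨r, hr⟩ : ∃ r ∈ zpowers q, orderOf r = 2 := by
    have hp : IsPGroup 2 (zpowers q) := hU.two.to_le (zpowers_le.2 hq.1)
    have hd2 : 2 ∣ Nat.card (zpowers q) := by
      rcases hp.card_eq_or_dvd with h | h
      · rw [Nat.card_zpowers, orderOf_eq_one_iff] at h; exact absurd h hq1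
      · exact h
    obtain ⟨r, hr⟩ := exists_prime_orderOf_dvd_card' 2 hd2
    exact ⟨r, r.2, by rw [Subgroup.orderOf_coe, hr]⟩
  have hrQ : r ∈ Qpart A c U := zpowers_le.2 hq hr.1
  have hrQ' : (u : G) * r * (u : G)⁻¹ ∈ Qpart A c U := by
    have h1 : zpowers q ≤ (Qpart A c U).comap (MulAut.conj (u : G)).toMonoidHom := zpowers_le.2 hq'
    exact h1 hr.1
  have hcomm : ∀ x ∈ Qpart A c U, Commute x c := fun x hx =>
    mem_centralizer_singleton_iff.1 (hU.le hx.1).1
  obtain ⟨hf1, -⟩ := ker_bad hC hd.bad hd.bf hrQ.2 hr.2 (hcomm r hrQ)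
  obtain ⟨hf2, -⟩ := ker_bad hC hd.bad hd.bf hrQ'.2
    (by rw [CfsgLib.Signalizer.orderOf_conj]; exact hr.2) (hcomm _ hrQ')
  have hu_stab : (u : G) ∈ blockStab A c := fun p => by
    have h1 : (u : G) • p ∈ Fix A ((u : G) * r * (u : G)⁻¹) ↔ p ∈ Fix A r := mem_fix_conj
    rwa [hf1, hf2] at h1
  have hWstab : Stabilises A c (U ⊔ zpowers (u : G)) :=
    sup_le (stabilises_of_le (hU.le.trans inf_le_left)) (zpowers_le.2 hu_stab)
  have hsub : U ⊔ zpowers (u : G) ≤ P := sup_le hUP (zpowers_le.2 u.2)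
  have := hU.stab_max _ (hP.to_le hsub) le_sup_left (hsub.trans hPle) hWstab
  exact huU (this ▸ mem_sup_right (mem_zpowers _))

end CfsgLib.ThreePrime.Block
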