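import Cfsg.Agent.Lib.ThreePrime.Block.Frame
import Cfsg.Agent.Lib.ThreePrime.Block.CentralTwoSpec

/-!
Owner: helper6.  `C(A)` modulo `A` and its core.

* `gΓ`, `gπ`, `gD`, `gW`, `gAut`
* `centralTwo_gamma`: the hypotheses of `CentralTwoGoal` hold
* `gamma_normal`: with `CentralTwoGoal`, the images of `S` and the kernel part are normal and the torus
  is trivial on the quotient
-/

set_option autoImplicit false
set_option linter.all false

namespace CfsgLib.ThreePrime.Block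

open Subgroup CfsgLib.Bender.Dichotomy CfsgLib.Signalizer
open scoped Pointwise

universe u

local instance factTwoBlockGamma : Fact (Nat.Prime 2) := ⟨Nat.prime_two⟩

variable {G : Type u} [Group G]

instance normal_subgroupOf_centralizer (A : Subgroup G) :
    (A.subgroupOf (centralizer (A : Set G))).Normal :=
  ⟨fun a ha x => mem_subgroupOf.2 (by
    show (x : G) * a * (x : G)⁻¹ ∈ A
    rw [← mem_centralizer_iff.1 x.2 _ (mem_subgroupOf.1 ha), mul_inv_cancel_right]
    exact mem_subgroupOf.1 ha)⟩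

/-- `C(A)`. -/
abbrev gX (A : Subgroup G) : Subgroup G := centralizer (A : Set G)

/-- `C(A)/A`. -/
abbrev gY (A : Subgroup G) : Type u := ↥(gX A) ⧸ A.subgroupOf (centralizer (A : Set G))

/-- `C(A)/A` modulo its core. -/
abbrev gΓ (A : Subgroup G) : Type u := gY A ⧸ Cfsg.oddCore (gY A)

/-- The projection. -/
abbrev gπ (A : Subgroup G) : ↥(gX A) →* gΓ A :=
  (QuotientGroup.mk' (Cfsg.oddCore (gY A))).comp (QuotientGroup.mk' (A.subgroupOf (centralizer (A : Set G))))

/-- The image of a subgroup. -/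
abbrev gimg (A B : Subgroup G) : Subgroup (gΓ A) := (B.subgroupOf (gX A)).map (gπ A)

variable [Finite G] {S : Sylow 2 G} {A : Subgroup G} {m l : ℕ}

/-- Conjugation on `C(A)`. -/
def gConj (A : Subgroup G) (τ : G) (hτ : τ ∈ normalizer (A : Set G)) : ↥(gX A) ≃* ↥(gX A) where
  toFun x := ⟨τ * x * τ⁻¹, conj_mem_centralizer_A hτ x.2⟩
  invFun x := ⟨τ⁻¹ * x * τ, by
    have := conj_mem_centralizer_A (inv_mem hτ) x.2
    rwa [inv_inv] at this⟩
  left_inv x := Subtype.ext (by group)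
  right_inv x := Subtype.ext (by group)
  map_mul' x y := Subtype.ext (by simp [mul_assoc])

theorem gπ_surjective : Function.Surjective (gπ A) :=
  (QuotientGroup.mk'_surjective _).comp (QuotientGroup.mk'_surjective _)

theorem gimg_mem {B : Subgroup G} {x : ↥(gX A)} (hx : (x : G) ∈ B) : gπ A x ∈ gimg A B :=
  ⟨x, mem_subgroupOf.2 hx, rfl⟩

theorem oddCore_gΓ : Cfsg.oddCore (gΓ A) = ⊥ := CfsgLib.Core.pPrimeCore_quotient_pPrimeCore 2 _

/-- A two-element killed by the projection lies in `A`. -/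
theorem mem_A_of_gπ {x : ↥(gX A)} {k : ℕ} (hx : (x : G) ^ 2 ^ k = 1) (h : gπ A x = 1) : (x : G) ∈ A := by
  set y := QuotientGroup.mk' (A.subgroupOf (centralizer (A : Set G))) x with hy
  have hyO : y ∈ Cfsg.oddCore (gY A) := (QuotientGroup.eq_one_iff y).1 h
  have h1 : orderOf y ∣ 2 ^ k := orderOf_dvd_of_pow_eq_one (by
    rw [hy, ← map_pow, show x ^ 2 ^ k = 1 from Subtype.ext hx, map_one])
  have h2 : Odd (orderOf y) := (CfsgLib.ZStar.odd_card_oddCore _).of_dvd_nat (by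
    rw [← Subgroup.orderOf_mk _ hyO]; exact orderOf_dvd_natCard _)
  have h3 : orderOf y = 1 :=
    (Nat.Coprime.pow_right k (Nat.coprime_two_right.2 h2)).eq_one_of_dvd h1
  exact mem_subgroupOf.1 ((QuotientGroup.eq_one_iff x).1 (orderOf_eq_one_iff.1 h3))

/-- Normal subgroups of odd order are killed. -/
theorem gπ_eq_one_of_odd {R : Subgroup G} (hR : Odd (Nat.card R))
    (hN : gX A ≤ normalizer (R : Set G)) {x : ↥(gX A)} (hx : (x : G) ∈ R) : gπ A x = 1 := by
  haveI : (R.subgroupOf (gX A)).Normal := ⟨fun r hr y => mem_subgroupOf.2 (by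
    show (y : G) * r * (y : G)⁻¹ ∈ R
    exact (mem_normalizer_iff.1 (hN y.2) _).1 (mem_subgroupOf.1 hr))⟩
  set N := (R.subgroupOf (gX A)).map (QuotientGroup.mk' (A.subgroupOf (centralizer (A : Set G)))) with hNdef
  have hNn : N.Normal := Subgroup.Normal.map inferInstance _ (QuotientGroup.mk'_surjective _)
  have hodd : Odd (Nat.card N) := by
    refine (hR.of_dvd_nat ?_).of_dvd_nat (card_map_dvd _ _)
    rw [← card_map_of_injective (gX A).subtype_injective, subgroupOf_map_subtype]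
    exact card_dvd_of_le inf_le_left
  exact (QuotientGroup.eq_one_iff _).2
    (CfsgLib.ZStar.le_oddCore hNn hodd (mem_map_of_mem _ (mem_subgroupOf.2 hx)))

theorem X_le_normalizer_W0 : gX A ≤ normalizer (W0 A : Set G) :=
  (centralizer_le_normalizer _).trans normalizer_le_normalizer_W0

theorem gπ_W0 (hC : Ctx S A) {x : ↥(gX A)} (hx : (x : G) ∈ W0 A) : gπ A x = 1 :=
  gπ_eq_one_of_odd (odd_W0 hC) X_le_normalizer_W0 hx

/-- The automorphism induced by a normalising element. -/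
noncomputable def gAut (A : Subgroup G) (τ : G) (hτ : τ ∈ normalizer (A : Set G)) : MulAut (gΓ A) :=
  QuotientGroup.congr _ _
    (QuotientGroup.congr _ _ (gConj A τ hτ) (by
      ext x
      rw [mem_map]
      constructor
      · rintro ⟨y, hy, rfl⟩
        exact mem_subgroupOf.2 ((mem_normalizer_iff.1 hτ _).1 (mem_subgroupOf.1 hy))
      · intro hx
        refine ⟨(gConj A τ hτ).symm x, mem_subgroupOf.2 ?_, (gConj A τ hτ).apply_symm_apply x⟩
        exact (mem_normalizer_iff''.1 hτ _).1 (mem_subgroupOf.1 hx)))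
    (by
      haveI : (Cfsg.oddCore (gY A)).Characteristic := CfsgLib.Components.pPrimeCore_characteristic 2
      exact characteristic_iff_map_eq.1 inferInstance _)

theorem gAut_apply {τ : G} (hτ : τ ∈ normalizer (A : Set G)) (x : ↥(gX A)) :
    gAut A τ hτ (gπ A x) = gπ A ⟨τ * x * τ⁻¹, conj_mem_centralizer_A hτ x.2⟩ := rfl

theorem gAut_pow {τ : G} (hτ : τ ∈ normalizer (A : Set G)) (j : ℕ) (x : ↥(gX A)) :
    (gAut A τ hτ ^ j) (gπ A x) =
      gπ A ⟨τ ^ j * x * (τ ^ j)⁻¹, conj_mem_centralizer_A (pow_mem hτ j) x.2⟩ := by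
  induction j generalizing x with
  | zero =>
    rw [pow_zero, MulAut.one_apply]
    exact congrArg _ (Subtype.ext (by simp))
  | succ j ih =>
    rw [pow_succ', MulAut.mul_apply, ih, gAut_apply]
    exact congrArg _ (Subtype.ext (by
      show τ * (τ ^ j * x * (τ ^ j)⁻¹) * τ⁻¹ = τ ^ (j + 1) * x * (τ ^ (j + 1))⁻¹
      rw [pow_succ']
      group))

/-- The Sylow subgroup of `C(A)`. -/
theorem exists_sylow_gΓ (hC : Ctx S A) (hA : Aut A m l) :
    ∃ P : Sylow 2 (gΓ A), (P : Subgroup (gΓ A)) = gimg A (S : Subgroup G) :=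
  ⟨(S.subtype (S_le_centralizer hC hA)).mapSurjective gπ_surjective, rfl⟩

theorem card_gΓ_dvd : Nat.card (gΓ A) ∣ Nat.card G :=
  ((card_quotient_dvd_card _).trans (card_quotient_dvd_card _)).trans (card_subgroup_dvd_card _)

theorem card_gΓ_lt (hC : Ctx S A) : Nat.card (gΓ A) < Nat.card G := by
  refine lt_of_le_of_lt (Nat.le_of_dvd Nat.card_pos
    ((card_quotient_dvd_card _).trans (card_quotient_dvd_card _)))
    (lt_of_le_of_ne (card_le_card_group _) fun e => ?_)
  exact pM_ne_top hC (top_le_iff.1 ((eq_top_of_card_eq _ e).ge.trans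
    ((centralizer_le_normalizer _).trans le_sup_left)))

theorem card_U {c : G} {U : Subgroup G} {K : Subgroup (cQ c)} {k : ℕ} {T : Sylow 2 K}
    (hd : BlockData A c K k T) (hU : IsTop A c U) :
    Nat.card U = Nat.card A ^ 2 * Nat.card (Qpart A c U) := by
  rw [← card_P hd hU, ← Nat.card_prod]
  refine (Nat.card_congr (Equiv.ofBijective
    (fun x : Ppart c K U × Qpart A c U => (⟨x.1 * x.2, U.mul_mem x.1.2.1 x.2.2.1⟩ : U)) ⟨?_, ?_⟩)).symm
  · rintro ⟨p, q⟩ ⟨p', q'⟩ e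
    have e' : (p : G) * q = p' * q' := congrArg Subtype.val e
    have h1 : (p' : G)⁻¹ * p = q' * (q : G)⁻¹ := by
      rw [inv_mul_eq_iff_eq_mul, ← mul_assoc, ← e', mul_inv_cancel_right]
    have h2 := P_inf_Q hd hU ((Ppart c K U).mul_mem ((Ppart c K U).inv_mem p'.2) p.2)
      (h1 ▸ (Qpart A c U).mul_mem q'.2 ((Qpart A c U).inv_mem q.2))
    have hp : (p' : G) = p := inv_mul_eq_one.1 h2
    rw [hp] at e'
    exact Prod.ext (Subtype.ext hp.symm) (Subtype.ext (mul_left_cancel e'))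
  · intro v
    obtain ⟨p, hp, q, hq, e⟩ := exists_P_mul_Q hd hU v.2
    exact ⟨(⟨p, hp⟩, ⟨q, hq⟩), Subtype.ext e.symm⟩

theorem P_sq_mem (hC : Ctx S A) {c : G} {U : Subgroup G} {K : Subgroup (cQ c)} {k : ℕ}
    {T : Sylow 2 K} (hd : BlockData A c K k T) (hU : IsTop A c U) {p : G} (hp : p ∈ Ppart c K U) :
    p ^ 2 ∈ A := by
  refine (P_sq_iff hC hd hU (pow_mem hp 2)).1 ?_
  let p' : ↥(cH c) := ⟨p, top_mem_cH hd hU hp.1⟩
  obtain ⟨hK, hT⟩ := P_image hd hU (p := p') hp
  obtain ⟨j, hj⟩ := exists_pow_two hU.two (pow_mem (pow_mem hp.1 2) 2)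
  refine eq_one_of_image (x := (p' ^ 2) ^ 2) (k := j) hj ?_
  rw [map_pow, map_pow]
  exact congrArg Subtype.val (sq_sq hd.facts hT)

variable {c : G} {U : Subgroup G} (hC : Ctx S A) (hA : Aut A m l) (hF : Frame S A c U)
include hC hA hF

theorem frame_card_D : Nat.card (gimg A (S : Subgroup G)) = Nat.card U := by
  have hSX := S_le_centralizer hC hA
  let f : (S : Subgroup G) →* gΓ A := (gπ A).comp (inclusion hSX)
  have hker : f.ker = A.subgroupOf (S : Subgroup G) := by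
    ext x
    obtain ⟨j, hj⟩ := exists_pow_two S.isPGroup' x.2
    refine ⟨fun h => mem_subgroupOf.2 (mem_A_of_gπ (x := inclusion hSX x) hj h), fun h => ?_⟩
    show QuotientGroup.mk' _ (QuotientGroup.mk' _ (inclusion hSX x)) = 1
    rw [show QuotientGroup.mk' (A.subgroupOf (centralizer (A : Set G))) (inclusion hSX x) = 1 from
      (QuotientGroup.eq_one_iff _).2 (mem_subgroupOf.2 (mem_subgroupOf.1 h)), map_one]
  have hrange : f.range = gimg A (S : Subgroup G) := by
    ext z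
    constructor
    · rintro ⟨x, rfl⟩; exact gimg_mem x.2
    · rintro ⟨x, hx, rfl⟩; exact ⟨⟨x, mem_subgroupOf.1 hx⟩, rfl⟩
  have h1 := f.ker.index_mul_card
  rw [index_ker, hrange, hker, Nat.card_congr (subgroupOfEquivOfLe hC.pt.le).toEquiv, hF.card,
    mul_comm (Nat.card A)] at h1
  exact Nat.eq_of_mul_eq_mul_right Nat.card_pos h1

theorem frame_Q_data :
    (∀ q ∈ Qpart A c U, q ^ 2 = 1) ∧ (∀ a ∈ A, a ∈ Qpart A c U → a = 1) ∧
      Nat.card (Qpart A c U) ≤ Nat.card A ∧ c ∈ Qpart A c U ∧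
      Nat.card U = Nat.card A ^ 2 * Nat.card (Qpart A c U) := by
  obtain ⟨K, k, T, hd⟩ := exists_blockData hC hF.bad hF.cent
  have hM := top_isMax hC hA hF.bad hF.cent hF.top
  obtain ⟨u, hu⟩ := exists_mover hC hA hd hM
  exact ⟨fun q hq => Q_sq hC hA hd hM hu hq, fun a ha h => A_inf_Q hC hd hM ha h,
    card_Q_le hC hA hd hM hu, c_mem_Q hd hF.top, card_U hd hF.top⟩

theorem Q_le_X : Qpart A c U ≤ gX A := fun _ hw => top_le_centralizer hC hA hF.top hw.1

theorem frame_card_W : Nat.card (gimg A (Qpart A c U)) = Nat.card (Qpart A c U) := by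
  refine (Nat.card_congr (Equiv.ofBijective
    (fun q : Qpart A c U => (⟨gπ A ⟨q, Q_le_X hC hA hF q.2⟩, gimg_mem q.2⟩ : gimg A (Qpart A c U)))
    ⟨fun q r e => Subtype.ext ?_, fun z => ?_⟩)).symm
  · have e' : gπ A ⟨q, Q_le_X hC hA hF q.2⟩ = gπ A ⟨r, Q_le_X hC hA hF r.2⟩ := congrArg Subtype.val e
    have hm := (Qpart A c U).mul_mem ((Qpart A c U).inv_mem r.2) q.2
    obtain ⟨j, hj⟩ := exists_pow_two hF.top.two hm.1
    refine (inv_mul_eq_one.1 ((frame_Q_data hC hA hF).2.1 _ (mem_A_of_gπ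
      (x := ⟨(r : G)⁻¹ * q, Q_le_X hC hA hF hm⟩) hj ?_) hm)).symm
    rw [show (⟨(r : G)⁻¹ * q, Q_le_X hC hA hF hm⟩ : ↥(gX A)) =
      ⟨r, Q_le_X hC hA hF r.2⟩⁻¹ * ⟨q, Q_le_X hC hA hF q.2⟩ from rfl, map_mul, map_inv, e',
      inv_mul_cancel]
  · obtain ⟨x, hx, e⟩ := z.2
    exact ⟨⟨x, mem_subgroupOf.1 hx⟩, Subtype.ext e⟩

/-- The centraliser of an element of `W` is `D`. -/
theorem frame_cent {w : ↥(gX A)} (hw : (w : G) ∈ Qpart A c U) (hw1 : (w : G) ≠ 1) :
    centralizer ({gπ A w} : Set (gΓ A)) = gimg A (S : Subgroup G) := by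
  have hSX := S_le_centralizer hC hA
  obtain ⟨hQ2, hAQ, -, -, -⟩ := frame_Q_data hC hA hF
  refine le_antisymm (fun z hz => ?_) ?_
  · obtain ⟨x, rfl⟩ := gπ_surjective z
    set p : ↥(gX A) →* gY A := QuotientGroup.mk' _ with hp
    have hv2 : orderOf (p w) = 2 := by
      refine orderOf_eq_prime ?_ (fun e => hw1 (hAQ _ (mem_subgroupOf.1 ((QuotientGroup.eq_one_iff w).1 e)) hw))
      rw [← map_pow, show w ^ 2 = 1 from Subtype.ext (hQ2 _ hw), map_one]
    have hcomm : p x * p w * (p x)⁻¹ * p w ∈ Cfsg.oddCore (gY A) := by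
      refine (QuotientGroup.eq_one_iff _).1 ?_
      show QuotientGroup.mk' (Cfsg.oddCore (gY A)) (p x * p w * (p x)⁻¹ * p w) = 1
      rw [map_mul, map_mul, map_mul, map_inv]
      show gπ A x * gπ A w * (gπ A x)⁻¹ * gπ A w = 1
      rw [mem_centralizer_singleton_iff.1 hz, mul_inv_cancel_right, ← map_mul,
        show w * w = 1 from Subtype.ext (by show (w : G) * w = 1; rw [← sq]; exact hQ2 _ hw), map_one]
    obtain ⟨r, hr, hrw⟩ := exists_conj_odd_mul (CfsgLib.ZStar.odd_card_oddCore (gY A))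
      (by rw [CfsgLib.Signalizer.orderOf_conj]; exact hv2) hv2 hcomm
    obtain ⟨x0, hx0⟩ := QuotientGroup.mk'_surjective _ r
    have hx01 : gπ A x0 = 1 := by
      show QuotientGroup.mk' (Cfsg.oddCore (gY A)) (QuotientGroup.mk' _ x0) = 1
      rw [hx0]
      exact (QuotientGroup.eq_one_iff r).2 hr
    set x' := x0 * x with hx'
    have ha : (x' : G) * w * (x' : G)⁻¹ * (w : G)⁻¹ ∈ A := by
      refine mem_subgroupOf.1 ((QuotientGroup.eq_one_iff (x' * w * x'⁻¹ * w⁻¹)).1 ?_)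
      show p (x' * w * x'⁻¹ * w⁻¹) = 1
      rw [map_mul, map_mul, map_mul, map_inv, map_inv, hx', map_mul, show p x0 = r from hx0,
        mul_inv_eq_one]
      rw [show r * p x * p w * (r * p x)⁻¹ = r * (p x * p w * (p x)⁻¹) * r⁻¹ by group, hrw]
    set a := (x' : G) * w * (x' : G)⁻¹ * (w : G)⁻¹ with hadef
    obtain ⟨g, hg, hgw⟩ := frame_exists_value hC hA hF hw hw1 ha
    rw [hadef, inv_mul_cancel_right] at hgw
    set g' : ↥(gX A) := ⟨g, hSX hg⟩ with hg'
    set y := g'⁻¹ * x' with hy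
    have hyw : (y : G) * w = w * y := by
      show g⁻¹ * (x' : G) * w = w * (g⁻¹ * x')
      calc g⁻¹ * (x' : G) * w = g⁻¹ * ((x' : G) * w * (x' : G)⁻¹) * x' := by group
        _ = g⁻¹ * (g * w * g⁻¹) * x' := by rw [hgw]
        _ = _ := by group
    obtain ⟨-, hwb, hwA, -⟩ := frame_bad hC hA hF hw hw1
    obtain ⟨K, k, T, hd⟩ := exists_blockData hC hwb hwA
    obtain ⟨v, hv, hvc⟩ := exists_top_mul_core hC hA hd (top_of_Q hC hA hF hw hw1)
      (mem_centralizer_singleton_iff.2 hyw) y.2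
    let v' : ↥(gX A) := ⟨v, hSX (hF.le hv)⟩
    have hvy : gπ A (v'⁻¹ * y) = 1 := gπ_W0 hC (by
      rw [core_eq_bad hC hwb] at hvc; exact hvc.1)
    rw [map_mul, map_inv, inv_mul_eq_one] at hvy
    have e : gπ A x = gπ A g' * gπ A v' := by
      rw [hvy, hy, map_mul, map_inv, mul_inv_cancel_left, hx', map_mul, hx01, one_mul]
    rw [e]
    exact mul_mem (gimg_mem hg) (gimg_mem (hF.le hv))
  · rintro _ ⟨g, hg, rfl⟩
    rw [mem_centralizer_singleton_iff, ← mul_inv_eq_iff_eq_mul, ← mul_inv_eq_one, ← map_inv, ← map_inv,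
      ← map_mul, ← map_mul, ← map_mul]
    show QuotientGroup.mk' _ (QuotientGroup.mk' _ (g * w * g⁻¹ * w⁻¹)) = 1
    rw [show QuotientGroup.mk' (A.subgroupOf (centralizer (A : Set G))) (g * w * g⁻¹ * w⁻¹) = 1 from
      (QuotientGroup.eq_one_iff _).2 (mem_subgroupOf.2
        (frame_trans_value hC hA hF (mem_subgroupOf.1 hg) hw)), map_one]

/-- A torus element fixes only the image of the kernel part of `S`. -/
theorem frame_fixed {τ : G} (hτA : τ ∈ normalizer (A : Set G)) (hτl : τ ^ l ∈ centralizer (A : Set G))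
    (hτn : τ ∉ centralizer (A : Set G)) (hτS : τ ∈ normalizer ((S : Subgroup G) : Set G))
    (hτQ : ∀ w ∈ Qpart A c U, τ * w = w * τ) {g : G} (hg : g ∈ (S : Subgroup G))
    (hfix : τ * g * τ⁻¹ * g⁻¹ ∈ A) : ∃ a ∈ A, ∃ q ∈ Qpart A c U, g = a * q := by
  set a0 := τ * g * τ⁻¹ * g⁻¹ with ha0
  have hτg : τ * g * τ⁻¹ = a0 * g := by rw [ha0, inv_mul_cancel_right]
  obtain ⟨-, -, -, hcQ, -⟩ := frame_Q_data hC hA hF
  have hc1 : c ≠ 1 := involution_ne_one hF.bad.ord
  have hgA := S_le_centralizer hC hA hg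
  have h1 : g * c * g⁻¹ * c⁻¹ ∈ A := frame_trans_value hC hA hF hg hcQ
  have hfix1 : τ * (g * c * g⁻¹ * c⁻¹) * τ⁻¹ = g * c * g⁻¹ * c⁻¹ := by
    have hcτ : τ * c * τ⁻¹ = c := by rw [hτQ c hcQ, mul_inv_cancel_right]
    have hA0c : a0 * c * a0⁻¹ = c := by
      rw [mem_centralizer_iff.1 hF.cent a0 hfix, mul_inv_cancel_right]
    calc τ * (g * c * g⁻¹ * c⁻¹) * τ⁻¹
        = (τ * g * τ⁻¹) * (τ * c * τ⁻¹) * (τ * g * τ⁻¹)⁻¹ * (τ * c * τ⁻¹)⁻¹ := by group
      _ = a0 * (g * c * g⁻¹ * c⁻¹) * a0⁻¹ * (a0 * c * a0⁻¹ * c⁻¹) := by rw [hτg, hcτ]; group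
      _ = g * c * g⁻¹ * c⁻¹ := by
          rw [hA0c, mul_inv_cancel, mul_one, elementary_comm hC.pt.elem hfix h1, mul_inv_cancel_right]
  have hgc : g * c = c * g :=
    mul_inv_eq_iff_eq_mul.1 (mul_inv_eq_one.1 (hA.free τ hτA hτl hτn _ h1 hfix1))
  have hgU := S_inf_cent hC hA hF hcQ hc1 hg hgc
  obtain ⟨K, k, T, hd⟩ := exists_blockData hC hF.bad hF.cent
  obtain ⟨p, hp, q, hq, rfl⟩ := exists_P_mul_Q hd hF.top hgU
  have hτp : τ * p * τ⁻¹ = a0 * p := by
    have h2 : τ * (p * q) * τ⁻¹ = τ * p * τ⁻¹ * q := by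
      rw [show τ * (p * q) * τ⁻¹ = τ * p * τ⁻¹ * (τ * q * τ⁻¹) by group, hτQ q hq,
        mul_inv_cancel_right]
    rw [h2, ← mul_assoc a0 p q] at hτg
    exact mul_right_cancel hτg
  have hp2 := P_sq_mem hC hd hF.top hp
  have h3 : τ * p ^ 2 * τ⁻¹ = p ^ 2 := by
    rw [← conj_pow, hτp, (show Commute a0 p from A_central hC hd hF.top hfix hp.1).mul_pow,
      hC.pt.elem.2 _ hfix, one_mul]
  exact ⟨p, (P_sq_iff hC hd hF.top hp).1 (hA.free τ hτA hτl hτn _ hp2 h3), q, hq, rfl⟩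

/-- The quotient satisfies the hypotheses of `CentralTwoGoal`. -/
theorem centralTwo_gamma {τ : G} (hτA : τ ∈ normalizer (A : Set G)) (hτo : Odd (orderOf τ))
    (hτl : τ ^ l ∈ centralizer (A : Set G))
    (hτn : τ ∉ centralizer (A : Set G)) (hτS : τ ∈ normalizer ((S : Subgroup G) : Set G))
    (hτQ : ∀ w ∈ Qpart A c U, τ * w = w * τ) :
    ∃ k, Nat.card (Qpart A c U) = 2 ^ k ∧
      CentralTwo (gimg A (S : Subgroup G)) (gimg A (Qpart A c U)) (gAut A τ hτA) (2 * m + 1) l k := by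
  obtain ⟨hQ2, hAQ, hQle, hcQ, hUc⟩ := frame_Q_data hC hA hF
  obtain ⟨k, hk⟩ := IsPGroup.iff_card.1 (hF.top.two.to_le (inf_le_left : Qpart A c U ≤ U))
  have hSX := S_le_centralizer hC hA
  refine ⟨k, hk, ?_⟩
  let c' : ↥(gX A) := ⟨c, hF.cent⟩
  have hc' : (c' : G) ∈ Qpart A c U := hcQ
  exact
    { three_le := by have := hA.one_le; omega
      odd := ⟨m, rfl⟩
      prim := hA.prim
      three := fun h => hC.pt.hyp.three (h.trans card_gΓ_dvd)
      core := oddCore_gΓ
      sz := fun N _ E hE => hC.sz _ (component_isSz_of_dvd hC.pt.hyp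
        ((card_quotient_dvd_card N).trans card_gΓ_dvd)
        (lt_of_le_of_lt (Nat.le_of_dvd Nat.card_pos (card_quotient_dvd_card N)) (card_gΓ_lt hC)) hE)
      sylow := exists_sylow_gΓ hC hA
      card_D := by rw [frame_card_D hC hA hF, hUc, hk, hA.card, ← pow_mul, ← pow_add, mul_comm _ 2]
      W_le := map_mono fun x hx => mem_subgroupOf.2 (hF.le (mem_subgroupOf.1 hx).1)
      W_sq := by
        rintro _ ⟨x, hx, rfl⟩
        rw [← map_pow, show x ^ 2 = 1 from Subtype.ext (hQ2 _ (mem_subgroupOf.1 hx)), map_one]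
      card_W := by rw [frame_card_W hC hA hF, hk]
      pos := by
        rcases Nat.eq_zero_or_pos k with rfl | h
        · rw [pow_zero] at hk
          have := eq_bot_of_card_eq (Qpart A c U) hk
          rw [this, mem_bot] at hcQ
          exact absurd hcQ (involution_ne_one hF.bad.ord)
        · exact h
      k_le := by
        rw [hk, hA.card] at hQle
        exact (Nat.pow_le_pow_iff_right Nat.one_lt_two).1 hQle
      cent := by
        rintro _ ⟨x, hx, rfl⟩ hx1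
        refine frame_cent hC hA hF (mem_subgroupOf.1 hx) fun e => hx1 ?_
        rw [show x = 1 from Subtype.ext e, map_one]
      pow := by
        set t : ↥(gX A) := ⟨τ ^ l, hτl⟩ with ht
        have ht1 : gπ A t = 1 := by
          have hD : gπ A t ∈ gimg A (S : Subgroup G) := by
            rw [← frame_cent hC hA hF (w := c') hc' (involution_ne_one hF.bad.ord),
              mem_centralizer_singleton_iff, ← map_mul, ← map_mul]
            exact congrArg _ (Subtype.ext ((show Commute τ c from hτQ c hcQ).pow_left l).eq)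
          obtain ⟨P, hP⟩ := exists_sylow_gΓ hC hA
          rw [← hP] at hD
          obtain ⟨j, hj⟩ := P.isPGroup' ⟨_, hD⟩
          have h1 : orderOf (gπ A t) ∣ 2 ^ j :=
            orderOf_dvd_of_pow_eq_one (congrArg Subtype.val hj)
          have h2 : Odd (orderOf (gπ A t)) := hτo.of_dvd_nat ((orderOf_map_dvd _ t).trans (by
            rw [ht, Subgroup.orderOf_mk]; exact orderOf_pow_dvd l))
          exact orderOf_eq_one_iff.1
            ((Nat.Coprime.pow_right j (Nat.coprime_two_right.2 h2)).eq_one_of_dvd h1)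
        refine MulEquiv.ext fun z => ?_
        obtain ⟨x, rfl⟩ := gπ_surjective z
        rw [gAut_pow, MulAut.one_apply,
          show (⟨τ ^ l * x * (τ ^ l)⁻¹, _⟩ : ↥(gX A)) = t * x * t⁻¹ from rfl,
          map_mul, map_mul, map_inv, ht1, one_mul, inv_one, mul_one]
      map_mem := by
        rintro _ ⟨x, hx, rfl⟩
        rw [gAut_apply]
        exact gimg_mem ((mem_normalizer_iff.1 hτS _).1 (mem_subgroupOf.1 hx))
      fixed := by
        rintro _ ⟨x, hx, rfl⟩
        rw [gAut_apply]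
        have hxS : (x : G) ∈ (S : Subgroup G) := mem_subgroupOf.1 hx
        constructor
        · intro e
          have hmem : τ * x * τ⁻¹ * (x : G)⁻¹ ∈ (S : Subgroup G) :=
            mul_mem ((mem_normalizer_iff.1 hτS _).1 hxS) (inv_mem hxS)
          obtain ⟨j, hj⟩ := exists_pow_two S.isPGroup' hmem
          obtain ⟨a, ha, q, hq, hxe⟩ := frame_fixed hC hA hF hτA hτl hτn hτS hτQ hxS
            (mem_A_of_gπ (x := ⟨τ * x * τ⁻¹, conj_mem_centralizer_A hτA x.2⟩ * x⁻¹) hj (by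
              rw [map_mul, map_inv, e, mul_inv_cancel]))
          refine ⟨⟨q, Q_le_X hC hA hF hq⟩, mem_subgroupOf.2 hq, ?_⟩
          show gπ A _ = gπ A x
          have haX : a ∈ gX A := hSX (hC.pt.le ha)
          rw [show x = ⟨a, haX⟩ * ⟨q, Q_le_X hC hA hF hq⟩ from Subtype.ext hxe, map_mul]
          rw [show gπ A ⟨a, haX⟩ = 1 by
            show QuotientGroup.mk' _ (QuotientGroup.mk' _ (⟨a, haX⟩ : ↥(gX A))) = 1
            rw [show QuotientGroup.mk' (A.subgroupOf (centralizer (A : Set G))) (⟨a, haX⟩ : ↥(gX A)) = 1 from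
              (QuotientGroup.eq_one_iff _).2 (mem_subgroupOf.2 ha), map_one], one_mul]
        · rintro ⟨q, hq, e⟩
          rw [← gAut_apply hτA, ← e, gAut_apply]
          exact congrArg _ (Subtype.ext (by
            show τ * q * τ⁻¹ = q
            rw [hτQ _ (mem_subgroupOf.1 hq), mul_inv_cancel_right])) }

/-- With `CentralTwoGoal`: the images of `S` and of the kernel part are normal, and the torus element is
trivial on the quotient by the image of `S`. -/
theorem gamma_normal (hct : CentralTwoGoal.{u}) {τ : G} (hτA : τ ∈ normalizer (A : Set G))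
    (hτo : Odd (orderOf τ)) (hτl : τ ^ l ∈ centralizer (A : Set G))
    (hτn : τ ∉ centralizer (A : Set G)) (hτS : τ ∈ normalizer ((S : Subgroup G) : Set G))
    (hτQ : ∀ w ∈ Qpart A c U, τ * w = w * τ) :
    (gimg A (S : Subgroup G)).Normal ∧ (∀ z, z⁻¹ * gAut A τ hτA z ∈ gimg A (S : Subgroup G)) ∧
      (gimg A (Qpart A c U)).Normal := by
  obtain ⟨k, hk, hCT⟩ := centralTwo_gamma hC hA hF hτA hτo hτl hτn hτS hτQ
  rcases hct _ _ _ _ _ _ _ hCT with h | ⟨hDn, hk1, hDc, hD2, g, ⟨a0, ha0, hne⟩, hirr⟩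
  · exact h
  exfalso
  haveI := hDn
  have hSX := S_le_centralizer hC hA
  set D := gimg A (S : Subgroup G) with hDdef
  -- a lift normalising `S`
  obtain ⟨x, hxS, hxg⟩ : ∃ x : ↥(gX A), (x : G) ∈ normalizer ((S : Subgroup G) : Set G) ∧
      ∀ d ∈ D, gπ A x * d * (gπ A x)⁻¹ = g * d * g⁻¹ := by
    obtain ⟨x0, rfl⟩ := gπ_surjective g
    set H := D.comap (gπ A) with hH
    haveI : H.Normal := hDn.comap _
    have hSH : (S : Subgroup G).subgroupOf (gX A) ≤ H := fun s hs => ⟨s, hs, rfl⟩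
    let SX : Sylow 2 ↥(gX A) := S.subtype hSX
    let SH : Sylow 2 H := SX.subtype hSH
    obtain ⟨y, hy, h, hh, e⟩ : ∃ y ∈ normalizer (((SH : Subgroup H).map H.subtype : Subgroup ↥(gX A)) :
        Set ↥(gX A)), ∃ h ∈ H, x0 = y * h := by
      have := Sylow.normalizer_sup_eq_top SH
      have hx0 : x0 ∈ (⊤ : Subgroup ↥(gX A)) := mem_top x0
      rw [← this, ← SetLike.mem_coe, coe_mul_of_left_le_normalizer_right _ _ (by
        intro z _; rw [normalizer_eq_top H]; exact mem_top z), Set.mem_mul] at hx0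
      obtain ⟨y, hy, h, hh, e⟩ := hx0
      exact ⟨y, hy, h, hh, e.symm⟩
    rw [show ((SH : Subgroup H).map H.subtype) = (S : Subgroup G).subgroupOf (gX A) by
      show (((S : Subgroup G).subgroupOf (gX A)).subgroupOf H).map H.subtype = _
      rw [subgroupOf_map_subtype, inf_eq_left.2 hSH]] at hy
    refine ⟨y, mem_normalizer_iff.2 fun s => ?_, fun d hd => ?_⟩
    · constructor
      · intro hs
        exact mem_subgroupOf.1 ((mem_normalizer_iff.1 hy ⟨s, hSX hs⟩).1 (mem_subgroupOf.2 hs))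
      · intro hs
        have hsX : s ∈ gX A := by
          have := (gX A).mul_mem ((gX A).mul_mem ((gX A).inv_mem y.2) (hSX hs)) y.2
          rwa [show (y : G)⁻¹ * ((y : G) * s * (y : G)⁻¹) * y = s by group] at this
        exact mem_subgroupOf.1 ((mem_normalizer_iff.1 hy ⟨s, hsX⟩).2 (mem_subgroupOf.2 hs))
    · have hcd : gπ A h * d = d * gπ A h := hDc _ hh _ hd
      rw [e, map_mul, show gπ A y * gπ A h * d * (gπ A y * gπ A h)⁻¹ =
        gπ A y * (gπ A h * d) * (gπ A h)⁻¹ * (gπ A y)⁻¹ by group, hcd]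
      group
  letI : CommGroup D := { (inferInstance : Group D) with mul_comm := fun a b => Subtype.ext (hDc a a.2 b b.2) }
  letI : CommGroup A := { (inferInstance : Group A) with
    mul_comm := fun a b => Subtype.ext (elementary_comm hC.pt.elem a.2 b.2) }
  have hV : ∀ v : D, v ^ 2 = 1 := fun v => Subtype.ext (hD2 v v.2)
  let φ : MulAut D := MulAut.conjNormal (gπ A x)
  have hφ : ∀ v : D, (φ v : gΓ A) = g * v * g⁻¹ := fun v => by
    rw [MulAut.conjNormal_apply, hxg v v.2]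
  have hφirr : CfsgLib.ThreePrime.Linear.IsIrr φ := by
    intro B hB
    rcases hirr (B.map D.subtype) (map_subtype_le _) (by
      rintro _ ⟨b, hb, rfl⟩
      exact ⟨φ b, hB b hb, hφ b⟩) with h | h
    · exact Or.inl ((map_eq_bot_iff_of_injective _ D.subtype_injective).1 h)
    · exact Or.inr (map_injective D.subtype_injective (by
        rw [h, ← MonoidHom.range_eq_map, range_subtype]))
  have hφ1 : φ ≠ 1 := fun e => hne (by
    have := hφ ⟨a0, ha0⟩
    rw [e, MulAut.one_apply] at this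
    exact this.symm)
  -- the commutator pairing
  have hval : ∀ s ∈ (S : Subgroup G), ∀ t ∈ (S : Subgroup G), s * t * s⁻¹ * t⁻¹ ∈ A := by
    intro s hs t ht
    obtain ⟨j, hj⟩ := exists_pow_two S.isPGroup'
      (mul_mem (mul_mem (mul_mem hs ht) (inv_mem hs)) (inv_mem ht))
    refine mem_A_of_gπ (x := (⟨s, hSX hs⟩ : ↥(gX A)) * ⟨t, hSX ht⟩ * ⟨s, hSX hs⟩⁻¹ * ⟨t, hSX ht⟩⁻¹) hj ?_
    rw [map_mul, map_mul, map_mul, map_inv, map_inv,
      hDc _ (gimg_mem hs) _ (gimg_mem ht), mul_inv_cancel_right, mul_inv_cancel]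
  have hlift : ∀ d : D, ∃ s : (S : Subgroup G), gπ A ⟨s, hSX s.2⟩ = d := fun d => by
    obtain ⟨s, hs, e⟩ := d.2
    exact ⟨⟨s, mem_subgroupOf.1 hs⟩, e⟩
  choose f hf using hlift
  let com : G → G → G := fun s t => s * t * s⁻¹ * t⁻¹
  have hcom : ∀ (d : D) (s : G) (hs : s ∈ (S : Subgroup G)), gπ A ⟨s, hSX hs⟩ = d →
      ∃ a ∈ A, s = a * f d := fun d s hs e => by
    have hm : s * (f d : G)⁻¹ ∈ (S : Subgroup G) := mul_mem hs (inv_mem (f d).2)
    obtain ⟨j, hj⟩ := exists_pow_two S.isPGroup' hm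
    exact ⟨_, mem_A_of_gπ (x := (⟨s, hSX hs⟩ : ↥(gX A)) * ⟨(f d : G), hSX (f d).2⟩⁻¹) hj (by
      rw [map_mul, map_inv, e, hf, mul_inv_cancel]), (inv_mul_cancel_right _ _).symm⟩
  have hkey : ∀ (d e : D) (s t : G) (hs : s ∈ (S : Subgroup G)) (ht : t ∈ (S : Subgroup G)),
      gπ A ⟨s, hSX hs⟩ = d → gπ A ⟨t, hSX ht⟩ = e → com s t = com (f d) (f e) := by
    intro d e s t hs ht hsd hte
    obtain ⟨a, ha, rfl⟩ := hcom d s hs hsd
    obtain ⟨b, hb, rfl⟩ := hcom e t ht hte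
    have c1 : ∀ {z : G}, z ∈ (S : Subgroup G) → Commute a z := fun hz =>
      mem_centralizer_iff.1 (hSX hz) a ha
    have c2 : ∀ {z : G}, z ∈ (S : Subgroup G) → Commute b z := fun hz =>
      mem_centralizer_iff.1 (hSX hz) b hb
    show a * f d * (b * f e) * (a * f d)⁻¹ * (b * f e)⁻¹ = _
    calc a * f d * (b * f e) * (a * f d)⁻¹ * (b * f e)⁻¹
        = a * ((f d : G) * b * (f d : G)⁻¹) * ((f d : G) * f e * (f d : G)⁻¹) * a⁻¹ * (f e : G)⁻¹ * b⁻¹ := by
          group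
      _ = b * (a * ((f d : G) * f e * (f d : G)⁻¹) * a⁻¹) * (f e : G)⁻¹ * b⁻¹ := by
          rw [← (c2 (f d).2).eq, mul_inv_cancel_right, (c2 (hC.pt.le ha)).symm.eq]
          group
      _ = b * com (f d) (f e) * b⁻¹ := by
          rw [(c1 (mul_mem (mul_mem (f d).2 (f e).2) (inv_mem (f d).2))).eq, mul_inv_cancel_right]
          simp only [com]
          group
      _ = com (f d) (f e) := by
          rw [(show Commute b (com (f d) (f e)) from
            c2 (hC.pt.le (hval _ (f d).2 _ (f e).2))).eq, mul_inv_cancel_right]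
  let β : D → D → A := fun d e => ⟨com (f d) (f e), hval _ (f d).2 _ (f e).2⟩
  have hl : ∀ d e r, β (d * e) r = β d r * β e r := by
    intro d e r
    refine Subtype.ext ?_
    show com (f (d * e)) (f r) = com (f d) (f r) * com (f e) (f r)
    rw [← hkey (d * e) r ((f d : G) * f e) (f r) (mul_mem (f d).2 (f e).2) (f r).2 (by
      rw [show (⟨(f d : G) * f e, _⟩ : ↥(gX A)) = ⟨f d, hSX (f d).2⟩ * ⟨f e, hSX (f e).2⟩ from rfl,
        map_mul, hf, hf]; rfl) (hf r)]
    show (f d : G) * f e * f r * ((f d : G) * f e)⁻¹ * (f r : G)⁻¹ = com (f d) (f r) * com (f e) (f r)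
    have hm := hval _ (f e).2 _ (f r).2
    calc (f d : G) * f e * f r * ((f d : G) * f e)⁻¹ * (f r : G)⁻¹
        = (f d : G) * com (f e) (f r) * (f d : G)⁻¹ * com (f d) (f r) := by simp only [com]; group
      _ = _ := by
          rw [commute_of_mem_cent hm (hSX (f d).2),
            elementary_comm hC.pt.elem hm (hval _ (f d).2 _ (f r).2)]
  have hr : ∀ d e r, β d (e * r) = β d e * β d r := by
    intro d e r
    refine Subtype.ext ?_
    show com (f d) (f (e * r)) = com (f d) (f e) * com (f d) (f r)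
    rw [← hkey d (e * r) (f d) ((f e : G) * f r) (f d).2 (mul_mem (f e).2 (f r).2) (hf d) (by
      rw [show (⟨(f e : G) * f r, _⟩ : ↥(gX A)) = ⟨f e, hSX (f e).2⟩ * ⟨f r, hSX (f r).2⟩ from rfl,
        map_mul, hf, hf]; rfl)]
    show (f d : G) * ((f e : G) * f r) * (f d : G)⁻¹ * ((f e : G) * f r)⁻¹ =
      com (f d) (f e) * com (f d) (f r)
    calc (f d : G) * ((f e : G) * f r) * (f d : G)⁻¹ * ((f e : G) * f r)⁻¹
        = com (f d) (f e) * ((f e : G) * com (f d) (f r) * (f e : G)⁻¹) := by simp only [com]; group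
      _ = _ := by rw [commute_of_mem_cent (hval _ (f d).2 _ (f r).2) (hSX (f e).2)]
  have hinv : ∀ d e, β (φ d) (φ e) = β d e := by
    intro d e
    refine Subtype.ext ?_
    show com (f (φ d)) (f (φ e)) = com (f d) (f e)
    have hconj : ∀ d : D, gπ A ⟨(x : G) * f d * (x : G)⁻¹,
        hSX ((mem_normalizer_iff.1 hxS _).1 (f d).2)⟩ = φ d := fun d => by
      rw [show (⟨(x : G) * f d * (x : G)⁻¹, _⟩ : ↥(gX A)) = x * ⟨f d, hSX (f d).2⟩ * x⁻¹ from rfl,
        map_mul, map_mul, map_inv, hf]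
      rfl
    rw [← hkey (φ d) (φ e) _ _ ((mem_normalizer_iff.1 hxS _).1 (f d).2)
      ((mem_normalizer_iff.1 hxS _).1 (f e).2) (hconj d) (hconj e)]
    refine Eq.trans ?_ (commute_of_mem_cent (hval _ (f d).2 _ (f e).2) x.2)
    show (x : G) * f d * (x : G)⁻¹ * ((x : G) * f e * (x : G)⁻¹) * ((x : G) * f d * (x : G)⁻¹)⁻¹ *
      ((x : G) * f e * (x : G)⁻¹)⁻¹ = (x : G) * ((f d : G) * f e * (f d : G)⁻¹ * (f e : G)⁻¹) * (x : G)⁻¹
    group
  haveI : Nontrivial D := ⟨⟨⟨a0, ha0⟩, 1, fun e => hne (by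
    rw [show a0 = 1 from congrArg Subtype.val e, mul_one, mul_inv_cancel])⟩⟩
  have hzero := CfsgLib.ThreePrime.Linear.pairing_eq_one hV (n := 2 * (2 * m + 1) + k)
    hCT.card_D ⟨2 * m + 1, by omega⟩ hφirr hφ1 β hl hr hinv
  -- a non-trivial value
  obtain ⟨-, -, -, hcQ, -⟩ := frame_Q_data hC hA hF
  obtain ⟨a, ha, ha1⟩ := exists_ne_one_A hC
  obtain ⟨s, hs, hsw⟩ := frame_exists_value hC hA hF hcQ (involution_ne_one hF.bad.ord) ha
  have hcS : c ∈ (S : Subgroup G) := hF.le hcQ.1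
  refine ha1 ?_
  rw [show a = com s c by
    show a = s * c * s⁻¹ * c⁻¹
    rw [hsw, mul_inv_cancel_right],
    hkey ⟨_, gimg_mem (x := ⟨s, hSX hs⟩) hs⟩ ⟨_, gimg_mem (x := ⟨c, hSX hcS⟩) hcS⟩ s c hs hcS rfl rfl]
  exact congrArg Subtype.val (hzero _ _)

end CfsgLib.ThreePrime.Block
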