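import Mathlib.FieldTheory.Finite.Basic
import Mathlib.FieldTheory.Finite.GaloisField
import Mathlib.LinearAlgebra.LinearIndependent.Basic
import Mathlib.RingTheory.AdjoinRoot
import Mathlib.Algebra.Module.ZMod
import Mathlib.GroupTheory.SpecificGroups.Cyclic
import Mathlib.Tactic

/-!
Owner: helper6.  Irreducible automorphisms of elementary abelian two-groups.

* `pairing_eq_one`: in odd dimension an irreducible automorphism leaves no bilinear pairing invariant
* `commute_of_commute`, `isCyclic_of_commute`: its centraliser is cyclic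
* `pow_commute`: an automorphism normalising it has its `n`-th power centralising it
* `exists_fixed`: one of prime order normalising but not centralising it fixes a non-trivial element
-/

set_option autoImplicit false
set_option linter.all false

namespace CfsgLib.ThreePrime.Linear

open Polynomial

variable {V : Type*} [CommGroup V] [Finite V]

/-- The automorphism leaves no proper non-trivial subgroup invariant. -/
def IsIrr (x : MulAut V) : Prop := ∀ U : Subgroup V, (∀ u ∈ U, x u ∈ U) → U = ⊥ ∨ U = ⊤

section Field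

variable {M : Type*} [AddCommGroup M] [Module (ZMod 2) M] [Finite M] [Nontrivial M]
  (T : Module.End (ZMod 2) M)

/-- The linear form of irreducibility. -/
def LinIrr : Prop := ∀ U : Submodule (ZMod 2) M, (∀ u ∈ U, T u ∈ U) → U = ⊥ ∨ U = ⊤

variable {T} (hT : LinIrr T)

omit [Finite M] [Nontrivial M] in
theorem aeval_comm (f : (ZMod 2)[X]) : aeval T f * T = T * aeval T f := by
  conv_lhs => arg 2; rw [← aeval_X (R := ZMod 2) T]
  conv_rhs => arg 1; rw [← aeval_X (R := ZMod 2) T]
  rw [← map_mul, ← map_mul, mul_comm]

omit [Finite M] [Nontrivial M] in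
include hT in
theorem injective_aeval (f : (ZMod 2)[X]) (hf : aeval T f ≠ 0) :
    Function.Injective (aeval T f) := by
  rw [← LinearMap.ker_eq_bot]
  refine (hT _ fun u hu => ?_).resolve_right fun h => hf (LinearMap.ker_eq_top.1 h)
  rw [LinearMap.mem_ker] at hu ⊢
  rw [← Module.End.mul_apply, aeval_comm, Module.End.mul_apply, hu, map_zero]

include hT in
theorem irreducible_minpoly : Irreducible (minpoly (ZMod 2) T) := by
  haveI : Module.Finite (ZMod 2) M := Module.Finite.of_finite
  have hint : IsIntegral (ZMod 2) T := Algebra.IsIntegral.isIntegral T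
  have hp0 : minpoly (ZMod 2) T ≠ 0 := minpoly.ne_zero hint
  refine irreducible_iff.2 ⟨minpoly.not_isUnit (ZMod 2) T, fun a b hab => ?_⟩
  by_contra h
  push Not at h
  have ha0 : a ≠ 0 := fun e => hp0 (by rw [hab, e, zero_mul])
  have hb0 : b ≠ 0 := fun e => hp0 (by rw [hab, e, mul_zero])
  have hdeg : (minpoly (ZMod 2) T).natDegree = a.natDegree + b.natDegree := by
    rw [hab, natDegree_mul ha0 hb0]
  have hpos : ∀ c : (ZMod 2)[X], c ≠ 0 → ¬ IsUnit c → 0 < c.natDegree := fun c hc hu =>
    Nat.pos_of_ne_zero fun e => hu (isUnit_iff_degree_eq_zero.2 (by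
      rw [degree_eq_natDegree hc, e]; rfl))
  have hne : ∀ c : (ZMod 2)[X], c ≠ 0 → c.natDegree < (minpoly (ZMod 2) T).natDegree →
      aeval T c ≠ 0 := fun c hc hlt e => by
    have := natDegree_le_of_dvd (minpoly.dvd (ZMod 2) T e) hc
    omega
  have ha := hne a ha0 (by have := hpos b hb0 h.2; omega)
  have hb := hne b hb0 (by have := hpos a ha0 h.1; omega)
  refine hb (LinearMap.ext fun v => injective_aeval hT a ha ?_)
  rw [LinearMap.zero_apply, map_zero, ← Module.End.mul_apply, ← map_mul, ← hab, minpoly.aeval]
  rfl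

variable (T) in
/-- The field generated by an irreducible endomorphism. -/
abbrev Fld : Type := AdjoinRoot (minpoly (ZMod 2) T)

variable (T) in
/-- The action of the field. -/
noncomputable def act : Fld T →ₐ[ZMod 2] Module.End (ZMod 2) M :=
  Ideal.Quotient.liftₐ _ (aeval T) fun f hf => by
    obtain ⟨g, rfl⟩ := Ideal.mem_span_singleton'.1 hf
    simp [minpoly.aeval]

omit [Finite M] [Nontrivial M] in
theorem act_mk (f : (ZMod 2)[X]) : act T (AdjoinRoot.mk _ f) = aeval T f := rfl

omit [Finite M] [Nontrivial M] in
theorem act_root : act T (AdjoinRoot.root _) = T := by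
  rw [← AdjoinRoot.mk_X, act_mk, aeval_X]

omit [Finite M] [Nontrivial M] in
theorem act_comm (k : Fld T) : act T k * T = T * act T k := by
  obtain ⟨f, rfl⟩ := AdjoinRoot.mk_surjective k
  rw [act_mk]
  exact aeval_comm f

include hT in
theorem act_injective : Function.Injective (act T) := by
  haveI : Fact (Irreducible (minpoly (ZMod 2) T)) := ⟨irreducible_minpoly hT⟩
  exact RingHom.injective (act T).toRingHom

include hT in
theorem act_bijective {v : M} (hv : v ≠ 0) : Function.Bijective fun k => act T k v := by
  refine ⟨fun a b h => ?_, fun w => ?_⟩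
  · by_contra hne
    have h0 : act T (a - b) v = 0 := by rw [map_sub, LinearMap.sub_apply, sub_eq_zero]; exact h
    obtain ⟨f, hf⟩ := AdjoinRoot.mk_surjective (a - b)
    have hfT : aeval T f ≠ 0 := fun e => hne (sub_eq_zero.1 (act_injective hT (by
      rw [map_zero, ← hf, act_mk, e])))
    exact hv (injective_aeval hT f hfT (by rw [map_zero, ← act_mk, hf, h0]))
  · let ev : Fld T →+ M :=
      AddMonoidHom.mk' (fun k => act T k v) fun a b => by rw [map_add, LinearMap.add_apply]
    have hev : ∀ k, ev k = act T k v := fun k => rfl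
    rcases hT (AddSubgroup.toZModSubmodule 2 ev.range) (by
      rintro _ ⟨k, rfl⟩
      refine ⟨AdjoinRoot.root _ * k, ?_⟩
      rw [hev, hev, map_mul, act_root, Module.End.mul_apply]) with h | h
    · refine absurd ?_ hv
      have : v ∈ AddSubgroup.toZModSubmodule 2 ev.range := ⟨1, by rw [hev, map_one]; rfl⟩
      rwa [h, Submodule.mem_bot] at this
    · have : w ∈ AddSubgroup.toZModSubmodule 2 ev.range := h ▸ Submodule.mem_top
      obtain ⟨k, hk⟩ := this
      exact ⟨k, hk⟩

include hT in
theorem card_fld : Nat.card (Fld T) = Nat.card M := by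
  obtain ⟨v, hv⟩ := exists_ne (0 : M)
  exact Nat.card_congr (Equiv.ofBijective _ (act_bijective hT hv))

include hT in
/-- The centraliser of an irreducible endomorphism is the field generated by it. -/
theorem exists_act (f : Module.End (ZMod 2) M) (hf : f * T = T * f) : ∃ k, f = act T k := by
  obtain ⟨v, hv⟩ := exists_ne (0 : M)
  obtain ⟨k, hk⟩ := (act_bijective hT hv).2 (f v)
  have hc : ∀ j, f * act T j = act T j * f := by
    intro j
    obtain ⟨g, rfl⟩ := AdjoinRoot.mk_surjective j
    rw [act_mk]
    exact Algebra.commute_of_mem_adjoin_singleton_of_commute (R := ZMod 2)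
      (by rw [Algebra.adjoin_singleton_eq_range_aeval]; exact ⟨g, rfl⟩) hf
  refine ⟨k, LinearMap.ext fun w => ?_⟩
  obtain ⟨j, rfl⟩ := (act_bijective hT hv).2 w
  simp only
  rw [← Module.End.mul_apply, hc, Module.End.mul_apply, ← hk, ← Module.End.mul_apply,
    ← Module.End.mul_apply, ← map_mul, ← map_mul, mul_comm]

include hT in
/-- An endomorphism conjugating `T` to a power of itself induces an automorphism of the field. -/
theorem exists_twist {d : Module.End (ZMod 2) M} {i : ℕ} (hd : Function.Bijective d)
    (h : d * T = T ^ i * d) :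
    ∃ σ : Fld T →ₐ[ZMod 2] Fld T, σ (AdjoinRoot.root _) = AdjoinRoot.root _ ^ i ∧
      ∀ k, d * act T k = act T (σ k) * d := by
  have hf : ∀ f : (ZMod 2)[X], d * aeval T f = aeval (T ^ i) f * d := by
    intro f
    induction f using Polynomial.induction_on' with
    | add p q hp hq => rw [map_add, map_add, mul_add, add_mul, hp, hq]
    | monomial n c =>
      rw [aeval_monomial, aeval_monomial, ← mul_assoc, ← Algebra.commutes, mul_assoc, mul_assoc]
      congr 1
      induction n with
      | zero => simp
      | succ n ih => rw [pow_succ T, pow_succ (T ^ i), ← mul_assoc, ih, mul_assoc, h, mul_assoc]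
  have hev : ∀ f : (ZMod 2)[X], act T (aeval (AdjoinRoot.root _ ^ i) f) = aeval (T ^ i) f := by
    intro f
    rw [← aeval_algHom_apply, map_pow, act_root]
  refine ⟨AdjoinRoot.liftAlgHom _ (Algebra.ofId _ _) (AdjoinRoot.root _ ^ i) ?_, ?_, ?_⟩
  · apply act_injective hT
    rw [show eval₂ _ (AdjoinRoot.root _ ^ i) (minpoly (ZMod 2) T) =
      aeval (AdjoinRoot.root (minpoly (ZMod 2) T) ^ i) (minpoly (ZMod 2) T) from rfl, hev, map_zero]
    have e := hf (minpoly (ZMod 2) T)
    rw [minpoly.aeval, mul_zero] at e
    refine LinearMap.ext fun v => ?_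
    obtain ⟨w, rfl⟩ := hd.2 v
    rw [← Module.End.mul_apply, ← e]
    rfl
  · exact AdjoinRoot.liftAlgHom_root ..
  · intro k
    obtain ⟨f, rfl⟩ := AdjoinRoot.mk_surjective k
    rw [act_mk, hf, AdjoinRoot.liftAlgHom_mk, ← hev]
    rfl

include hT in
theorem pow_finrank {n : ℕ} (hn : Nat.card M = 2 ^ n) (σ : Fld T →ₐ[ZMod 2] Fld T) :
    ∀ k, σ^[n] k = k := by
  haveI : Fact (Irreducible (minpoly (ZMod 2) T)) := ⟨irreducible_minpoly hT⟩
  haveI : Finite (Fld T) := by
    refine Nat.finite_of_card_ne_zero ?_
    rw [card_fld hT]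
    exact Nat.card_pos.ne'
  have hr : Module.finrank (ZMod 2) (Fld T) = n := by
    have e := Module.natCard_eq_pow_finrank (K := ZMod 2) (V := Fld T)
    rw [card_fld hT, hn, Nat.card_zmod] at e
    exact (Nat.pow_right_injective le_rfl e).symm
  let e : Gal((Fld T)/(ZMod 2)) :=
    AlgEquiv.ofBijective σ ⟨σ.toRingHom.injective, Finite.surjective_of_injective σ.toRingHom.injective⟩
  have h1 : e ^ n = 1 := by
    rw [← hr, ← IsGalois.card_aut_eq_finrank]
    exact pow_card_eq_one'
  intro k
  have h2 : ∀ j k, (e ^ j) k = σ^[j] k := by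
    intro j
    induction j with
    | zero => intro k; rfl
    | succ j ih =>
      intro k
      rw [pow_succ, Function.iterate_succ_apply]
      exact ih (σ k)
  rw [← h2, h1]
  rfl

end Field

section Group

variable (hV : ∀ v : V, v ^ 2 = 1)

/-- `V` as a vector space. -/
@[reducible] def vec : Module (ZMod 2) (Additive V) :=
  AddCommGroup.zmodModule fun m => Additive.toMul.injective (by
    show Additive.toMul m ^ 2 = 1
    exact hV _)

/-- An automorphism as a linear map. -/
noncomputable def lin :
    letI := vec hV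
    MulAut V →* Module.End (ZMod 2) (Additive V) :=
  letI := vec hV
  { toFun := fun x => (MonoidHom.toAdditive x.toMonoidHom).toZModLinearMap 2
    map_one' := LinearMap.ext fun _ => rfl
    map_mul' := fun _ _ => LinearMap.ext fun _ => rfl }

omit [Finite V] in
theorem lin_apply (x : MulAut V) (v : V) :
    letI := vec hV
    lin hV x (Additive.ofMul v) = Additive.ofMul (x v) := rfl

theorem linIrr {x : MulAut V} (hx : IsIrr x) :
    letI := vec hV
    LinIrr (lin hV x) := by
  letI := vec hV
  intro U hU
  rcases hx (AddSubgroup.toSubgroup' U.toAddSubgroup) (fun u hu => hU _ hu) with h | h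
  · left
    refine (Submodule.eq_bot_iff _).2 fun u hu => ?_
    have h' : Additive.toMul u ∈ AddSubgroup.toSubgroup' U.toAddSubgroup := hu
    rw [h, Subgroup.mem_bot] at h'
    exact h'
  · right
    refine eq_top_iff.2 fun u _ => ?_
    have h' : Additive.toMul u ∈ AddSubgroup.toSubgroup' U.toAddSubgroup := h ▸ Subgroup.mem_top _
    exact h'

theorem lin_injective : Function.Injective (letI := vec hV; lin hV : MulAut V → _) := fun a b h =>
  MulEquiv.ext fun v => Additive.ofMul.injective (by
    letI := vec hV
    exact LinearMap.congr_fun h (Additive.ofMul v))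

variable [Nontrivial V]

include hV in
theorem commute_of_commute {x : MulAut V} (hx : IsIrr x) {a b : MulAut V} (ha : Commute a x)
    (hb : Commute b x) : Commute a b := by
  letI := vec hV
  obtain ⟨k, hk⟩ := exists_act (linIrr hV hx) (lin hV a) (by rw [← map_mul, ← map_mul, ha.eq])
  obtain ⟨j, hj⟩ := exists_act (linIrr hV hx) (lin hV b) (by rw [← map_mul, ← map_mul, hb.eq])
  refine lin_injective hV ?_
  show lin hV (a * b) = lin hV (b * a)
  rw [map_mul, map_mul, hk, hj, ← map_mul, ← map_mul, mul_comm]

include hV in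
theorem isCyclic_of_commute {x : MulAut V} (hx : IsIrr x) (C : Subgroup (MulAut V))
    (hC : ∀ a ∈ C, Commute a x) : IsCyclic C := by
  letI := vec hV
  haveI : Fact (Irreducible (minpoly (ZMod 2) (lin hV x))) := ⟨irreducible_minpoly (linIrr hV hx)⟩
  choose f hf using fun a : C => exists_act (linIrr hV hx) (lin hV (a : MulAut V))
    (by rw [← map_mul, ← map_mul, (hC a a.2).eq])
  let g : C →* Fld (lin hV x) :=
    { toFun := f
      map_one' := act_injective (linIrr hV hx) (by
        rw [← hf, map_one, OneMemClass.coe_one, map_one])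
      map_mul' := fun a b => act_injective (linIrr hV hx) (by
        rw [← hf, map_mul, ← hf, ← hf, Subgroup.coe_mul, map_mul]) }
  refine isCyclic_of_subgroup_isDomain g fun a b h => Subtype.ext (lin_injective hV ?_)
  show lin hV _ = lin hV _
  rw [hf a, hf b]
  exact congrArg (act (lin hV x)) h

include hV in
theorem pow_commute {n : ℕ} (hn : Nat.card V = 2 ^ n) {x : MulAut V} (hx : IsIrr x)
    {d : MulAut V} {i : ℕ} (hd : d * x = x ^ i * d) : Commute (d ^ n) x := by
  letI := vec hV
  have hnM : Nat.card (Additive V) = 2 ^ n := hn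
  have hb : Function.Bijective (lin hV d) := d.bijective
  obtain ⟨σ, hσ, hσk⟩ := exists_twist (linIrr hV hx) hb (i := i)
    (by rw [← map_pow, ← map_mul, ← map_mul, hd])
  have hj : ∀ j k, lin hV d ^ j * act (lin hV x) k = act (lin hV x) (σ^[j] k) * lin hV d ^ j := by
    intro j
    induction j with
    | zero => intro k; simp
    | succ j ih =>
      intro k
      rw [pow_succ, mul_assoc, hσk, ← mul_assoc, ih, Function.iterate_succ_apply, mul_assoc]
  refine lin_injective hV ?_
  show lin hV (d ^ n * x) = lin hV (x * d ^ n)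
  rw [map_mul, map_mul, map_pow]
  have h := hj n (AdjoinRoot.root _)
  rw [pow_finrank (linIrr hV hx) hnM σ, act_root] at h
  exact h

include hV in
theorem exists_fixed {x : MulAut V} (hx : IsIrr x) {d : MulAut V} {i s : ℕ}
    (hd : d * x = x ^ i * d) (hs : s.Prime) (hds : d ^ s = 1) (hnc : ¬ Commute d x) :
    ∃ v : V, v ≠ 1 ∧ d v = v := by
  letI := vec hV
  haveI : Fact (Irreducible (minpoly (ZMod 2) (lin hV x))) := ⟨irreducible_minpoly (linIrr hV hx)⟩
  by_contra hfix
  push Not at hfix
  have hb : Function.Bijective (lin hV d) := d.bijective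
  obtain ⟨σ, hσ, hσk⟩ := exists_twist (linIrr hV hx) hb (i := i)
    (by rw [← map_pow, ← map_mul, ← map_mul, hd])
  have hj : ∀ j k, lin hV d ^ j * act (lin hV x) k = act (lin hV x) (σ^[j] k) * lin hV d ^ j := by
    intro j
    induction j with
    | zero => intro k; simp
    | succ j ih =>
      intro k
      rw [pow_succ, mul_assoc, hσk, ← mul_assoc, ih, Function.iterate_succ_apply, mul_assoc]
  have hds' : lin hV d ^ s = 1 := by rw [← map_pow, hds, map_one]
  have hfix' : ∀ m : Additive V, lin hV d m = m → m = 0 := fun m hm => by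
    by_contra hne
    exact hfix _ hne hm
  have hsum : ∑ j ∈ Finset.range s, lin hV d ^ j = 0 := by
    refine LinearMap.ext fun m => hfix' _ ?_
    have e : lin hV d * ∑ j ∈ Finset.range s, lin hV d ^ j = ∑ j ∈ Finset.range s, lin hV d ^ j := by
      rw [Finset.mul_sum]
      conv_rhs => rw [← Nat.sub_add_cancel hs.one_le]
      rw [← Nat.sub_add_cancel hs.one_le, Finset.sum_range_succ, Finset.sum_range_succ',
        ← pow_succ', Nat.sub_add_cancel hs.one_le, hds', pow_zero]
      exact congrArg (· + 1) (Finset.sum_congr rfl fun j _ => (pow_succ' _ j).symm)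
    rw [← Module.End.mul_apply, e]
  obtain ⟨v, hv⟩ := exists_ne (0 : Additive V)
  choose μ hμ using fun j : ℕ => (act_bijective (linIrr hV hx) hv).2 ((lin hV d ^ j) v)
  have hrel : ∀ k, ∑ j ∈ Finset.range s, σ^[j] k * μ j = 0 := by
    intro k
    refine (act_bijective (linIrr hV hx) hv).1 ?_
    simp only [map_zero, map_sum, map_mul, LinearMap.sum_apply, Module.End.mul_apply, hμ,
      LinearMap.zero_apply]
    simp only [← Module.End.mul_apply, ← hj]
    simp only [Module.End.mul_apply]
    rw [← LinearMap.sum_apply, hsum, LinearMap.zero_apply]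
  have hσne : ¬ ∀ k, σ k = k := by
    intro h
    refine hnc (lin_injective hV ?_)
    show lin hV (d * x) = lin hV (x * d)
    have e := hσk (AdjoinRoot.root _)
    rw [h, act_root] at e
    rw [map_mul, map_mul, e]
  let e : ℕ → (Fld (lin hV x) →* Fld (lin hV x)) := fun j => (σ ^ j).toRingHom.toMonoidHom
  have he : ∀ j k, e j k = σ^[j] k := fun j k => by
    show (σ ^ j) k = _
    rw [AlgHom.coe_pow]
  have hper : ∀ k, σ^[s] k = k := fun k => by
    refine (act_bijective (linIrr hV hx) hv).1 ?_
    have h := hj s k
    rw [hds', one_mul, mul_one] at h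
    show act (lin hV x) _ v = act (lin hV x) k v
    rw [h]
  have hinj : Set.InjOn e (Finset.range s : Set ℕ) := by
    intro a ha b hb h
    rw [Finset.coe_range, Set.mem_Iio] at ha hb
    by_contra hne
    refine hσne fun k => ?_
    -- two equal powers of an automorphism of prime period
    have hσinj : Function.Injective σ := σ.toRingHom.injective
    have hd' : ∀ c, c ≠ 0 → c < s → (∀ k, σ^[c] k = k) → ∀ k, σ k = k := by
      intro c hc0 hcs hfx k
      have h1 : Function.IsPeriodicPt σ c k := hfx k
      have h2 : Function.IsPeriodicPt σ s k := hper k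
      have h3 := h1.gcd h2
      rwa [Nat.Coprime.gcd_eq_one ((hs.coprime_iff_not_dvd.2
        (Nat.not_dvd_of_pos_of_lt (Nat.pos_of_ne_zero hc0) hcs)).symm)] at h3
    have hab : ∀ k, σ^[a] k = σ^[b] k := fun k => by rw [← he, ← he, h]
    rcases lt_or_gt_of_ne hne with hlt | hlt
    · refine hd' (b - a) (by omega) (by omega) (fun k => (hσinj.iterate a) ?_) k
      rw [← Function.iterate_add_apply, show a + (b - a) = b by omega, ← hab]
    · refine hd' (a - b) (by omega) (by omega) (fun k => (hσinj.iterate b) ?_) k
      rw [← Function.iterate_add_apply, show b + (a - b) = a by omega, hab]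
  have hli := (linearIndependent_monoidHom (Fld (lin hV x)) (Fld (lin hV x))).comp _
    (Set.injOn_iff_injective.1 hinj)
  have h0 := Fintype.linearIndependent_iff.1 hli (fun j => μ j.1) ?_ ⟨0, by simpa using hs.pos⟩
  · have h1 := hμ 0
    simp only at h0 h1
    rw [h0, map_zero, pow_zero] at h1
    exact hv h1.symm
  · funext k
    rw [Finset.sum_apply, Pi.zero_apply, ← hrel k,
      ← Finset.sum_coe_sort (Finset.range s) (fun j => σ^[j] k * μ j)]
    refine Finset.sum_congr rfl fun j _ => ?_
    show μ j.1 * e j.1 k = _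
    rw [he, mul_comm]

omit [Nontrivial V] in
include hV in
theorem eq_one_of_sq {x : MulAut V} (hx : IsIrr x) (h2 : x * x = 1) : x = 1 := by
  refine MulEquiv.ext fun v => ?_
  rcases hx ((x : V →* V).eqLocus (MonoidHom.id V)) (fun u (hu : x u = u) => by
    show x (x u) = x u
    rw [hu, hu]) with h | h
  · have h1 : x (v * x v) = v * x v := by
      rw [map_mul, ← MulAut.mul_apply, h2, MulAut.one_apply, mul_comm]
    have h2' : v * x v = 1 := by
      have : v * x v ∈ (x : V →* V).eqLocus (MonoidHom.id V) := h1
      rwa [h, Subgroup.mem_bot] at this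
    have h3 : v * v = 1 := by rw [← sq]; exact hV v
    exact mul_left_cancel (h2'.trans h3.symm)
  · exact (h ▸ Subgroup.mem_top v : v ∈ (x : V →* V).eqLocus (MonoidHom.id V))

include hV in
/-- In odd dimension an irreducible automorphism leaves no non-trivial bilinear pairing invariant. -/
theorem pairing_eq_one {n : ℕ} (hn : Nat.card V = 2 ^ n) (hodd : Odd n) {x : MulAut V} (hx : IsIrr x)
    (hx1 : x ≠ 1) {A : Type*} [CommGroup A] (β : V → V → A)
    (hl : ∀ a b c, β (a * b) c = β a c * β b c) (hr : ∀ a b c, β a (b * c) = β a b * β a c)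
    (hinv : ∀ a b, β (x a) (x b) = β a b) (a b : V) : β a b = 1 := by
  letI := vec hV
  let B : Additive V →+ Additive V →+ Additive A :=
    AddMonoidHom.mk' (fun p => AddMonoidHom.mk' (fun q => Additive.ofMul (β (Additive.toMul p) (Additive.toMul q)))
      fun q q' => congrArg Additive.ofMul (hr _ _ _)) fun p p' => AddMonoidHom.ext fun q =>
        congrArg Additive.ofMul (hl _ _ _)
  have hB : ∀ p q, B (lin hV x p) (lin hV x q) = B p q := fun p q => congrArg Additive.ofMul (hinv _ _)
  set i := orderOf x - 1 with hi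
  have hxi : x * x ^ i = 1 := by
    rw [← pow_succ', hi, Nat.sub_add_cancel (orderOf_pos x), pow_orderOf_eq_one]
  have hswap : ∀ j p q, B ((lin hV x ^ j) p) q = B p (((lin hV x ^ i) ^ j) q) := by
    intro j
    induction j with
    | zero => intro p q; simp
    | succ j ih =>
      intro p q
      have e : (lin hV x * lin hV x ^ i) (((lin hV x ^ i) ^ j) q) = ((lin hV x ^ i) ^ j) q := by
        rw [← map_pow, ← map_mul, hxi, map_one]; rfl
      rw [pow_succ (lin hV x), Module.End.mul_apply, ih, ← e, Module.End.mul_apply, hB,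
        pow_succ' (lin hV x ^ i), Module.End.mul_apply]
  have hpoly : ∀ (f : (ZMod 2)[X]) p q, B (aeval (lin hV x) f p) q = B p (aeval (lin hV x ^ i) f q) := by
    intro f
    induction f using Polynomial.induction_on' with
    | add f g hf hg =>
      intro p q
      rw [map_add, map_add, LinearMap.add_apply, LinearMap.add_apply, map_add, AddMonoidHom.add_apply,
        map_add, hf, hg]
    | monomial j c =>
      intro p q
      rw [aeval_monomial, aeval_monomial, ← Algebra.smul_def, ← Algebra.smul_def, LinearMap.smul_apply,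
        LinearMap.smul_apply]
      rcases (show ∀ z : ZMod 2, z = 0 ∨ z = 1 by decide) c with rfl | rfl
      · simp
      · rw [one_smul, one_smul]
        exact hswap j p q
  by_cases hz : aeval (lin hV x ^ i) (minpoly (ZMod 2) (lin hV x)) = 0
  · exfalso
    haveI : Fact (Irreducible (minpoly (ZMod 2) (lin hV x))) := ⟨irreducible_minpoly (linIrr hV hx)⟩
    let σ : Fld (lin hV x) →ₐ[ZMod 2] Fld (lin hV x) :=
      AdjoinRoot.liftAlgHom _ (Algebra.ofId _ _) (AdjoinRoot.root _ ^ i) (by
        apply act_injective (linIrr hV hx)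
        rw [show eval₂ _ (AdjoinRoot.root _ ^ i) (minpoly (ZMod 2) (lin hV x)) =
          aeval (AdjoinRoot.root (minpoly (ZMod 2) (lin hV x)) ^ i) (minpoly (ZMod 2) (lin hV x))
          from rfl, ← aeval_algHom_apply, map_pow, act_root, map_zero]
        exact hz)
    have hroot : σ (AdjoinRoot.root _) = AdjoinRoot.root _ ^ i := AdjoinRoot.liftAlgHom_root ..
    have hxi2 : x ^ (i * i) = x := by
      have e : x ^ i = x⁻¹ := (inv_eq_of_mul_eq_one_right hxi).symm
      rw [pow_mul, e, inv_pow, e, inv_inv]
    have hσ2 : σ.comp σ = AlgHom.id _ _ := AdjoinRoot.algHom_ext (act_injective (linIrr hV hx) (by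
      rw [AlgHom.comp_apply, hroot, map_pow, hroot, ← pow_mul, AlgHom.id_apply, map_pow, act_root,
        ← map_pow, hxi2]))
    have hσ : ∀ k, σ k = k := by
      intro k
      obtain ⟨m, rfl⟩ := hodd
      have h := pow_finrank (linIrr hV hx) (show Nat.card (Additive V) = _ from hn) σ k
      rw [Function.iterate_add_apply, Function.iterate_one, Function.iterate_mul] at h
      have h2 : σ^[2] = id := funext fun k => AlgHom.congr_fun hσ2 k
      rwa [h2, Function.iterate_id, id] at h
    refine hx1 (eq_one_of_sq hV hx ?_)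
    have e : lin hV (x ^ i) = lin hV x := by
      rw [map_pow, ← act_root (T := lin hV x), ← map_pow, ← hroot, hσ]
    conv_lhs => arg 2; rw [← lin_injective hV e]
    exact hxi
  · have hinj : Function.Injective (aeval (lin hV x ^ i) (minpoly (ZMod 2) (lin hV x))) := by
      have e : ∃ g, aeval (lin hV x ^ i) (minpoly (ZMod 2) (lin hV x)) = aeval (lin hV x) g :=
        ⟨(minpoly (ZMod 2) (lin hV x)).comp (X ^ i), by rw [aeval_comp, map_pow, aeval_X]⟩
      obtain ⟨g, hg⟩ := e
      rw [hg] at hz ⊢
      exact injective_aeval (linIrr hV hx) g hz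
    obtain ⟨q, hq⟩ := Finite.surjective_of_injective hinj (Additive.ofMul b)
    have h := hpoly (minpoly (ZMod 2) (lin hV x)) (Additive.ofMul a) q
    rw [minpoly.aeval, hq, LinearMap.zero_apply, map_zero, AddMonoidHom.zero_apply] at h
    exact Additive.ofMul.injective h.symm

end Group

end CfsgLib.ThreePrime.Linear
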