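import Cfsg.Agent.Lib.ThreePrime.Block.Basic
import Cfsg.Agent.Lib.Components.Component

/-!
Owner: helper6.  The centraliser of a bad involution.

* `exists_localData`: the component of `C(c)` mod core is normal, a Suzuki group with `q = |A|`, and the
  base stabiliser is the normaliser of the image of `A`
* `mem_ker_iff`: the kernel on the block is the centraliser of the component
* `exists_torus`: lifts of the two point stabiliser normalising a given two-group
-/

set_option autoImplicit false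
set_option linter.all false

namespace CfsgLib.ThreePrime.Block

open Subgroup CfsgLib.Bender.Dichotomy
open scoped Pointwise

universe u

local instance factTwoBlockLocal : Fact (Nat.Prime 2) := ⟨Nat.prime_two⟩

variable {G : Type u} [Group G] [Finite G]

/-- `C(c)`. -/
abbrev cH (c : G) : Subgroup G := centralizer ({c} : Set G)

/-- `C(c)` modulo its core. -/
abbrev cQ (c : G) : Type u := ↥(cH c) ⧸ Cfsg.oddCore ↥(cH c)

/-- The projection. -/
abbrev cπ (c : G) : ↥(cH c) →* cQ c := QuotientGroup.mk' (Cfsg.oddCore ↥(cH c))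

/-- The image of a subgroup. -/
abbrev cimg (c : G) (B : Subgroup G) : Subgroup (cQ c) := (B.subgroupOf (cH c)).map (cπ c)

/-- The structure of `C(c)` for a bad involution `c` centralising `A`. -/
structure LocalData (A : Subgroup G) (c : G) (K : Subgroup (cQ c)) (m : ℕ) : Prop where
  bad : Bad A c
  cent : c ∈ centralizer (A : Set G)
  bf : BlockFacts A c
  facts : SzFacts K m
  qA : Nat.card A = 2 ^ (2 * m + 1)
  normal : K.Normal
  Abar_le : cimg c A ≤ K
  img : cimg c (pM A) = normalizer (cimg c A : Set (cQ c))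

variable {S : Sylow 2 G} {A : Subgroup G}

theorem A_le_cH {c : G} (hc : c ∈ centralizer (A : Set G)) : A ≤ cH c := fun a ha =>
  mem_centralizer_singleton_iff.2 (mem_centralizer_iff.1 hc a ha)

theorem map_oddCore (c : G) : (Cfsg.oddCore ↥(cH c)).map (cH c).subtype = core c := rfl

theorem mem_oddCore_iff {c : G} {x : ↥(cH c)} : x ∈ Cfsg.oddCore ↥(cH c) ↔ (x : G) ∈ core c := by
  constructor
  · exact fun hx => ⟨x, hx, rfl⟩
  · rintro ⟨y, hy, e⟩
    rwa [← show y = x from Subtype.ext e]

theorem core_le_pM {c : G} (hB : BlockFacts A c) : core c ≤ pM A := by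
  rw [hB.core_eq]; exact inf_le_left.trans W0_le_pM

theorem eq_one_of_two_core {c x : G} {k : ℕ} (hx : x ^ 2 ^ k = 1) (hc : x ∈ core c) : x = 1 := by
  have h1 : orderOf x ∣ 2 ^ k := orderOf_dvd_of_pow_eq_one hx
  have h2 : orderOf x ∣ Nat.card (core c) := by
    rw [← Subgroup.orderOf_mk x hc]; exact orderOf_dvd_natCard _
  obtain ⟨i, -, hi⟩ := (Nat.dvd_prime_pow Nat.prime_two).1 h1
  rw [hi] at h2
  rcases Nat.eq_zero_or_pos i with h0 | h0
  · rw [h0, pow_zero] at hi; exact orderOf_eq_one_iff.1 hi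
  · exact absurd (even_iff_two_dvd.2 ((dvd_pow_self 2 h0.ne').trans h2))
      (Nat.not_even_iff_odd.2 (CfsgLib.Bender.Dichotomy.odd_core2 c))

/-- A two-element of `C(c)` is determined by its image. -/
theorem eq_one_of_image {c : G} {x : ↥(cH c)} {k : ℕ} (hx : (x : G) ^ 2 ^ k = 1) (h : cπ c x = 1) :
    (x : G) = 1 :=
  eq_one_of_two_core hx (mem_oddCore_iff.1 ((QuotientGroup.eq_one_iff x).1 h))

theorem exists_pow_two {U : Subgroup G} (hU : IsPGroup 2 U) {x : G} (hx : x ∈ U) :
    ∃ k : ℕ, x ^ 2 ^ k = 1 := by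
  obtain ⟨k, hk⟩ := hU ⟨x, hx⟩
  exact ⟨k, congrArg Subtype.val hk⟩

theorem card_cimg {c : G} {B : Subgroup G} (hB : IsPGroup 2 B) (hle : B ≤ cH c) :
    Nat.card (cimg c B) = Nat.card B := by
  let f : B →* cQ c := (cπ c).comp (inclusion hle)
  have hf : Function.Injective f := (injective_iff_map_eq_one f).2 fun b hb => by
    obtain ⟨k, hk⟩ := exists_pow_two hB b.2
    exact Subtype.ext (eq_one_of_image (x := inclusion hle b) hk hb)
  have e : cimg c B = f.range := by
    ext z
    constructor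
    · rintro ⟨x, hx, rfl⟩; exact ⟨⟨x, hx⟩, rfl⟩
    · rintro ⟨b, rfl⟩; exact ⟨inclusion hle b, b.2, rfl⟩
  rw [e]
  exact Nat.card_congr (MonoidHom.ofInjective hf).toEquiv.symm

theorem mem_pM_of_image {c : G} (hB : BlockFacts A c) {x : ↥(cH c)} (h : cπ c x ∈ cimg c (pM A)) :
    (x : G) ∈ pM A := by
  obtain ⟨y, hy, e⟩ := h
  have h1 : (y : G)⁻¹ * x ∈ core c := by
    have := mem_oddCore_iff.1 (QuotientGroup.eq.1 e)
    simpa using this
  have h2 := mul_mem (mem_subgroupOf.1 hy) (core_le_pM hB h1)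
  rwa [mul_inv_cancel_left] at h2

theorem image_normalizes_Abar {c : G} (hc : c ∈ centralizer (A : Set G)) (hB : BlockFacts A c)
    {x : ↥(cH c)} (hx : (x : G) ∈ pM A) : cπ c x ∈ normalizer (cimg c A : Set (cQ c)) := by
  have hle : ∀ {x : ↥(cH c)}, (x : G) ∈ pM A → ∀ z ∈ cimg c A, cπ c x * z * (cπ c x)⁻¹ ∈ cimg c A := by
    rintro x hx _ ⟨a, ha, rfl⟩
    obtain ⟨n, hn, w, hw, e⟩ := exists_of_mem_pM hx
    have ha' : (a : G) ∈ A := mem_subgroupOf.1 ha
    have hna : n * a * n⁻¹ ∈ A := (mem_normalizer_iff.1 hn _).1 ha'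
    let a' : ↥(cH c) := ⟨n * a * n⁻¹, A_le_cH hc hna⟩
    refine ⟨a', mem_subgroupOf.2 hna, ?_⟩
    rw [← map_inv, ← map_mul, ← map_mul]
    refine (QuotientGroup.eq (s := Cfsg.oddCore ↥(cH c))).2 (mem_oddCore_iff.2 ?_)
    rw [hB.core_eq]
    refine ⟨?_, (a'⁻¹ * (x * a * x⁻¹)).2⟩
    have hw' : (a : G)⁻¹ * w * a * w⁻¹ ∈ W0 A := by
      refine mul_mem ?_ (inv_mem hw)
      have h := (mem_normalizer_iff.1 (normalizer_le_normalizer_W0
        (le_normalizer (inv_mem ha'))) w).1 hw
      rwa [inv_inv] at h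
    have h := (mem_normalizer_iff.1 (normalizer_le_normalizer_W0 hn) _).1 hw'
    show (n * (a : G) * n⁻¹)⁻¹ * ((x : G) * a * (x : G)⁻¹) ∈ W0 A
    rw [e]
    convert h using 1
    group
  rw [mem_normalizer_iff]
  refine fun z => ⟨hle hx z, fun h => ?_⟩
  have h1 := hle (x := x⁻¹) (inv_mem hx) _ h
  rwa [map_inv, inv_inv, show (cπ c x)⁻¹ * (cπ c x * z * (cπ c x)⁻¹) * cπ c x = z by group] at h1

theorem eq_of_card_formula {a b : ℕ} (ha : 2 ≤ a) (hb : 2 ≤ b)
    (h : a ^ 2 * (a ^ 2 + 1) * (a - 1) = b ^ 2 * (b ^ 2 + 1) * (b - 1)) : a = b := by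
  have key : ∀ x y : ℕ, 2 ≤ x → x < y → x ^ 2 * (x ^ 2 + 1) * (x - 1) < y ^ 2 * (y ^ 2 + 1) * (y - 1) := by
    intro x y hx hxy
    have h1 : x ^ 2 ≤ y ^ 2 := Nat.pow_le_pow_left hxy.le 2
    have h2 : x ^ 2 * (x ^ 2 + 1) ≤ y ^ 2 * (y ^ 2 + 1) := Nat.mul_le_mul h1 (by omega)
    calc x ^ 2 * (x ^ 2 + 1) * (x - 1) < x ^ 2 * (x ^ 2 + 1) * (y - 1) :=
          Nat.mul_lt_mul_of_pos_left (by omega) (by positivity)
      _ ≤ _ := Nat.mul_le_mul h2 le_rfl
  rcases lt_trichotomy a b with hlt | rfl | hlt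
  · exact absurd h (key a b ha hlt).ne
  · rfl
  · exact absurd h (key b a hb hlt).ne'

theorem exists_localData (hC : Ctx S A) {c : G} (hb : Bad A c) (hc : c ∈ centralizer (A : Set G)) :
    ∃ K m, LocalData A c K m := by
  classical
  obtain ⟨-, hB⟩ := hC.bad c hb (mem_normalizer_of_cj (eq_of_le_of_card_ge (cj_le_iff.2 fun a ha => by
    rw [← mem_centralizer_iff.1 hc a ha, mul_inv_cancel_right]; exact ha) (card_cj c A).ge))
  obtain ⟨K, hK, hsz, hcard, hAK⟩ := hB.comp
  obtain ⟨m, hm⟩ := hC.sz K hsz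
  have h8 := hC.pt.card
  have hq : Nat.card A = 2 ^ (2 * m + 1) := eq_of_card_formula (by omega) (by
      have := q_ge hm; omega)
    (hcard.symm.trans hm.card)
  set Ab := cimg c A with hAb
  set Mb := cimg c (pM A) with hMb
  have hAc : Nat.card Ab = 2 ^ (2 * m + 1) := by
    rw [hAb, card_cimg (isPGroup_A hC) (A_le_cH hc), hq]
  have hMN : Mb ≤ normalizer (Ab : Set (cQ c)) := by
    rintro _ ⟨x, hx, rfl⟩
    exact image_normalizes_Abar hc hB (mem_subgroupOf.1 hx)
  -- the index of the base stabiliser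
  have hidx : Mb.index = (2 ^ (2 * m + 1)) ^ 2 + 1 := by
    rw [hMb, index_map_eq _ (QuotientGroup.mk'_surjective _) (by
      rw [QuotientGroup.ker_mk']
      exact fun x hx => mem_subgroupOf.2 (core_le_pM hB (mem_oddCore_iff.1 hx)))]
    have e : (pM A).subgroupOf (cH c) = MulAction.stabilizer ↥(cH c) (base A) := by
      ext x
      rw [mem_subgroupOf, MulAction.mem_stabilizer_iff]
      exact smul_base_eq_iff.symm
    have horb : MulAction.orbit ↥(cH c) (base A) = Fix A c := by
      refine Set.ext fun p => ⟨?_, fun hp => ?_⟩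
      · rintro ⟨h, rfl⟩
        rw [MulAction.mem_fixedBy]
        show c • ((h : G) • base A) = (h : G) • base A
        rw [← mul_smul,
          ← mem_centralizer_singleton_iff.1 h.2, mul_smul, smul_base_eq_iff.2 hb.mem]
      · obtain ⟨g, hg, e⟩ := hB.trans p hp
        exact ⟨⟨g, hg⟩, e⟩
    rw [e, MulAction.index_stabilizer, horb, ← hq, ← hB.card_fix]
    rfl
  -- the Sylow subgroup over the image of `A`
  have hAKp : IsPGroup 2 (Ab.subgroupOf K) :=
    (((isPGroup_A hC).comap_subtype (K := cH c)).map (cπ c)).comap_subtype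
  obtain ⟨T, hT⟩ := hAKp.exists_le_sylow
  haveI : Nontrivial ↥(Ab.subgroupOf K) := by
    rw [← Finite.one_lt_card_iff_nontrivial, Nat.card_congr (subgroupOfEquivOfLe hAK).toEquiv, hAc]
    exact Nat.one_lt_two_pow (by omega)
  obtain ⟨⟨a0, ha0⟩, ha01⟩ := exists_ne (1 : ↥(Ab.subgroupOf K))
  have hNT : ∀ k : K, (k : cQ c) ∈ normalizer (Ab : Set (cQ c)) →
      k ∈ normalizer ((T : Subgroup K) : Set K) := by
    intro k hk
    refine smul_eq_iff.1 (eq_of_mem hm (x := k * a0 * k⁻¹) (fun e => ha01 (Subtype.ext ?_))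
      (conj_mem_sylow rfl (hT ha0)) (hT (mem_subgroupOf.2 ?_)))
    · exact conj_eq_one_iff.1 e
    · exact (mem_normalizer_iff.1 hk _).1 (mem_subgroupOf.1 ha0)
  have hle : Mb.subgroupOf K ≤ normalizer ((T : Subgroup K) : Set K) := fun k hk =>
    hNT k (hMN (mem_subgroupOf.1 hk))
  have hrel : (2 ^ (2 * m + 1)) ^ 2 + 1 ≤ Mb.relIndex K := by
    rw [← hm.index T]
    exact Nat.le_of_dvd (Nat.pos_of_ne_zero index_ne_zero_of_finite) (index_dvd_of_le hle)
  -- the component is normalised by the stabiliser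
  have hKM : Mb ≤ normalizer (K : Set (cQ c)) := by
    intro μ hμ
    have hcomp := CfsgLib.Components.isComponent_conj hK μ
    rcases CfsgLib.Components.components_eq_or_commute hcomp hK with e | e
    · exact mem_normalizer_of_cj e
    · exfalso
      have hmem : ((a0 : K) : cQ c) ∈ MulAut.conj μ • K := by
        rw [Subgroup.mem_pointwise_smul_iff_inv_smul_mem, MulAut.smul_def, MulAut.conj_inv_apply]
        exact hAK ((((mem_normalizer_iff''.1 (hMN hμ)) _).1) (mem_subgroupOf.1 ha0))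
      have hcen : a0 ∈ center K := mem_center_iff.2 fun k => Subtype.ext (by
        have h := commutator_mem_commutator hmem k.2
        rw [e, mem_bot, commutatorElement_eq_one_iff_mul_comm] at h
        exact h.symm)
      haveI := hm.simple
      rcases IsSimpleGroup.eq_bot_or_eq_top_of_normal (center K) inferInstance with h' | h'
      · rw [h', mem_bot] at hcen; exact ha01 (Subtype.ext hcen)
      · have ha0T : a0 ∈ (T : Subgroup K) := hT ha0
        have ha0sq : a0 ^ 2 = 1 := by
          obtain ⟨a, ha, e'⟩ := mem_subgroupOf.1 ha0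
          refine Subtype.ext ?_
          rw [SubgroupClass.coe_pow, ← e', ← map_pow,
            show a ^ 2 = 1 from Subtype.ext (hC.pt.elem.2 _ (mem_subgroupOf.1 ha)), map_one]
          rfl
        have h1 : ∀ k : K, k ∈ (T : Subgroup K) := fun k =>
          hm.cent_invol T a0 ha0T ha0sq (fun h => ha01 (Subtype.ext h))
            (mem_centralizer_singleton_iff.2 (mem_center_iff.1 hcen k))
        have h2 : (T : Subgroup K) = ⊤ := eq_top_iff.2 fun k _ => h1 k
        have h3 := hm.sylow_card T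
        rw [show Nat.card T = Nat.card (T : Subgroup K) from rfl, h2, card_top, hm.card] at h3
        have hq8 := q_ge hm
        have h4 : 1 < ((2 ^ (2 * m + 1)) ^ 2 + 1) * (2 ^ (2 * m + 1) - 1) :=
          Nat.one_lt_mul_iff.2 ⟨by positivity, by omega, Or.inr (by omega)⟩
        rw [mul_assoc] at h3
        exact absurd (Nat.eq_of_mul_eq_mul_left (by positivity) (h3.trans (mul_one _).symm)) h4.ne'
  have hN : normalizer (K : Set (cQ c)) = ⊤ := by
    refine index_eq_one.1 ?_
    have h1 := relIndex_mul_index hKM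
    have h2 : (2 ^ (2 * m + 1)) ^ 2 + 1 ≤ Mb.relIndex (normalizer (K : Set (cQ c))) :=
      hrel.trans (relIndex_le_of_le_right le_normalizer index_ne_zero_of_finite)
    rw [hidx] at h1
    have hpos : 0 < (normalizer (K : Set (cQ c))).index := Nat.pos_of_ne_zero index_ne_zero_of_finite
    nlinarith
  have hKn : K.Normal := normalizer_eq_top_iff.1 hN
  have hrel' : Mb.relIndex K = (2 ^ (2 * m + 1)) ^ 2 + 1 := by
    refine le_antisymm ?_ hrel
    rw [← hidx, ← relIndex_top_right]
    exact relIndex_le_of_le_right le_top index_ne_zero_of_finite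
  have hMK : normalizer ((T : Subgroup K) : Set K) ≤ Mb.subgroupOf K := by
    refine (eq_of_le_of_card_ge hle ?_).ge
    have e1 := card_mul_index (Mb.subgroupOf K)
    have e2 := card_mul_index (normalizer ((T : Subgroup K) : Set K))
    rw [show (Mb.subgroupOf K).index = Mb.relIndex K from rfl, hrel'] at e1
    rw [hm.index] at e2
    exact (Nat.eq_of_mul_eq_mul_right (Nat.succ_pos _) (e2.trans e1.symm)).le
  -- the product of the component and the stabiliser is everything
  have hprod : ∀ x : cQ c, ∃ k : K, (k : cQ c)⁻¹ * x ∈ Mb := by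
    have hinj : Function.Injective (fun y : K ⧸ Mb.subgroupOf K => (Quotient.liftOn' y
        (fun k => ((k : cQ c) : cQ c ⧸ Mb)) fun a b h => QuotientGroup.eq.2 (by
          have := mem_subgroupOf.1 (QuotientGroup.leftRel_apply.1 h)
          simpa using this) : cQ c ⧸ Mb)) := by
      intro a b
      refine Quotient.inductionOn₂' a b fun a b h => ?_
      refine Quotient.sound' (QuotientGroup.leftRel_apply.2 (mem_subgroupOf.2 ?_))
      simpa using QuotientGroup.eq.1 h
    have hbij := hinj.bijective_of_nat_card_le (by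
      rw [← index_eq_card, ← index_eq_card, show (Mb.subgroupOf K).index = Mb.relIndex K from rfl,
        hrel', hidx])
    intro x
    obtain ⟨y, hy⟩ := hbij.2 (x : cQ c ⧸ Mb)
    obtain ⟨k, rfl⟩ := QuotientGroup.mk_surjective y
    exact ⟨k, QuotientGroup.eq.1 hy⟩
  refine ⟨K, m, ⟨hb, hc, hB, hm, hq, hKn, hAK, le_antisymm hMN fun x hx => ?_⟩⟩
  obtain ⟨k, hk⟩ := hprod x
  have hkN : (k : cQ c) ∈ normalizer (Ab : Set (cQ c)) := by
    have := mul_mem hx (inv_mem (hMN hk))
    rwa [mul_inv_rev, inv_inv, mul_inv_cancel_left] at this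
  have := mul_mem (mem_subgroupOf.1 (hMK (hNT k hkN))) hk
  rwa [mul_inv_cancel_left] at this

end CfsgLib.ThreePrime.Block
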