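import Cfsg.Agent.Lib.ThreePrime.Sections
import Cfsg.Agent.Lib.ThreePrime.Block.SzDerived
import Cfsg.Agent.Lib.Components.FStar
import Cfsg.Agent.Lib.Components.Diagonal
import Cfsg.Agent.Lib.LocalEven.Zsigmondy
import Mathlib.Data.Nat.GCD.BigOperators

/-!
Owner: helper6.  Automorphisms of prime order `l`, a primitive divisor of `2 ^ n - 1`, in the sections of a
minimal counterexample.

* `IsPrim`: primitive prime divisors
* `exists_fixed_of_not_dvd`: fixed points on invariant sets
* `component_isSz_of_dvd`: the simple quotients of components of small sections are Suzuki groups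
* `component_data`: without fixed involutions every component is invariant and large
-/

set_option autoImplicit false
set_option linter.all false

namespace CfsgLib.ThreePrime.Block

open Subgroup
open scoped Pointwise

universe u

local instance factTwoBlockMoves : Fact (Nat.Prime 2) := ⟨Nat.prime_two⟩

/-- `l` is a primitive prime divisor of `2 ^ n - 1`. -/
structure IsPrim (l n : ℕ) : Prop where
  prime : l.Prime
  dvd : l ∣ 2 ^ n - 1
  least : ∀ k, 0 < k → k < n → ¬ l ∣ 2 ^ k - 1

theorem exists_prim {n : ℕ} (hn : 3 ≤ n) (hodd : Odd n) : ∃ l, IsPrim l n := by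
  obtain ⟨r, h1, h2, h3⟩ := CfsgLib.Zsigmondy.exists_primitive_prime_divisor (a := 2) (n := n)
    one_lt_two (by omega) (fun h => by obtain ⟨-, rfl⟩ := h; exact absurd hodd (by decide))
    (fun h => by omega)
  exact ⟨r, h1, h2, h3⟩

namespace IsPrim

variable {l n : ℕ} (hl : IsPrim l n)
include hl

theorem ne_two (hn : 0 < n) : l ≠ 2 := by
  rintro rfl
  have h := hl.dvd
  obtain ⟨k, rfl⟩ : ∃ k, n = k + 1 := ⟨n - 1, by omega⟩
  have : 0 < 2 ^ k := pow_pos (by norm_num) k
  rw [pow_succ] at h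
  omega

theorem dvd_iff (hn : 0 < n) {j : ℕ} : l ∣ 2 ^ j - 1 ↔ n ∣ j := by
  refine ⟨fun h => ?_, fun h => hl.dvd.trans (Nat.pow_sub_one_dvd_pow_sub_one 2 h)⟩
  have hg : l ∣ 2 ^ Nat.gcd n j - 1 := by
    rw [← Nat.pow_sub_one_gcd_pow_sub_one]
    exact Nat.dvd_gcd hl.dvd h
  have hg0 : 0 < Nat.gcd n j := Nat.gcd_pos_of_pos_left j hn
  rcases lt_or_eq_of_le (Nat.le_of_dvd hn (Nat.gcd_dvd_left n j)) with h' | h'
  · exact absurd hg (hl.least _ hg0 h')
  · exact h' ▸ Nat.gcd_dvd_right n j

theorem le (hn : 0 < n) (hodd : Odd n) : 2 * n + 1 ≤ l := by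
  have h2 := hl.ne_two hn
  haveI := Fact.mk hl.prime
  have hne : (2 : ZMod l) ≠ 0 := fun h => h2 ((Nat.prime_dvd_prime_iff_eq hl.prime Nat.prime_two).1
    ((ZMod.natCast_eq_zero_iff _ _).1 (by exact_mod_cast h)))
  have h1 : (2 : ZMod l) ^ (l - 1) = 1 := ZMod.pow_card_sub_one_eq_one hne
  have hd : l ∣ 2 ^ (l - 1) - 1 := by
    rw [← ZMod.natCast_eq_zero_iff, Nat.cast_sub (Nat.one_le_two_pow), Nat.cast_pow,
      Nat.cast_ofNat, Nat.cast_one, h1, sub_self]
  obtain ⟨k, hk⟩ := (hl.dvd_iff hn).1 hd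
  have hl3 : 3 ≤ l := by have := hl.prime.two_le; omega
  have hev : Even (l - 1) := by
    obtain ⟨r, hr⟩ := hl.prime.odd_of_ne_two h2
    exact ⟨r, by omega⟩
  rcases Nat.lt_or_ge k 2 with hk2 | hk2
  · exfalso
    interval_cases k
    · omega
    · rw [mul_one] at hk
      exact (Nat.not_even_iff_odd.2 hodd) (hk ▸ hev)
  · have : n * 2 ≤ n * k := Nat.mul_le_mul_left n hk2
    omega

theorem not_dvd_two_pow (hn : 0 < n) (j : ℕ) : ¬ l ∣ 2 ^ j := fun h =>
  hl.ne_two hn ((Nat.prime_dvd_prime_iff_eq hl.prime Nat.prime_two).1 (hl.prime.dvd_of_dvd_pow h))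

theorem dvd_of_suzuki (hn : 0 < n) (hodd : Odd n) {r : ℕ}
    (h : l ∣ ((2 ^ (2 * r + 1)) ^ 2 + 1) * (2 ^ (2 * r + 1) - 1)) : n ∣ 2 * r + 1 := by
  have hd : l ∣ 2 ^ (4 * (2 * r + 1)) - 1 := by
    refine h.trans ?_
    set s := 2 ^ (2 * r + 1) with hs
    have h1 : 1 ≤ s := Nat.one_le_two_pow
    refine ⟨s + 1, ?_⟩
    rw [mul_comm 4, pow_mul, ← hs]
    obtain ⟨t, ht⟩ : ∃ t, s = t + 1 := ⟨s - 1, by omega⟩
    rw [ht, Nat.add_sub_cancel]
    refine Nat.sub_eq_of_eq_add ?_
    ring
  exact (Nat.Coprime.pow_right 2 (Nat.coprime_two_right.2 hodd)).dvd_of_dvd_mul_left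
    ((hl.dvd_iff hn).1 hd : n ∣ 2 ^ 2 * (2 * r + 1))

end IsPrim

/-- An automorphism of prime order fixes a point of an invariant set of order prime to it. -/
theorem exists_fixed_of_not_dvd {α : Type*} [Finite α] (f : α → α) {l : ℕ} (hl : l.Prime)
    (hf : f^[l] = id) (h : ¬ l ∣ Nat.card α) : ∃ a, f a = a := by
  classical
  haveI := Fact.mk hl
  let e : Equiv.Perm α := ⟨f, f^[l - 1],
    fun a => by
      show f^[l - 1] (f a) = a
      rw [← Function.iterate_succ_apply f, Nat.succ_eq_add_one, Nat.sub_add_cancel hl.one_le, hf]; rfl,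
    fun a => by
      show f (f^[l - 1] a) = a
      rw [← Function.iterate_succ_apply' f, Nat.succ_eq_add_one, Nat.sub_add_cancel hl.one_le, hf]; rfl⟩
  have he : ∀ i : ℕ, ∀ a, (e ^ i) a = f^[i] a := fun i a => by
    rw [Equiv.Perm.coe_pow]; rfl
  have hel : e ^ l = 1 := Equiv.ext fun a => by rw [he, hf]; rfl
  have hpg : IsPGroup l (zpowers e) := by
    intro g
    refine ⟨1, Subtype.ext ?_⟩
    obtain ⟨i, hi⟩ := mem_zpowers_iff.1 g.2
    rw [SubgroupClass.coe_pow, pow_one, ← hi, ← zpow_natCast, ← zpow_mul, mul_comm, zpow_mul,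
      zpow_natCast, hel, one_zpow]
    rfl
  haveI := Fintype.ofFinite α
  obtain ⟨a, ha⟩ := hpg.nonempty_fixed_point_of_prime_not_dvd_card α h
  exact ⟨a, ha ⟨e, mem_zpowers e⟩⟩

variable {G : Type u} [Group G] [Finite G]

/-- The simple quotient of a component of a small section is a Suzuki group. -/
theorem component_isSz_of_dvd (h : Hyp G) {X : Type u} [Group X] [Finite X]
    (hd : Nat.card X ∣ Nat.card G) (hlt : Nat.card X < Nat.card G) {E : Subgroup X}
    (hE : Cfsg.IsComponent E) : Cfsg.Lie.IsoSuzuki (E ⧸ center E) := by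
  haveI := hE.2.2
  have hd' : Nat.card (E ⧸ center E) ∣ Nat.card X :=
    (card_quotient_dvd_card _).trans (card_subgroup_dvd_card E)
  refine h.small _ hE.2.2 ?_ (fun h3 => h.three (h3.trans (hd'.trans hd)))
    (lt_of_le_of_lt (Nat.le_of_dvd Nat.card_pos hd') hlt)
  intro hcm
  have h1 : commutator E ≤ center E := by
    rw [← Subgroup.Normal.quotient_commutative_iff_commutator_le]
    exact ⟨⟨hcm.is_comm.comm⟩⟩
  have h2 : (⊤ : Subgroup E) ≤ center E := hE.2.1.commutator_eq_top ▸ h1
  haveI : Nontrivial (E ⧸ center E) := IsSimpleGroup.toNontrivial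
  exact (QuotientGroup.nontrivial_iff.mp this) (top_le_iff.mp h2)

section Component

variable {X : Type*} [Group X] [Finite X]

omit [Finite X] in
theorem isComponent_map_inl {H : Type*} [Group H] {φ : H →* MulAut X} {E : Subgroup X}
    (hE : Cfsg.IsComponent E) : Cfsg.IsComponent (E.map (SemidirectProduct.inl : X →* X ⋊[φ] H)) := by
  set i : X →* X ⋊[φ] H := SemidirectProduct.inl with hi
  have hn : i.range.Normal := by
    rw [hi, SemidirectProduct.range_inl_eq_ker_rightHom]
    infer_instance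
  have e := CfsgLib.Components.isComponent_map_equiv
    (MonoidHom.ofInjective (f := i) SemidirectProduct.inl_injective) hE
  have h := (CfsgLib.Components.isComponent_map_subtype_iff hn.isSubnormal).2 e
  rwa [Subgroup.map_map,
    show i.range.subtype.comp
      (MonoidHom.ofInjective (f := i) SemidirectProduct.inl_injective).toMonoidHom = i from
        MonoidHom.ext fun x => rfl] at h

/-- The diagonal of a component moved by an automorphism of prime order. -/
theorem exists_diag {θ : MulAut X} {l : ℕ} (hl : l.Prime) (hθ : θ ^ l = 1) {E : Subgroup X}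
    (hE : Cfsg.IsComponent E) (hmove : E.map θ.toMonoidHom ≠ E) :
    ∃ D : E →* X, (∀ y : E, θ (D y) = D y) ∧
      (∀ y : E, ∀ m ∈ E, D y * m * (D y)⁻¹ = (y : X) * m * (y : X)⁻¹) ∧
      ∀ K : Subgroup X, (∀ a ∈ K, θ a ∈ K) → ∀ y : E, (y : X) ∈ K → D y ∈ K := by
  haveI := Fact.mk hl
  let φ : zpowers θ →* MulAut X := (zpowers θ).subtype
  haveI : Finite (zpowers θ) := (isOfFinOrder_iff_pow_eq_one.2 ⟨l, hl.pos, hθ⟩).finite_zpowers
  haveI : Finite (X ⋊[φ] zpowers θ) := Finite.of_equiv _ SemidirectProduct.equivProd.symm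
  let g : zpowers θ := ⟨θ, mem_zpowers θ⟩
  let x : X ⋊[φ] zpowers θ := SemidirectProduct.inr g
  have hconj : ∀ y : X, x * SemidirectProduct.inl y * x⁻¹ = SemidirectProduct.inl (θ y) := fun y => by
    rw [← map_inv, ← SemidirectProduct.inl_aut]
    rfl
  have hx : x ^ l = 1 := by
    rw [← map_pow, show g ^ l = 1 from Subtype.ext hθ, map_one]
  let E' : Subgroup (X ⋊[φ] zpowers θ) := E.map SemidirectProduct.inl
  have hnot : x ∉ normalizer (E' : Set (X ⋊[φ] zpowers θ)) := fun hx' => hmove (by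
    refine eq_of_le_of_card_ge ?_ (card_map_of_injective θ.injective).ge
    rintro _ ⟨y, hy, rfl⟩
    have h := (mem_normalizer_iff.1 hx' _).1 (mem_map_of_mem _ hy)
    rw [hconj] at h
    obtain ⟨z, hz, e⟩ := h
    show θ y ∈ E
    rwa [← SemidirectProduct.inl_injective e])
  have hP : CfsgLib.Components.IsPermuted l x E' := ⟨isComponent_map_inl hE, hx, hnot⟩
  let D' : E →* X ⋊[φ] zpowers θ :=
    hP.diagHom.comp (equivMapOfInjective E _ SemidirectProduct.inl_injective).toMonoidHom
  have hD' : ∀ y : E, D' y ∈ (SemidirectProduct.inl : X →* X ⋊[φ] zpowers θ).range := by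
    intro y
    have hn : (SemidirectProduct.inl : X →* X ⋊[φ] zpowers θ).range.Normal := by
      rw [SemidirectProduct.range_inl_eq_ker_rightHom]; infer_instance
    have key : ∀ n : ℕ, CfsgLib.Components.orbitProd x n
        (SemidirectProduct.inl (y : X)) ∈ (SemidirectProduct.inl : X →* X ⋊[φ] zpowers θ).range := by
      intro n
      induction n with
      | zero => exact one_mem _
      | succ n ih => exact mul_mem ih (hn.conj_mem _ ⟨_, rfl⟩ _)
    exact key l
  choose d hd using hD'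
  refine ⟨MonoidHom.mk' d fun a b => SemidirectProduct.inl_injective (φ := φ)
    (by rw [map_mul, hd, hd, hd, map_mul]), fun y => ?_, fun y m hm => ?_, fun K hK y hy => ?_⟩
  · refine SemidirectProduct.inl_injective (φ := φ) ?_
    show SemidirectProduct.inl (θ (d y)) = SemidirectProduct.inl (d y)
    rw [← hconj, hd, mul_inv_eq_iff_eq_mul]
    exact (hP.diagHom_commute _).eq.symm
  · refine SemidirectProduct.inl_injective (φ := φ) ?_
    show SemidirectProduct.inl (d y * m * (d y)⁻¹) = _
    rw [map_mul, map_mul, map_inv, hd, map_mul, map_mul, map_inv]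
    exact hP.diagHom_act _ (mem_map_of_mem _ hm)
  · let K' : Subgroup (X ⋊[φ] zpowers θ) := K.map SemidirectProduct.inl
    have hpow : ∀ (n : ℕ), ∀ a ∈ K, x ^ n * SemidirectProduct.inl a * (x ^ n)⁻¹ ∈ K' := by
      intro n
      induction n with
      | zero => intro a ha; exact ⟨a, ha, by simp⟩
      | succ n ih =>
        intro a ha
        have e : x ^ (n + 1) * SemidirectProduct.inl a * (x ^ (n + 1))⁻¹ =
            x ^ n * (x * SemidirectProduct.inl a * x⁻¹) * (x ^ n)⁻¹ := by rw [pow_succ]; group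
        rw [e, hconj]
        exact ih _ (hK a ha)
    have key : ∀ n : ℕ, CfsgLib.Components.orbitProd x n (SemidirectProduct.inl (y : X)) ∈ K' := by
      intro n
      induction n with
      | zero => exact one_mem _
      | succ n ih => exact mul_mem ih (hpow n _ hy)
    obtain ⟨z, hz, e⟩ := key l
    show d y ∈ K
    rwa [show d y = z from SemidirectProduct.inl_injective (φ := φ) ((hd y).trans e.symm)]

variable {E : Subgroup X}

theorem odd_center (h2 : Cfsg.pCore 2 X = ⊥) (hE : Cfsg.IsComponent E) :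
    Odd (Nat.card (center E)) := by
  rw [← Nat.not_even_iff_odd, even_iff_two_dvd]
  intro hd
  obtain ⟨z, hz⟩ := exists_prime_orderOf_dvd_card' 2 hd
  have hP : IsPGroup 2 (zpowers (z : E)) := by
    intro g
    refine ⟨1, Subtype.ext ?_⟩
    obtain ⟨i, hi⟩ := mem_zpowers_iff.1 g.2
    rw [SubgroupClass.coe_pow, pow_one, ← hi, ← zpow_natCast, ← zpow_mul, mul_comm, zpow_mul,
      zpow_natCast, ← SubgroupClass.coe_pow, show z ^ 2 = 1 by rw [← hz, pow_orderOf_eq_one],
      OneMemClass.coe_one, one_zpow]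
    rfl
  have hn : (zpowers (z : E)).Normal := ⟨fun a ha b => by
    have hc : a ∈ center E := zpowers_le.2 z.2 ha
    rwa [mem_center_iff.1 hc b, mul_inv_cancel_right]⟩
  have := CfsgLib.Components.subnormal_pGroup_le_pCore (p := 2)
    (hn.isSubnormal.trans' hE.1) (hP.map _)
    (mem_map_of_mem _ (mem_zpowers _))
  rw [h2, mem_bot] at this
  have e : z = 1 := Subtype.ext (Subtype.ext this)
  rw [e, orderOf_one] at hz
  omega

/-- An involution modulo an odd central subgroup has exactly one lift squaring to one. -/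
theorem exists_unique_lift {Y : Type*} [Group Y] [Finite Y] (hodd : Odd (Nat.card (center Y)))
    {x : Y ⧸ center Y} (hx : x ^ 2 = 1) :
    ∃! y : Y, y ^ 2 = 1 ∧ (y : Y ⧸ center Y) = x := by
  obtain ⟨y, rfl⟩ := QuotientGroup.mk_surjective x
  rw [← QuotientGroup.mk_pow, QuotientGroup.eq_one_iff] at hx
  obtain ⟨i, hi⟩ := hodd
  have hone : ∀ z ∈ center Y, z ^ (2 * i + 1) = 1 := fun z hz => by
    have : (⟨z, hz⟩ : center Y) ^ (2 * i + 1) = 1 := by rw [← hi]; exact pow_card_eq_one'
    exact congrArg Subtype.val this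
  refine ⟨y * (y ^ 2) ^ i, ⟨?_, ?_⟩, ?_⟩
  · rw [((Commute.refl y).pow_right 2).pow_right i |>.mul_pow, ← pow_mul, ← pow_succ', ← Nat.mul_comm 2]
    exact hone _ hx
  · rw [QuotientGroup.mk_mul, (QuotientGroup.eq_one_iff _).2 (pow_mem hx i), mul_one]
  · rintro z ⟨hz2, hz⟩
    obtain ⟨c, hc, rfl⟩ : ∃ c ∈ center Y, z = (y * (y ^ 2) ^ i) * c := by
      refine ⟨(y * (y ^ 2) ^ i)⁻¹ * z, ?_, (mul_inv_cancel_left _ _).symm⟩
      rw [← QuotientGroup.eq, hz, QuotientGroup.mk_mul, (QuotientGroup.eq_one_iff _).2 (pow_mem hx i),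
        mul_one]
    have h1 : c ^ 2 = 1 := by
      rw [(show Commute (y * (y ^ 2) ^ i) c from mem_center_iff.1 hc _).mul_pow,
        ((Commute.refl y).pow_right 2).pow_right i |>.mul_pow, ← pow_mul, ← pow_succ', ← Nat.mul_comm 2,
        hone _ hx, one_mul] at hz2
      exact hz2
    have h2 := hone c hc
    rw [pow_succ, pow_mul, h1, one_pow, one_mul] at h2
    rw [h2, mul_one]

/-- Without fixed involutions every component is invariant and its involutions fall into orbits. -/
theorem component_data {θ : MulAut X} {l r : ℕ} (hl : l.Prime) (hθ : θ ^ l = 1)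
    (hfix : ∀ x : X, θ x = x → x ^ 2 = 1 → x = 1) (h2 : Cfsg.pCore 2 X = ⊥) (hE : Cfsg.IsComponent E)
    (hf : SzFacts (E ⧸ center E) r) : l ∣ ((2 ^ (2 * r + 1)) ^ 2 + 1) * (2 ^ (2 * r + 1) - 1) := by
  classical
  have hodd := odd_center h2 hE
  have hlift := fun (x : E ⧸ center E) (hx : x ^ 2 = 1) => exists_unique_lift hodd hx
  by_cases hmove : E.map θ.toMonoidHom = E
  · let φ : MulAut E := (θ.subgroupMap E).trans (MulEquiv.subgroupCongr hmove)
    have hφ : ∀ y : E, (φ y : X) = θ y := fun y => rfl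
    let ψ : MulAut (E ⧸ center E) := QuotientGroup.congr (center E) (center E) φ
      (Subgroup.characteristic_iff_map_eq.1 inferInstance φ)
    have hψ : ∀ y : E, ψ y = ((φ y : E) : E ⧸ center E) := fun y => rfl
    rw [← card_invol hf]
    by_contra hnd
    let f : {x : E ⧸ center E // orderOf x = 2} → {x : E ⧸ center E // orderOf x = 2} :=
      fun x => ⟨ψ x.1, (orderOf_injective ψ.toMonoidHom ψ.injective x.1).trans x.2⟩
    have hit : ∀ (i : ℕ) (y : E), (((φ ^ i) y : E) : X) = (θ ^ i) y := by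
      intro i
      induction i with
      | zero => intro y; rfl
      | succ i ih => intro y; rw [pow_succ', MulAut.mul_apply, hφ, ih, pow_succ', MulAut.mul_apply]
    have hfl : f^[l] = id := by
      have key : ∀ (i : ℕ) (x : {x : E ⧸ center E // orderOf x = 2}) (y : E), x.1 = (y : E ⧸ center E) →
          (f^[i] x).1 = (((φ ^ i) y : E) : E ⧸ center E) := by
        intro i
        induction i with
        | zero => intro x y hy; exact hy
        | succ i ih =>
          intro x y hy
          rw [Function.iterate_succ_apply', pow_succ', MulAut.mul_apply]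
          show ψ (f^[i] x).1 = _
          rw [ih x y hy, hψ]
      funext x
      obtain ⟨y, hy⟩ := QuotientGroup.mk_surjective x.1
      refine Subtype.ext ?_
      rw [key l x y hy.symm, show (φ ^ l) y = y from Subtype.ext (by rw [hit, hθ]; rfl), hy]
      rfl
    obtain ⟨⟨x, hx⟩, hxf⟩ := exists_fixed_of_not_dvd f hl hfl hnd
    obtain ⟨y, ⟨hy2, hyx⟩, huniq⟩ := hlift x (sq_of_ord hx)
    have he : φ y = y := huniq _ ⟨by rw [← map_pow, hy2, map_one], by
      rw [← hψ, hyx]; exact congrArg Subtype.val hxf⟩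
    have := hfix y (by rw [← hφ, he]) (congrArg Subtype.val hy2)
    rw [← hyx, show y = 1 from Subtype.ext this, QuotientGroup.mk_one, orderOf_one] at hx
    omega
  · exfalso
    obtain ⟨D, hD, hact, -⟩ := exists_diag hl hθ hE hmove
    obtain ⟨T⟩ := (Sylow.nonempty : Nonempty (Sylow 2 (E ⧸ center E)))
    obtain ⟨x, hx, hx2⟩ := exists_four hf T
    obtain ⟨y, ⟨hy2, hyx⟩, -⟩ := hlift (x ^ 2) (sq_sq hf hx)
    have hD1 := hfix (D y) (hD y) (by rw [← map_pow, hy2, map_one])
    refine hx2 ?_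
    rw [← hyx, QuotientGroup.eq_one_iff, mem_center_iff]
    intro z
    have h := hact y z z.2
    rw [hD1, one_mul, inv_one, mul_one] at h
    exact Subtype.ext (by rw [Subgroup.coe_mul, Subgroup.coe_mul]; exact eq_mul_inv_iff_mul_eq.1 h)

end Component

end CfsgLib.ThreePrime.Block
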