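import Cfsg.Agent.Lib.ThreePrime.Block.Uniform

/-!
Owner: helper6.  With kernel parts of order at least four all bad involutions of `S` lie in the frame.

* `card_fibre_stab`, `outside_dvd`: the points moved freely by `S`
* `gR`: the elements moved by the torus modulo `A`
* `bad_mem_of_four`
-/

set_option autoImplicit false
set_option linter.all false

namespace CfsgLib.ThreePrime.Block

open Subgroup CfsgLib.Bender.Dichotomy CfsgLib.Signalizer
open scoped Pointwise

universe u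

local instance factTwoBlockOrbit : Fact (Nat.Prime 2) := ⟨Nat.prime_two⟩

theorem card_eq_self_subtype {α : Type*} (a : α) : Nat.card {x : α // x = a} = 1 :=
  Nat.card_unique

variable {G : Type u} [Group G] [Finite G] {S : Sylow 2 G} {A : Subgroup G} {m l : ℕ}
  {c : G} {U : Subgroup G} (hC : Ctx S A) (hA : Aut A m l) (hF : Frame S A c U)
include hC hA hF

/-- The bad involutions of `S` fixing a moved point form a kernel part. -/
theorem card_fibre_stab {p : Pts A} (hp : p ≠ base A)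
    (hfix : ∃ x ∈ (S : Subgroup G), x ≠ 1 ∧ x • p = p) :
    Nat.card {x : G // (x ∈ (S : Subgroup G) ∧ Bad A x) ∧ p ∈ Fix A x} + 1 =
      Nat.card (Qpart A c U) := by
  classical
  set V := (S : Subgroup G) ⊓ MulAction.stabilizer G p with hVdef
  obtain ⟨x0, hx0, hx01, hx0p⟩ := hfix
  have hV : V ≠ ⊥ := fun e => hx01 (by
    have : x0 ∈ V := mem_inf.2 ⟨hx0, MulAction.mem_stabilizer_iff.2 hx0p⟩
    rwa [e, mem_bot] at this)
  obtain ⟨c', U', hb', -, hc'V, hU', -, hVQ⟩ := exists_kernel_of_stab hC hA inf_le_left hV hp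
    (fun v hv => MulAction.mem_stabilizer_iff.1 (mem_inf.1 hv).2)
  have hc'S : c' ∈ (S : Subgroup G) := (mem_inf.1 hc'V).1
  obtain ⟨V', hF', hcard⟩ := exists_frame_of_bad hC hA hF hb' hc'S
  obtain ⟨-, -, -, hc'Q, -⟩ := frame_Q_data hC hA hF'
  have hp' : p ∈ Fix A c' := MulAction.mem_stabilizer_iff.1 (mem_inf.1 hc'V).2
  have e1 : V = Qpart A c' V' := by
    refine le_antisymm (fun v hv => mem_inf.2 ⟨?_, (hVQ hv).2⟩) fun w hw => mem_inf.2 ⟨hF'.le hw.1, ?_⟩
    · exact S_inf_cent hC hA hF' hc'Q (involution_ne_one hb'.ord) (mem_inf.1 hv).1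
        (mem_centralizer_singleton_iff.1 (hU'.le (hVQ hv).1).1)
    · exact MulAction.mem_stabilizer_iff.2 ((mem_fixingSubgroup_iff _).1 hw.2 p hp')
  rw [← hcard, ← e1]
  haveI := Fintype.ofFinite V
  rw [Nat.card_eq_fintype_card (α := V), ← Nat.card_eq_fintype_card (α := V)]
  have e2 : {x : G // (x ∈ (S : Subgroup G) ∧ Bad A x) ∧ p ∈ Fix A x} ≃ {x : V // x ≠ 1} :=
    { toFun := fun x => ⟨⟨x.1, mem_inf.2 ⟨x.2.1.1, MulAction.mem_stabilizer_iff.2 x.2.2⟩⟩,
        fun e => involution_ne_one x.2.1.2.ord (congrArg Subtype.val e)⟩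
      invFun := fun x => ⟨x.1.1, ⟨(mem_inf.1 x.1.2).1, (frame_bad hC hA hF' (e1 ▸ x.1.2)
        (fun e => x.2 (Subtype.ext e))).2.1⟩, MulAction.mem_stabilizer_iff.1 (mem_inf.1 x.1.2).2⟩
      left_inv := fun x => rfl
      right_inv := fun x => rfl }
  rw [Nat.card_congr e2, ← Nat.card_congr (Equiv.sumCompl fun x : V => x = 1), Nat.card_sum,
    card_eq_self_subtype, add_comm]

/-- The points moved freely by `S`, and those fixed by bad involutions. -/
theorem outside_dvd : ∃ J F : ℕ, Nat.card (Pts A) = 1 + J + F ∧ Nat.card (S : Subgroup G) ∣ F ∧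
    Nat.card {x : G // x ∈ (S : Subgroup G) ∧ Bad A x} * Nat.card A ^ 2 + J =
      J * Nat.card (Qpart A c U) := by
  classical
  let B := {x : G // x ∈ (S : Subgroup G) ∧ Bad A x}
  let J := {p : Pts A // p ≠ base A ∧ ∃ x ∈ (S : Subgroup G), x ≠ 1 ∧ x • p = p}
  let Fset : Set (Pts A) := {p | p ≠ base A ∧ ∀ x ∈ (S : Subgroup G), x • p = p → x = 1}
  haveI := Fintype.ofFinite B
  haveI := Fintype.ofFinite J
  refine ⟨Nat.card J, Nat.card Fset, ?_, ?_, ?_⟩
  · have e : Pts A ≃ ({p : Pts A // p = base A} ⊕ J) ⊕ Fset :=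
      { toFun := fun p => if h : p = base A then Sum.inl (Sum.inl ⟨p, h⟩)
          else if h' : ∃ x ∈ (S : Subgroup G), x ≠ 1 ∧ x • p = p then Sum.inl (Sum.inr ⟨p, h, h'⟩)
          else Sum.inr ⟨p, h, fun x hx hxp => by_contra fun hx1 => h' ⟨x, hx, hx1, hxp⟩⟩
        invFun := Sum.elim (Sum.elim (fun p => p.1) fun p => p.1) fun p => p.1
        left_inv := fun p => by
          by_cases h : p = base A
          · simp [h]
          · by_cases h' : ∃ x ∈ (S : Subgroup G), x ≠ 1 ∧ x • p = p <;> simp [h, h']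
        right_inv := fun s => by
          rcases s with (s | s) | s
          · simp [s.2]
            exact Subtype.ext s.2.symm
          · obtain ⟨p, h, h'⟩ := s
            simp [h, h']
          · obtain ⟨p, h, h'⟩ := s
            have h'' : ¬ ∃ x ∈ (S : Subgroup G), x ≠ 1 ∧ x • p = p := fun ⟨x, hx, hx1, hxp⟩ =>
              hx1 (h' x hx hxp)
            simp [h, h''] }
    rw [Nat.card_congr e, Nat.card_sum, Nat.card_sum,
      card_eq_self_subtype]
  · have hb : ∀ s ∈ (S : Subgroup G), s • base A = base A := fun s hs =>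
      smul_base_eq_iff.2 (S_le_pM hC hs)
    let Fsub : SubMulAction (S : Subgroup G) (Pts A) :=
      { carrier := Fset
        smul_mem' := fun s p hp => ⟨fun e => hp.1 (MulAction.injective (s : G)
            ((show (s : G) • p = base A from e).trans (hb s s.2).symm)),
          fun x hx hxp => by
            have h1 := hp.2 ((s : G)⁻¹ * x * s) (mul_mem (mul_mem (inv_mem s.2) hx) s.2) (by
              rw [mul_smul, mul_smul, show x • (s : G) • p = (s : G) • p from hxp, inv_smul_smul])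
            calc x = (s : G) * ((s : G)⁻¹ * x * s) * (s : G)⁻¹ := by group
              _ = 1 := by rw [h1]; group⟩ }
    have hfree : ∀ p : Fsub, MulAction.stabilizer (S : Subgroup G) p = ⊥ := fun p => by
      refine (Subgroup.eq_bot_iff_forall _).2 fun s hs => Subtype.ext (p.2.2 s s.2 ?_)
      exact congrArg Subtype.val (MulAction.mem_stabilizer_iff.1 hs)
    show Nat.card (S : Subgroup G) ∣ Nat.card Fsub
    rw [Nat.card_congr (MulAction.selfEquivOrbitsQuotientProd hfree), Nat.card_prod]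
    exact dvd_mul_left _ _
  · have hB : ∀ x : B, Nat.card {p : Pts A // p ≠ base A ∧ p ∈ Fix A x.1} = Nat.card A ^ 2 := by
      intro x
      have e : ↑(Fix A x.1) ≃ {p : Pts A // p = base A} ⊕ {p : Pts A // p ≠ base A ∧ p ∈ Fix A x.1} :=
        { toFun := fun p => if h : p.1 = base A then Sum.inl ⟨p, h⟩ else Sum.inr ⟨p, h, p.2⟩
          invFun := Sum.elim (fun p => ⟨p.1, p.2.symm ▸ base_mem_fix_iff.2 x.2.2.mem⟩)
            fun p => ⟨p.1, p.2.2⟩
          left_inv := fun p => by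
            by_cases h : p.1 = base A
            · simp [h]; exact Subtype.ext h.symm
            · simp [h]
          right_inv := fun s => by
            rcases s with s | s
            · simp [s.2]
              exact Subtype.ext s.2.symm
            · simp [s.2.1] }
      have h1 := Nat.card_congr e
      rw [card_fix_bad hC x.2.2, Nat.card_sum,
        card_eq_self_subtype] at h1
      omega
    have e : (Σ x : B, {p : Pts A // p ≠ base A ∧ p ∈ Fix A x.1}) ≃
        Σ p : J, {x : G // (x ∈ (S : Subgroup G) ∧ Bad A x) ∧ p.1 ∈ Fix A x} :=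
      { toFun := fun z => ⟨⟨z.2.1, z.2.2.1, z.1.1, z.1.2.1, involution_ne_one z.1.2.2.ord, z.2.2.2⟩,
          z.1.1, z.1.2, z.2.2.2⟩
        invFun := fun z => ⟨⟨z.2.1, z.2.2.1⟩, z.1.1, z.1.2.1, z.2.2.2⟩
        left_inv := fun z => rfl
        right_inv := fun z => rfl }
    have h1 := Nat.card_congr e
    rw [Nat.card_sigma, Nat.card_sigma] at h1
    simp only [hB, Finset.sum_const, Finset.card_univ, smul_eq_mul, ← Nat.card_eq_fintype_card] at h1
    have h2 : (∑ p : J, Nat.card {x : G // (x ∈ (S : Subgroup G) ∧ Bad A x) ∧ p.1 ∈ Fix A x}) +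
        Nat.card J = Nat.card J * Nat.card (Qpart A c U) := by
      rw [Nat.card_eq_fintype_card (α := J), ← Finset.card_univ, ← smul_eq_mul, ← Finset.sum_const,
        Finset.card_eq_sum_ones, ← Finset.sum_add_distrib]
      exact Finset.sum_congr rfl fun p _ => card_fibre_stab hC hA hF p.2.1 p.2.2
    rw [h1]
    exact h2

section Torus

variable {τ : G} (hτA : τ ∈ normalizer (A : Set G))
  (hτS : τ ∈ normalizer ((S : Subgroup G) : Set G)) (hτl : τ ^ l ∈ centralizer (A : Set G))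
  (hτn : τ ∉ centralizer (A : Set G)) (hτQ : ∀ w ∈ Qpart A c U, τ * w = w * τ)
  (hsq : ∀ s ∈ (S : Subgroup G), s ^ 2 ∈ A)
include hτA hτS hτl hτn hτQ hsq

/-- The elements moved by the torus modulo `A` form a subgroup of order `q³` with trivial meet with the
kernel part; it contains every invariant subgroup of `S` meeting the kernel part trivially. -/
theorem exists_moved : ∃ R : Subgroup G, R ≤ (S : Subgroup G) ∧ Nat.card R = Nat.card A ^ 3 ∧
    ∀ B : Subgroup G, A ≤ B → B ≤ (S : Subgroup G) → (∀ b ∈ B, τ * b * τ⁻¹ ∈ B) →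
      (∀ b ∈ B, b ∈ Qpart A c U → b = 1) → B ≤ R := by
  classical
  have hSX := S_le_centralizer hC hA
  obtain ⟨hQ2, hAQ, -, hcQ, hUc⟩ := frame_Q_data hC hA hF
  have hmul : ∀ s t : G, s ∈ (S : Subgroup G) → t ∈ (S : Subgroup G) →
      ∃ a ∈ A, s * t = a * (t * s) := fun s t hs ht => by
    refine ⟨_, comm_mem_of_sq hsq hs ht, ?_⟩
    group
  -- `R` is the set of `a [τ, t]`
  let R : Subgroup G :=
    { carrier := {s | ∃ a ∈ A, ∃ t ∈ (S : Subgroup G), s = a * (τ * t * τ⁻¹ * t⁻¹)}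
      one_mem' := ⟨1, one_mem _, 1, one_mem _, by group⟩
      mul_mem' := by
        rintro _ _ ⟨a, ha, t, ht, rfl⟩ ⟨a', ha', t', ht', rfl⟩
        set u := τ * t * τ⁻¹ with hu
        set u' := τ * t' * τ⁻¹ with hu'
        have huS : u ∈ (S : Subgroup G) := (mem_normalizer_iff.1 hτS t).1 ht
        have hu'S : u' ∈ (S : Subgroup G) := (mem_normalizer_iff.1 hτS t').1 ht'
        obtain ⟨b, hb, e1⟩ := hmul t⁻¹ u' (inv_mem ht) hu'S
        obtain ⟨d, hd, e2⟩ := hmul t⁻¹ t'⁻¹ (inv_mem ht) (inv_mem ht')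
        refine ⟨a * a' * b * d, mul_mem (mul_mem (mul_mem ha ha') hb) hd, t * t', mul_mem ht ht', ?_⟩
        have ca : ∀ {z x : G}, z ∈ A → x ∈ (S : Subgroup G) → z * x = x * z := fun hz hx =>
          mem_centralizer_iff.1 (hSX hx) _ hz
        calc a * (u * t⁻¹) * (a' * (u' * t'⁻¹)) = a * ((u * t⁻¹) * a') * (u' * t'⁻¹) := by group
          _ = a * (a' * (u * t⁻¹)) * (u' * t'⁻¹) := by rw [ca ha' (mul_mem huS (inv_mem ht))]
          _ = a * a' * u * (t⁻¹ * u') * t'⁻¹ := by group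
          _ = a * a' * u * (b * (u' * t⁻¹)) * t'⁻¹ := by rw [e1]
          _ = a * a' * (u * b) * u' * (t⁻¹ * t'⁻¹) := by group
          _ = a * a' * (b * u) * u' * (d * (t'⁻¹ * t⁻¹)) := by rw [← ca hb huS, e2]
          _ = a * a' * b * ((u * u') * d) * (t'⁻¹ * t⁻¹) := by group
          _ = a * a' * b * (d * (u * u')) * (t'⁻¹ * t⁻¹) := by rw [← ca hd (mul_mem huS hu'S)]
          _ = a * a' * b * d * (τ * (t * t') * τ⁻¹ * (t * t')⁻¹) := by rw [hu, hu']; group
      inv_mem' := by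
        rintro _ ⟨a, ha, t, ht, rfl⟩
        set u := τ * t * τ⁻¹ with hu
        have huS : u ∈ (S : Subgroup G) := (mem_normalizer_iff.1 hτS t).1 ht
        obtain ⟨b, hb, e1⟩ := hmul t u⁻¹ ht (inv_mem huS)
        refine ⟨a⁻¹ * b, mul_mem (inv_mem ha) hb, t⁻¹, inv_mem ht, ?_⟩
        have hm : t * u⁻¹ ∈ (S : Subgroup G) := mul_mem ht (inv_mem huS)
        calc (a * (u * t⁻¹))⁻¹ = (t * u⁻¹) * a⁻¹ := by group
          _ = a⁻¹ * (t * u⁻¹) := (mem_centralizer_iff.1 (hSX hm) _ (inv_mem ha)).symm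
          _ = a⁻¹ * b * (τ * t⁻¹ * τ⁻¹ * t⁻¹⁻¹) := by rw [e1, hu]; group }
  have hRS : R ≤ (S : Subgroup G) := by
    rintro _ ⟨a, ha, t, ht, rfl⟩
    exact mul_mem (hC.pt.le ha) (mul_mem ((mem_normalizer_iff.1 hτS t).1 ht) (inv_mem ht))
  have hAR : A ≤ R := fun a ha => ⟨a, ha, 1, one_mem _, by group⟩
  -- the defining map onto the image
  let D := gimg A (S : Subgroup G)
  letI : CommGroup D := { (inferInstance : Group D) with
    mul_comm := by
      rintro ⟨_, x, hx, rfl⟩ ⟨_, y, hy, rfl⟩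
      refine Subtype.ext ?_
      show gπ A x * gπ A y = gπ A y * gπ A x
      rw [← mul_inv_eq_one, mul_inv_rev, ← mul_assoc, ← map_inv, ← map_inv, ← map_mul, ← map_mul,
        ← map_mul]
      show QuotientGroup.mk' _ (QuotientGroup.mk' _ (x * y * x⁻¹ * y⁻¹)) = 1
      rw [show QuotientGroup.mk' (A.subgroupOf (centralizer (A : Set G))) (x * y * x⁻¹ * y⁻¹) = 1 from
        (QuotientGroup.eq_one_iff _).2 (mem_subgroupOf.2
          (comm_mem_of_sq hsq (mem_subgroupOf.1 hx) (mem_subgroupOf.1 hy))), map_one] }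
  have hmap : ∀ d : D, gAut A τ hτA d ∈ D := by
    rintro ⟨_, x, hx, rfl⟩
    rw [gAut_apply]
    exact gimg_mem ((mem_normalizer_iff.1 hτS _).1 (mem_subgroupOf.1 hx))
  let φ : D →* D := MonoidHom.mk' (fun d => (⟨gAut A τ hτA d, hmap d⟩ : D) * d⁻¹) fun d e => by
    rw [mul_inv, show (⟨gAut A τ hτA ↑(d * e), hmap _⟩ : D) = ⟨gAut A τ hτA d, hmap d⟩ * ⟨gAut A τ hτA e, hmap e⟩
      from Subtype.ext (map_mul _ _ _), mul_mul_mul_comm]
  let f : R →* gΓ A := (gπ A).comp (inclusion (hRS.trans hSX))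
  have hlift : ∀ d : D, ∃ t : ↥(gX A), (t : G) ∈ (S : Subgroup G) ∧ gπ A t = d := fun d => by
    obtain ⟨t, ht, e⟩ := d.2
    exact ⟨t, mem_subgroupOf.1 ht, e⟩
  have hval : ∀ (t : ↥(gX A)) (ht : (t : G) ∈ (S : Subgroup G)),
      ((φ ⟨gπ A t, gimg_mem ht⟩ : D) : gΓ A) =
        gπ A (⟨τ * t * τ⁻¹, conj_mem_centralizer_A hτA t.2⟩ * t⁻¹) := fun t ht => by
    rw [map_mul, map_inv]
    rfl
  have hA1 : ∀ (a : G) (ha : a ∈ A), gπ A ⟨a, hSX (hC.pt.le ha)⟩ = 1 := fun a ha => by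
    show QuotientGroup.mk' _ (QuotientGroup.mk' _ (⟨a, hSX (hC.pt.le ha)⟩ : ↥(gX A))) = 1
    rw [show QuotientGroup.mk' (A.subgroupOf (centralizer (A : Set G)))
      (⟨a, hSX (hC.pt.le ha)⟩ : ↥(gX A)) = 1 from
      (QuotientGroup.eq_one_iff _).2 (mem_subgroupOf.2 ha), map_one]
  have hrange : f.range = φ.range.map D.subtype := by
    ext z
    constructor
    · rintro ⟨⟨_, a, ha, t, ht, rfl⟩, rfl⟩
      refine ⟨_, ⟨⟨gπ A ⟨t, hSX ht⟩, gimg_mem ht⟩, rfl⟩, ?_⟩
      show ((φ _ : D) : gΓ A) = gπ A _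
      rw [hval ⟨t, hSX ht⟩ ht, show (inclusion (hRS.trans hSX) _ : ↥(gX A)) =
        ⟨a, hSX (hC.pt.le ha)⟩ * (⟨τ * t * τ⁻¹, conj_mem_centralizer_A hτA (hSX ht)⟩ * ⟨t, hSX ht⟩⁻¹)
        from rfl]
      conv_rhs => rw [map_mul, hA1 a ha, one_mul]
    · rintro ⟨_, ⟨d, rfl⟩, rfl⟩
      obtain ⟨t, ht, e⟩ := hlift d
      obtain rfl : d = ⟨gπ A t, gimg_mem ht⟩ := Subtype.ext e.symm
      refine ⟨⟨τ * t * τ⁻¹ * (t : G)⁻¹, 1, one_mem _, t, ht, (one_mul _).symm⟩, ?_⟩
      show gπ A _ = ((φ _ : D) : gΓ A)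
      rw [hval t ht]
      rfl
  have hker : f.ker = A.subgroupOf R := by
    ext r
    obtain ⟨j, hj⟩ := exists_pow_two S.isPGroup' (hRS r.2)
    exact ⟨fun h => mem_subgroupOf.2 (mem_A_of_gπ (x := inclusion (hRS.trans hSX) r) hj h),
      fun h => hA1 r (mem_subgroupOf.1 h)⟩
  have hphiker : Nat.card φ.ker = Nat.card (Qpart A c U) := by
    rw [← frame_card_W hC hA hF, ← card_map_of_injective D.subtype_injective]
    refine congrArg (fun H : Subgroup (gΓ A) => Nat.card H) (le_antisymm ?_ ?_)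
    · rintro _ ⟨d, hd, rfl⟩
      obtain ⟨t, ht, e⟩ := hlift d
      obtain rfl : d = ⟨gπ A t, gimg_mem ht⟩ := Subtype.ext e.symm
      have h1 : gπ A (⟨τ * t * τ⁻¹, conj_mem_centralizer_A hτA t.2⟩ * t⁻¹) = 1 := by
        rw [← hval t ht, MonoidHom.mem_ker.1 hd]; rfl
      obtain ⟨j, hj⟩ := exists_pow_two S.isPGroup'
        (mul_mem ((mem_normalizer_iff.1 hτS _).1 ht) (inv_mem ht))
      obtain ⟨a, ha, q, hq, e'⟩ := frame_fixed hC hA hF hτA hτl hτn hτS hτQ ht (mem_A_of_gπ hj h1)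
      refine ⟨⟨q, Q_le_X hC hA hF hq⟩, mem_subgroupOf.2 hq, ?_⟩
      show gπ A _ = gπ A t
      rw [show t = ⟨a, hSX (hC.pt.le ha)⟩ * ⟨q, Q_le_X hC hA hF hq⟩ from Subtype.ext e', map_mul,
        hA1 a ha, one_mul]
    · rintro _ ⟨q, hq, rfl⟩
      have hq' : (q : G) ∈ Qpart A c U := mem_subgroupOf.1 hq
      refine ⟨⟨gπ A q, gimg_mem (hF.le hq'.1)⟩, MonoidHom.mem_ker.2 (Subtype.ext ?_), rfl⟩
      rw [hval q (hF.le hq'.1), show (⟨τ * q * τ⁻¹, conj_mem_centralizer_A hτA q.2⟩ : ↥(gX A)) = q from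
        Subtype.ext (by show τ * q * τ⁻¹ = q; rw [hτQ _ hq', mul_inv_cancel_right]), mul_inv_cancel,
        map_one]
      rfl
  have hφcard : Nat.card φ.range = Nat.card A ^ 2 := by
    have e := φ.ker.index_mul_card
    rw [index_ker, hphiker, frame_card_D hC hA hF, hUc] at e
    exact Nat.eq_of_mul_eq_mul_right Nat.card_pos e
  refine ⟨R, hRS, ?_, fun B hAB hBS hBτ hBQ => ?_⟩
  · have e := f.ker.index_mul_card
    rw [index_ker, hrange, card_map_of_injective D.subtype_injective, hφcard, hker,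
      Nat.card_congr (subgroupOfEquivOfLe hAR).toEquiv] at e
    rw [← e]; ring
  · -- the torus moves every non-trivial element of `B` modulo `A`
    let DB : Subgroup D := (gimg A B).comap D.subtype
    have hmem : ∀ d : D, d ∈ DB ↔ ∃ b : ↥(gX A), (b : G) ∈ B ∧ gπ A b = d := fun d =>
      ⟨fun ⟨b, hb, e⟩ => ⟨b, mem_subgroupOf.1 hb, e⟩, fun ⟨b, hb, e⟩ => ⟨b, mem_subgroupOf.2 hb, e⟩⟩
    have hinto : ∀ d : DB, φ d.1 ∈ DB := fun d => by
      obtain ⟨b, hb, e⟩ := (hmem d.1).1 d.2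
      refine (hmem _).2 ⟨⟨τ * b * τ⁻¹, conj_mem_centralizer_A hτA b.2⟩ * b⁻¹,
        mul_mem (hBτ _ hb) (inv_mem hb), ?_⟩
      rw [← hval b (hBS hb)]
      exact congrArg (fun z : D => ((φ z : D) : gΓ A)) (Subtype.ext e)
    let ψ : DB →* DB := (φ.comp DB.subtype).codRestrict DB hinto
    have hψ : Function.Injective ψ := (injective_iff_map_eq_one ψ).2 fun d hd => by
      obtain ⟨b, hb, e⟩ := (hmem d.1).1 d.2
      have h1 : gπ A (⟨τ * b * τ⁻¹, conj_mem_centralizer_A hτA b.2⟩ * b⁻¹) = 1 := by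
        rw [← hval b (hBS hb), show φ ⟨gπ A b, gimg_mem (hBS hb)⟩ = 1 by
          rw [show (⟨gπ A b, gimg_mem (hBS hb)⟩ : D) = d.1 from Subtype.ext e]
          exact congrArg Subtype.val hd]
        rfl
      obtain ⟨j, hj⟩ := exists_pow_two S.isPGroup'
        (mul_mem ((mem_normalizer_iff.1 hτS _).1 (hBS hb)) (inv_mem (hBS hb)))
      obtain ⟨a, ha, q, hq, e'⟩ := frame_fixed hC hA hF hτA hτl hτn hτS hτQ (hBS hb) (mem_A_of_gπ hj h1)
      have hqB : q ∈ B := by
        have := mul_mem (inv_mem (hAB ha)) hb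
        rwa [e', inv_mul_cancel_left] at this
      have hb1 : gπ A b = 1 := by
        rw [show b = ⟨a, hSX (hC.pt.le ha)⟩ from Subtype.ext (by rw [e', hBQ q hqB hq, mul_one])]
        exact hA1 a ha
      exact Subtype.ext (Subtype.ext (e.symm.trans hb1))
    intro b hb
    obtain ⟨d, hd⟩ := Finite.surjective_of_injective hψ
      ⟨⟨gπ A ⟨b, hSX (hBS hb)⟩, gimg_mem (hBS hb)⟩, (hmem _).2 ⟨_, hb, rfl⟩⟩
    obtain ⟨t, ht, e⟩ := hlift d.1
    have h1 : gπ A ⟨b, hSX (hBS hb)⟩ = gπ A (⟨τ * t * τ⁻¹, conj_mem_centralizer_A hτA t.2⟩ * t⁻¹) := by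
      rw [← hval t ht, show (⟨gπ A t, gimg_mem ht⟩ : D) = d.1 from Subtype.ext e]
      exact (congrArg (fun z : DB => ((z.1 : D) : gΓ A)) hd).symm
    have hm : b * (τ * t * τ⁻¹ * (t : G)⁻¹)⁻¹ ∈ (S : Subgroup G) :=
      mul_mem (hBS hb) (inv_mem (mul_mem ((mem_normalizer_iff.1 hτS _).1 ht) (inv_mem ht)))
    obtain ⟨j, hj⟩ := exists_pow_two S.isPGroup' hm
    exact ⟨_, mem_A_of_gπ (x := (⟨b, hSX (hBS hb)⟩ : ↥(gX A)) *
        (⟨τ * t * τ⁻¹, conj_mem_centralizer_A hτA t.2⟩ * t⁻¹)⁻¹) hj (by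
      rw [map_mul, map_inv, h1, mul_inv_cancel]), t, ht, (inv_mul_cancel_right _ _).symm⟩

end Torus

variable (h4 : 4 ≤ Nat.card (Qpart A c U))
include h4

/-- All involutions of `S` lie in the frame. -/
theorem invol_mem_U (hct : CentralTwoGoal.{u}) :
    ∀ x ∈ (S : Subgroup G), x ^ 2 = 1 → x ∈ U := by
  classical
  rcases elem_or_U hC hA hF with h | hsq
  · exact h
  intro x hx hx2
  by_contra hxU
  obtain ⟨K, k, T, hd⟩ := exists_blockData hC hF.bad hF.cent
  obtain ⟨hQ2, hAQ, -, hcQ, hUc⟩ := frame_Q_data hC hA hF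
  obtain ⟨τ, hτo, hτS, hτU, hτA, hτl, hτn, hτQ⟩ := exists_tau_frame hC hA hF
  obtain ⟨R, hRS, hRcard, hRmax⟩ := exists_moved hC hA hF hτA hτS hτl hτn hτQ hsq
  have hSX := S_le_centralizer hC hA
  have hbot := oddCore_gY_eq_bot hC hA hF h4
  have hc1 := involution_ne_one hF.bad.ord
  -- the component part is invariant
  have hτc : τ ∈ cH c := mem_centralizer_singleton_iff.2 (hτQ c hcQ)
  have hP : Ppart c K U ≤ R := hRmax _ (A_le_P hd hF.top) (fun p hp => hF.le hp.1)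
    (fun p hp => Ppart_conj hC hA hd hF.top hτU hτc hp) (fun p hp hq => P_inf_Q hd hF.top hp hq)
  have hbadout : ∀ y ∈ (S : Subgroup G), y ^ 2 = 1 → y ∉ U → Bad A y := fun y hy hy2 hyU => by
    refine bad_of_not_isA hC hA (orderOf_eq_prime hy2 fun e => hyU (e ▸ one_mem _)) (S_le_pM hC hy)
      fun h => hyU (hF.top.A_le (h.mem hC hy))
  -- the kernel part of an outside involution
  have hker : ∀ y ∈ (S : Subgroup G), y ^ 2 = 1 → y ∉ U →
      y ∈ R ∧ Nat.card A ≤ Nat.card (Qpart A c U) := by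
    intro y hy hy2 hyU
    obtain ⟨V, hFy, hcardQ⟩ := exists_frame_of_bad hC hA hF (hbadout y hy hy2 hyU) hy
    obtain ⟨hV2, hAV, -, hyQ, -⟩ := frame_Q_data hC hA hFy
    obtain ⟨τ', hτ'o, hτ'S, -, hτ'A, hτ'l, hτ'n, hτ'Q⟩ := exists_tau_frame hC hA hFy
    obtain ⟨-, -, hWn⟩ := gamma_normal hC hA hFy hct hτ'A hτ'o hτ'l hτ'n hτ'S hτ'Q
    obtain ⟨i, hi⟩ := hA.scalar l hA.prim.prime τ' hτ'A τ hτA hτ'l hτl (hA.free τ' hτ'A hτ'l hτ'n)
      (hA.free τ hτA hτl hτn)
    set x1 := (τ' ^ i)⁻¹ * τ with hx1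
    set E := Qpart A y V with hE
    have hinv : ∀ e ∈ E, ∃ a ∈ A, ∃ e' ∈ E, τ * e * τ⁻¹ = a * e' := by
      intro e he
      have heX : e ∈ gX A := hSX (hFy.le he.1)
      obtain ⟨e', he', ee⟩ := hWn.conj_mem _ (gimg_mem (x := ⟨e, heX⟩) he) (gπ A ⟨x1, hi⟩)
      set z : ↥(gX A) := ⟨x1, hi⟩ * ⟨e, heX⟩ * ⟨x1, hi⟩⁻¹ with hz
      have h1 : gπ A (z * e'⁻¹) = 1 := by
        rw [map_mul, map_inv, ee, hz, map_mul, map_mul, map_inv, mul_inv_cancel]
      have h2 : QuotientGroup.mk' (A.subgroupOf (centralizer (A : Set G))) (z * e'⁻¹) ∈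
          Cfsg.oddCore (gY A) := (QuotientGroup.eq_one_iff _).1 h1
      rw [hbot, mem_bot] at h2
      have h3 : (x1 * e * x1⁻¹) * (e' : G)⁻¹ ∈ A := mem_subgroupOf.1 ((QuotientGroup.eq_one_iff _).1 h2)
      have hτ'i : τ' ^ i ∈ normalizer (A : Set G) := zpow_mem hτ'A i
      refine ⟨_, (mem_normalizer_iff.1 hτ'i _).1 h3, e', mem_subgroupOf.1 he', ?_⟩
      have hc' : τ' ^ i * (e' : G) * (τ' ^ i)⁻¹ = e' := by
        rw [((show Commute τ' e' from hτ'Q _ (mem_subgroupOf.1 he')).zpow_left i).eq, mul_inv_cancel_right]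
      calc τ * e * τ⁻¹ = τ' ^ i * (x1 * e * x1⁻¹ * (e' : G)⁻¹) * (τ' ^ i)⁻¹ *
            (τ' ^ i * (e' : G) * (τ' ^ i)⁻¹) := by rw [hx1]; group
        _ = _ := by rw [hc']
    have hEA : ∀ e ∈ E, ∀ a ∈ A, a * e = e * a := fun e he a ha =>
      mem_centralizer_iff.1 (hSX (hFy.le he.1)) a ha
    have hEn : A ≤ normalizer (E : Set G) := fun a ha =>
      centralizer_le_normalizer _ (mem_centralizer_iff.2 fun e he => (hEA e he a ha).symm)
    have hsup : ∀ z ∈ A ⊔ E, ∃ a ∈ A, ∃ e ∈ E, z = a * e := by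
      intro z hz
      rw [← SetLike.mem_coe, coe_mul_of_left_le_normalizer_right _ _ hEn, Set.mem_mul] at hz
      obtain ⟨a, ha, e, he, rfl⟩ := hz
      exact ⟨a, ha, e, he, rfl⟩
    -- the meet with the kernel part is trivial
    have hmeet : ∀ e ∈ E, ∀ a ∈ A, a * e ∈ Qpart A c U → e = 1 := by
      intro e he a ha hq
      by_contra he1
      set q := a * e with hqd
      have hq1 : q ≠ 1 := fun h => he1 (hAV e (by
        rw [eq_inv_of_mul_eq_one_right (show a * e = 1 from h)]; exact inv_mem ha) he)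
      have hUV : U ≤ V := fun v hv => S_inf_cent hC hA hFy he he1 (hF.le hv) (by
        have h1 : v * q = q * v := mem_centralizer_singleton_iff.1 (U_le_cent hC hA hF hq hv)
        have h2 : a * v = v * a := mem_centralizer_iff.1 (hSX (hF.le hv)) a ha
        rw [hqd, ← mul_assoc, ← h2, mul_assoc, mul_assoc] at h1
        exact mul_left_cancel h1)
      have hVU : U = V := eq_of_le_of_card_ge hUV (by
        have := hF.card.symm.trans hFy.card
        exact (Nat.eq_of_mul_eq_mul_left Nat.card_pos this).ge)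
      exact hyU (hVU.symm ▸ hyQ.1)
    refine ⟨?_, ?_⟩
    · refine hRmax (A ⊔ E) le_sup_left (sup_le hC.pt.le fun e he => hFy.le he.1) ?_ ?_
        (mem_sup_right hyQ)
      · intro z hz
        obtain ⟨a, ha, e, he, rfl⟩ := hsup z hz
        obtain ⟨a', ha', e', he', ee⟩ := hinv e he
        rw [show τ * (a * e) * τ⁻¹ = (τ * a * τ⁻¹) * (τ * e * τ⁻¹) by group, ee, ← mul_assoc]
        exact mul_mem (mem_sup_left (mul_mem ((mem_normalizer_iff.1 hτA a).1 ha) ha')) (mem_sup_right he')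
      · intro z hz hq
        obtain ⟨a, ha, e, he, rfl⟩ := hsup z hz
        have he1 := hmeet e he a ha hq
        rw [he1, mul_one] at hq ⊢
        exact hAQ a ha hq
    · -- the values on the kernel part
      let val : E →* A := MonoidHom.mk' (fun e => ⟨(e : G) * c * (e : G)⁻¹ * c⁻¹,
          frame_trans_value hC hA hF (hFy.le e.2.1) hcQ⟩) fun e e' => Subtype.ext (by
        have h1 := frame_trans_value hC hA hF (hFy.le e'.2.1) hcQ
        show (e : G) * e' * c * ((e : G) * e')⁻¹ * c⁻¹ =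
          ((e : G) * c * (e : G)⁻¹ * c⁻¹) * ((e' : G) * c * (e' : G)⁻¹ * c⁻¹)
        rw [show (e : G) * e' * c * ((e : G) * e')⁻¹ * c⁻¹ =
          (e : G) * ((e' : G) * c * (e' : G)⁻¹ * c⁻¹) * (e : G)⁻¹ * ((e : G) * c * (e : G)⁻¹ * c⁻¹) by group,
          commute_of_mem_cent h1 (hSX (hFy.le e.2.1))]
        exact elementary_comm hC.pt.elem h1 (frame_trans_value hC hA hF (hFy.le e.2.1) hcQ))
      rcases hA.irr τ hτA hτl hτn (val.range.map A.subtype) (map_subtype_le _) (by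
          rintro _ ⟨_, ⟨e, rfl⟩, rfl⟩
          obtain ⟨a', ha', e', he', ee⟩ := hinv e e.2
          refine ⟨val ⟨e', he'⟩, ⟨_, rfl⟩, ?_⟩
          show e' * c * e'⁻¹ * c⁻¹ = τ * ((e : G) * c * (e : G)⁻¹ * c⁻¹) * τ⁻¹
          have hcτ : τ * c * τ⁻¹ = c := by rw [hτQ c hcQ, mul_inv_cancel_right]
          rw [show τ * ((e : G) * c * (e : G)⁻¹ * c⁻¹) * τ⁻¹ =
            (τ * e * τ⁻¹) * (τ * c * τ⁻¹) * (τ * e * τ⁻¹)⁻¹ * (τ * c * τ⁻¹)⁻¹ by group, ee, hcτ,
            show a' * e' * c * (a' * e')⁻¹ * c⁻¹ = a' * (e' * c * e'⁻¹ * c⁻¹) * (c * a'⁻¹ * c⁻¹) by group,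
            ← mem_centralizer_iff.1 hF.cent a'⁻¹ (inv_mem ha'), mul_inv_cancel_right,
            elementary_comm hC.pt.elem ha' (frame_trans_value hC hA hF (hFy.le he'.1) hcQ),
            mul_inv_cancel_right]) with h | h
      · exfalso
        have h1 : y * c * y⁻¹ * c⁻¹ = 1 := by
          rw [← mem_bot, ← h]
          exact ⟨val ⟨y, hyQ⟩, ⟨_, rfl⟩, rfl⟩
        exact hyU (S_inf_cent hC hA hF hcQ hc1 hy (mul_inv_eq_iff_eq_mul.1 (mul_inv_eq_one.1 h1)))
      · calc Nat.card A = Nat.card val.range := by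
              conv_lhs => rw [← h]
              exact card_map_of_injective A.subtype_injective
          _ ≤ Nat.card E := Nat.le_of_dvd Nat.card_pos (card_range_dvd _)
          _ = Nat.card (Qpart A c U) := hcardQ
  obtain ⟨hxR, hQge⟩ := hker x hx hx2 hxU
  have hQeq : Nat.card (Qpart A c U) = Nat.card A := le_antisymm (frame_Q_data hC hA hF).2.2.1 hQge
  -- counting
  set B1 := Nat.card {y : G // y ∈ (S : Subgroup G) ∧ Bad A y ∧ y ∉ U} with hB1
  have hBin : Nat.card {y : G // y ∈ (S : Subgroup G) ∧ Bad A y ∧ y ∈ U} =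
      Nat.card A * (Nat.card A - 1) := by
    have hne : Nat.card {w : Qpart A c U // w ≠ 1} = Nat.card A - 1 := by
      have e := Nat.card_congr (Equiv.sumCompl fun w : Qpart A c U => w = 1)
      rw [Nat.card_sum, card_eq_self_subtype, hQeq] at e
      show Nat.card {w : Qpart A c U // ¬ w = 1} = Nat.card A - 1
      omega
    rw [← hne, ← Nat.card_prod]
    symm
    refine Nat.card_congr (Equiv.ofBijective (fun z : A × {w : Qpart A c U // w ≠ 1} =>
      ⟨(z.1 : G) * z.2.1, mul_mem (hC.pt.le z.1.2) (hF.le z.2.1.2.1), ?_,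
        mul_mem (hF.top.A_le z.1.2) z.2.1.2.1⟩) ⟨?_, ?_⟩)
    · obtain ⟨-, hb, hbA, -⟩ := frame_bad hC hA hF z.2.1.2 fun e => z.2.2 (Subtype.ext e)
      exact bad_mul hC hA hb hbA z.1.2
    · rintro ⟨a, w⟩ ⟨a', w'⟩ e
      have e' : (a : G) * w.1 = a' * w'.1 := congrArg Subtype.val e
      have h1 : (a' : G)⁻¹ * a = w'.1 * (w.1 : G)⁻¹ := by
        rw [inv_mul_eq_iff_eq_mul, ← mul_assoc, ← e', mul_inv_cancel_right]
      have h2 := hAQ _ (mul_mem (inv_mem a'.2) a.2) (h1 ▸ mul_mem w'.1.2 (inv_mem w.1.2))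
      have ha : (a' : G) = a := inv_mul_eq_one.1 h2
      rw [ha] at e'
      exact Prod.ext (Subtype.ext ha.symm) (Subtype.ext (Subtype.ext (mul_left_cancel e')))
    · rintro ⟨y, hyS, hyb, hyU⟩
      obtain ⟨a, ha, q, hq, rfl⟩ := exists_mul_of_invol hC hA hF hyU (sq_of_ord hyb.ord)
      refine ⟨(⟨a, ha⟩, ⟨⟨q, hq⟩, fun e => not_isA_of_bad hC hyb (isA_of_mem ?_ (involution_ne_one hyb.ord))⟩),
        rfl⟩
      rw [show q = 1 from congrArg Subtype.val e, mul_one]
      exact ha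
  have hsplit : Nat.card {y : G // y ∈ (S : Subgroup G) ∧ Bad A y} =
      Nat.card A * (Nat.card A - 1) + B1 := by
    rw [← hBin, hB1, ← Nat.card_sum]
    exact Nat.card_congr
      { toFun := fun y => if h : y.1 ∈ U then Sum.inl ⟨y.1, y.2.1, y.2.2, h⟩
          else Sum.inr ⟨y.1, y.2.1, y.2.2, h⟩
        invFun := Sum.elim (fun y => ⟨y.1, y.2.1, y.2.2.1⟩) fun y => ⟨y.1, y.2.1, y.2.2.1⟩
        left_inv := fun y => by by_cases h : (y : G) ∈ U <;> simp [h]
        right_inv := fun s => by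
          rcases s with s | s
          · simp [s.2.2.2]
          · simp [s.2.2.2] }
  have hB1pos : 0 < B1 := by
    haveI : Nonempty {y : G // y ∈ (S : Subgroup G) ∧ Bad A y ∧ y ∉ U} :=
      ⟨⟨x, hx, hbadout x hx hx2 hxU, hxU⟩⟩
    exact Nat.card_pos
  obtain ⟨J, Fn, hpts, hdvd, hJ⟩ := outside_dvd hC hA hF
  rw [hF.card, hUc, hQeq] at hdvd
  rw [hsplit, hQeq] at hJ
  rw [card_points hC hA] at hpts
  have hB1ge : Nat.card A ^ 2 * (Nat.card A - 1) ≤ B1 := by
    have hq : 2 ≤ Nat.card A := by have := hC.pt.card; omega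
    set q := Nat.card A
    obtain ⟨r, hr⟩ : ∃ r, q = r + 1 := ⟨q - 1, by omega⟩
    rw [show q - 1 = r by omega] at hJ hpts ⊢
    obtain ⟨f, hf⟩ := hdvd
    -- `q ^ 2` and `q - 1` divide `B1`
    have hZ : ((q : ℤ) ^ 2 * B1) = (q : ℤ) ^ 4 * ((r : ℤ) ^ 2 - f * r) := by
      have e1 : ((q : ℤ) ^ 2 + 1) * ((q : ℤ) ^ 2 * r + 1) = 1 + J + Fn := by exact_mod_cast hpts
      have e2 : ((q : ℤ) * r + B1) * (q : ℤ) ^ 2 + J = J * q := by exact_mod_cast hJ
      have e3 : (Fn : ℤ) = q * (q ^ 2 * q) * f := by exact_mod_cast hf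
      have e4 : (q : ℤ) = r + 1 := by exact_mod_cast hr
      rw [e4] at e1 e2 e3 ⊢
      linear_combination e2 - (r : ℤ) * e3 - (r : ℤ) * e1
    have hq0 : (q : ℤ) ^ 2 ≠ 0 := by positivity
    have h1 : (B1 : ℤ) = (q : ℤ) ^ 2 * ((r : ℤ) ^ 2 - f * r) :=
      mul_left_cancel₀ hq0 (by rw [hZ]; ring)
    have h2 : 1 ≤ (r : ℤ) - f := by
      by_contra hneg
      push Not at hneg
      have : (B1 : ℤ) ≤ 0 := by
        rw [h1, show (r : ℤ) ^ 2 - f * r = r * (r - f) by ring]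
        exact mul_nonpos_of_nonneg_of_nonpos (by positivity)
          (mul_nonpos_of_nonneg_of_nonpos (by positivity) (by omega))
      have : (0 : ℤ) < B1 := by exact_mod_cast hB1pos
      omega
    have : ((q : ℤ) ^ 2 * r) ≤ B1 := by
      rw [h1, show (r : ℤ) ^ 2 - f * r = r * (r - f) by ring]
      exact mul_le_mul_of_nonneg_left (le_mul_of_one_le_right (by positivity) h2) (by positivity)
    exact_mod_cast this
  -- every element of `R` outside the component part is an involution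
  have hout : ∀ y ∈ R, y ∉ Ppart c K U → y ^ 2 = 1 := by
    intro y hy hyP
    let inj : {z : G // z ∈ (S : Subgroup G) ∧ Bad A z ∧ z ∉ U} → {z : R // (z : G) ∉ Ppart c K U} :=
      fun z => ⟨⟨z.1, (hker z.1 z.2.1 (sq_of_ord z.2.2.1.ord) z.2.2.2).1⟩, fun h => z.2.2.2 h.1⟩
    have hinj : Function.Injective inj := fun a b e =>
      Subtype.ext (congrArg (fun z : {z : R // (z : G) ∉ Ppart c K U} => ((z.1 : R) : G)) e)
    have hle : Nat.card {z : R // (z : G) ∉ Ppart c K U} ≤ B1 := by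
      have e := Nat.card_congr (Equiv.sumCompl fun z : R => (z : G) ∈ Ppart c K U)
      rw [Nat.card_sum, hRcard, show Nat.card {z : R // (z : G) ∈ Ppart c K U} = Nat.card A ^ 2 from
        (Nat.card_congr { toFun := fun z => ⟨z.1.1, z.2⟩
                          invFun := fun z => ⟨⟨z.1, hP z.2⟩, z.2⟩
                          left_inv := fun z => rfl
                          right_inv := fun z => rfl }).trans (card_P hd hF.top)] at e
      refine le_trans ?_ hB1ge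
      rw [show Nat.card A ^ 2 * (Nat.card A - 1) = Nat.card A ^ 3 - Nat.card A ^ 2 by
        rw [Nat.mul_sub, mul_one, ← pow_succ]]
      omega
    obtain ⟨z, hz⟩ := (hinj.bijective_of_nat_card_le hle).2 ⟨⟨y, hy⟩, hyP⟩
    have e := congrArg (fun z : {z : R // (z : G) ∉ Ppart c K U} => ((z.1 : R) : G)) hz
    simp only [inj] at e
    rw [← e]
    exact sq_of_ord z.2.2.1.ord
  have hinvP : ∀ p ∈ Ppart c K U, x * p * x⁻¹ = p⁻¹ := fun p hp => by
    have h := hout (x * p) (mul_mem hxR (hP hp)) fun h => hxU (by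
      have := mul_mem h (inv_mem hp)
      rw [mul_inv_cancel_right] at this
      exact this.1)
    rw [sq] at h
    have hxi : x⁻¹ = x := inv_eq_of_mul_eq_one_right (by rw [← sq]; exact hx2)
    rw [eq_comm, ← mul_eq_one_iff_inv_eq]
    calc p * (x * p * x⁻¹) = x⁻¹ * (x * p * (x * p)) * x⁻¹⁻¹ := by
          rw [show x * p * x⁻¹ = x * p * x by rw [hxi]]; group
      _ = 1 := by rw [h]; group
  have hPA : Ppart c K U ≤ A := fun p hp =>
    mem_A_of_central_P hC hd (top_isMax hC hA hF.bad hF.cent hF.top) hp fun y hy => by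
      show p * y = y * p
      have := hinvP _ (mul_mem hp hy)
      rw [show x * (p * y) * x⁻¹ = (x * p * x⁻¹) * (x * y * x⁻¹) by group, hinvP p hp, hinvP y hy,
        ← mul_inv_rev] at this
      exact (inv_injective this).symm
  have h1 := Nat.le_of_dvd Nat.card_pos (card_dvd_of_le hPA)
  rw [card_P hd hF.top] at h1
  have h8 := hC.pt.card
  nlinarith

/-- Every bad involution of `S` is a conjugate of one in the kernel part. -/
theorem bad_mem_of_four (hct : CentralTwoGoal.{u}) {x : G} (hx : x ∈ (S : Subgroup G)) (hb : Bad A x) :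
    ∃ g ∈ (S : Subgroup G), g⁻¹ * x * g ∈ Qpart A c U := by
  obtain ⟨a, ha, q, hq, rfl⟩ := exists_mul_of_invol hC hA hF
    (invol_mem_U hC hA hF h4 hct x hx (sq_of_ord hb.ord)) (sq_of_ord hb.ord)
  have hq1 : q ≠ 1 := fun e => not_isA_of_bad hC hb (isA_of_mem (by rw [e, mul_one]; exact ha)
    (involution_ne_one hb.ord))
  obtain ⟨g, hg, e⟩ := frame_exists_value hC hA hF hq hq1 ha
  refine ⟨g, hg, ?_⟩
  rw [← e, show g⁻¹ * (g * q * g⁻¹) * g = q by group]
  exact hq

end CfsgLib.ThreePrime.Block
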