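import Cfsg.Agent.Lib.ThreePrime.Block.SplitSpec

/-!
Owner: helper10.  Elementary facts in the configuration `Split`.

* `mem_S_of_two`, `no_inv`: `S` is normal in the base stabiliser `M` with odd quotient
* `W_bad`, `stab_le_U`, `S_fix`, `split_of_mem`: the kernel part `W`
* `exists_U_smul`, `joined_of_bad`, `card_orbit`, `orbit_M`, `odd_stab`: the joined points, the `S`-orbit of a
  block point `o`
-/

set_option autoImplicit false
set_option linter.all false

namespace CfsgLib.ThreePrime.Block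

open Subgroup CfsgLib.Bender.Dichotomy CfsgLib.Signalizer

universe u

local instance factTwoBlockSplitBasic : Fact (Nat.Prime 2) := ⟨Nat.prime_two⟩

variable {G : Type u} [Group G] [Finite G] {S : Sylow 2 G} {A : Subgroup G} {m l : ℕ}
  {c : G} {U : Subgroup G}

omit [Finite G] in
theorem ker_le_blockStab (c : G) : blockKer A c ≤ blockStab A c := by
  intro g hg p
  rw [blockKer, mem_fixingSubgroup_iff] at hg
  refine ⟨fun h => ?_, fun h => by rw [hg p h]; exact h⟩
  have h1 := hg _ h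
  rw [← (MulAction.injective g) h1]
  exact h

section

variable (hC : Ctx S A) (hA : Aut A m l) (hs : Split S A c U)
include hs

theorem pM_eq : pM A = normalizer (A : Set G) := by
  rw [pM, hs.W0_bot, sup_bot_eq]

theorem mem_N {x : G} (hx : x ∈ pM A) : x ∈ normalizer (A : Set G) := (pM_eq hs) ▸ hx

theorem mem_S_of_two {x : G} (hx : x ∈ pM A) {k : ℕ} (h : x ^ 2 ^ k = 1) : x ∈ (S : Subgroup G) := by
  have := S.is_maximal' (S.isPGroup'.to_sup_of_normal_left' (isPGroup_zpowers h)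
    (zpowers_le.2 (hs.normal hx))) le_sup_left
  exact this ▸ mem_sup_right (mem_zpowers x)

omit hs in
theorem eq_one_of_S_odd {x : G} (hx : x ∈ (S : Subgroup G)) (ho : Odd (orderOf x)) : x = 1 := by
  obtain ⟨k, hk⟩ := exists_pow_two S.isPGroup' hx
  exact orderOf_eq_one_iff.1 (Nat.eq_one_of_dvd_coprimes
    (Nat.Coprime.pow_right k (Nat.coprime_two_right.2 ho)) dvd_rfl (orderOf_dvd_of_pow_eq_one hk))

omit [Finite G] hs in
theorem conj_pow_odd {x y : G} (h : y * x * y⁻¹ = x⁻¹) (n : ℕ) :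
    y ^ (2 * n + 1) * x * (y ^ (2 * n + 1))⁻¹ = x⁻¹ := by
  induction n with
  | zero => simpa using h
  | succ n ih =>
    have h2 : y * x⁻¹ * y⁻¹ = x := by rw [← conj_inv, h, inv_inv]
    calc y ^ (2 * (n + 1) + 1) * x * (y ^ (2 * (n + 1) + 1))⁻¹
        = y * (y * (y ^ (2 * n + 1) * x * (y ^ (2 * n + 1))⁻¹) * y⁻¹) * y⁻¹ := by
          rw [show 2 * (n + 1) + 1 = 2 * n + 1 + 1 + 1 by ring, pow_succ', pow_succ']; group
      _ = x⁻¹ := by rw [ih, h2, h]

/-- No element of `M` inverts an element of odd order of `M`. -/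
theorem no_inv {x y : G} (hx : x ∈ pM A) (hy : y ∈ pM A) (ho : Odd (orderOf x))
    (h : y * x * y⁻¹ = x⁻¹) : x = 1 := by
  obtain ⟨k, r, hr, hord⟩ := Nat.exists_eq_two_pow_mul_odd (orderOf_pos y).ne'
  obtain ⟨n, rfl⟩ := hr
  set u := y ^ (2 * n + 1) with hu
  have huS : u ∈ (S : Subgroup G) := mem_S_of_two hs (pow_mem hy _) (k := k) (by
    rw [hu, ← pow_mul, mul_comm, ← hord, pow_orderOf_eq_one])
  have hux : u * x * u⁻¹ = x⁻¹ := conj_pow_odd h n
  have h1 : x * u⁻¹ * x⁻¹ ∈ (S : Subgroup G) :=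
    (mem_normalizer_iff.1 (hs.normal hx) _).1 (inv_mem huS)
  have h2 : x⁻¹ * x⁻¹ ∈ (S : Subgroup G) := by
    have := mul_mem huS h1
    rwa [show u * (x * u⁻¹ * x⁻¹) = u * x * u⁻¹ * x⁻¹ by group, hux] at this
  have h3 : (x⁻¹ * x⁻¹ : G) = 1 := eq_one_of_S_odd h2 (by
    rw [← mul_inv_rev, orderOf_inv, ← sq]
    exact ho.of_dvd_nat (orderOf_pow_dvd 2))
  have h4 : x ^ 2 = 1 := by rw [← mul_inv_rev, inv_eq_one] at h3; rw [sq, h3]
  exact orderOf_eq_one_iff.1 (Nat.eq_one_of_dvd_coprimes (Nat.coprime_two_right.2 ho) dvd_rfl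
    (orderOf_dvd_of_pow_eq_one h4))

include hC

theorem core_bot {w : G} (hw : Bad A w) : core w = ⊥ := by
  rw [core_eq_bad hC hw, hs.W0_bot, bot_inf_eq]

theorem image_injective {w : G} (hw : Bad A w) : Function.Injective (cπ w) := by
  refine (MonoidHom.ker_eq_bot_iff _).1 ?_
  rw [QuotientGroup.ker_mk']
  exact (map_eq_bot_iff_of_injective _ (cH w).subtype_injective).1 ((map_oddCore w).trans (core_bot hC hs hw))

include hA

theorem W_sq {q : G} (hq : q ∈ Qpart A c U) : q ^ 2 = 1 := by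
  obtain ⟨K, k, T, hd⟩ := exists_blockData hC hs.bad hs.cent
  have hM := top_isMax hC hA hs.bad hs.cent hs.top
  obtain ⟨u, hu⟩ := exists_mover hC hA hd hM
  exact Q_sq hC hA hd hM hu hq

theorem W_comm {q r : G} (hq : q ∈ Qpart A c U) (hr : r ∈ Qpart A c U) : q * r = r * q := by
  obtain ⟨K, k, T, hd⟩ := exists_blockData hC hs.bad hs.cent
  have hM := top_isMax hC hA hs.bad hs.cent hs.top
  obtain ⟨u, hu⟩ := exists_mover hC hA hd hM
  exact Q_comm hC hA hd hM hu hq hr

theorem W_cent {q : G} (hq : q ∈ Qpart A c U) : q ∈ centralizer (A : Set G) :=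
  top_le_centralizer hC hA hs.top hq.1

omit hA in
theorem W_commute_c {q : G} (hq : q ∈ Qpart A c U) : Commute q c :=
  mem_centralizer_singleton_iff.1 (hs.top.le hq.1).1

theorem W_bad {w : G} (hw : w ∈ Qpart A c U) (hw1 : w ≠ 1) : Fix A w = Fix A c ∧ Bad A w :=
  ker_bad hC hs.bad (hC.bad c hs.bad (centralizer_le_normalizer _ hs.cent)).2 hw.2
    (orderOf_eq_prime (W_sq hC hA hs hw) hw1) (W_commute_c hC hs hw)

theorem stab_le_U {g : G} (hg : g ∈ (S : Subgroup G)) (hst : g ∈ blockStab A c) : g ∈ U := by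
  have h := (top_isMax hC hA hs.bad hs.cent hs.top).stab_max (U ⊔ zpowers g)
    (S.isPGroup'.to_le (sup_le hs.le (zpowers_le.2 hg))) le_sup_left
    (sup_le (hs.top.le.trans inf_le_right) (zpowers_le.2 (S_le_pM hC hg)))
    (sup_le (stabilises_of_le (hs.top.le.trans inf_le_left)) (zpowers_le.2 hst))
  exact h ▸ mem_sup_right (mem_zpowers g)

theorem mem_W {g : G} (hg : g ∈ (S : Subgroup G)) (hk : g ∈ blockKer A c) : g ∈ Qpart A c U :=
  ⟨stab_le_U hC hA hs hg (ker_le_blockStab c hk), hk⟩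

theorem c_mem_W : c ∈ Qpart A c U := by
  obtain ⟨K, k, T, hd⟩ := exists_blockData hC hs.bad hs.cent
  exact c_mem_Q hd hs.top

theorem W_comm_U {w u : G} (hw : w ∈ Qpart A c U) (hu : u ∈ U) : u * w = w * u := by
  obtain ⟨K, k, T, hd⟩ := exists_blockData hC hs.bad hs.cent
  obtain ⟨p, hp, q, hq, rfl⟩ := exists_P_mul_Q hd hs.top hu
  rw [mul_assoc, W_comm hC hA hs hq hw, ← mul_assoc, P_comm_Q hd hs.top hp hw, mul_assoc]

/-- An element of `S` fixing a second point of the block is in `W`. -/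
theorem S_fix {g : G} (hg : g ∈ (S : Subgroup G)) {p : Pts A} (hp : p ∈ Fix A c) (hp' : p ≠ base A)
    (hgp : g • p = p) : g ∈ Qpart A c U := by
  set V : Subgroup G := (S : Subgroup G) ⊓ MulAction.stabilizer G p with hV
  have hcS : c ∈ (S : Subgroup G) := hs.le (c_mem_W hC hA hs).1
  have hcV : c ∈ V := ⟨hcS, hp⟩
  obtain ⟨c', U', hb, hcA, -, hU', -, hVQ⟩ := exists_kernel_of_stab hC hA (V := V) inf_le_left
    (fun e => involution_ne_one hs.bad.ord (by rw [e] at hcV; exact mem_bot.1 hcV)) hp' fun v hv => hv.2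
  have hcQ := hVQ hcV
  have hfix := (ker_bad hC hb (hC.bad c' hb (centralizer_le_normalizer _ hcA)).2 hcQ.2 hs.bad.ord
    (mem_centralizer_singleton_iff.1 (hU'.le hcQ.1).1)).1
  refine mem_W hC hA hs hg ?_
  have : g ∈ blockKer A c' := (hVQ ⟨hg, hgp⟩).2
  rwa [blockKer, ← hfix] at this

/-- Every nontrivial element of `W` may replace `c`. -/
theorem split_of_mem {w : G} (hw : w ∈ Qpart A c U) (hw1 : w ≠ 1) :
    Split S A w U ∧ Qpart A w U = Qpart A c U := by
  obtain ⟨hfix, hb⟩ := W_bad hC hA hs hw hw1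
  have hQ : Qpart A w U = Qpart A c U := by rw [Qpart, Qpart, blockKer, blockKer, hfix]
  have hle : U ≤ cH w ⊓ pM A := le_inf (fun u hu =>
    mem_centralizer_singleton_iff.2 (W_comm_U hC hA hs hw hu)) (hs.top.le.trans inf_le_right)
  have hstab : blockStab A w = blockStab A c := SetLike.ext fun g => by
    show (∀ p : Pts A, g • p ∈ Fix A w ↔ p ∈ Fix A w) ↔ ∀ p : Pts A, g • p ∈ Fix A c ↔ p ∈ Fix A c
    rw [hfix]
  have htop : IsTop A w U := ⟨hs.top.two, hs.top.A_le, hle, fun V hV hUV hVle =>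
    (top_isMax hC hA hs.bad hs.cent hs.top).stab_max V hV hUV (hVle.trans inf_le_right)
      (fun v hv => hstab ▸ stabilises_of_le (hVle.trans inf_le_left) hv)⟩
  refine ⟨⟨hs.W0_bot, hb, W_cent hC hA hs hw, htop, hs.le, hs.card, hQ.symm ▸ hs.four,
    fun g hg => ?_, hs.normal, fun x hx hxb => hQ.symm ▸ hs.bad_mem x hx hxb⟩, hQ⟩
  obtain ⟨h1, h2, h3, h4⟩ := hs.trans_le hg
  exact ⟨h1, h2, h3, hQ.symm ▸ h4⟩

end

section Point

variable {o : Pts A} (hC : Ctx S A) (hA : Aut A m l) (hs : Split S A c U) (ho : o ∈ Fix A c)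
  (ho' : o ≠ base A)
include hC hA hs

omit hA in
theorem exists_opp : ∃ o : Pts A, o ∈ Fix A c ∧ o ≠ base A := by
  by_contra h
  push Not at h
  have h1 := card_fix_bad hC hs.bad
  have : Fix A c = {base A} := Set.eq_singleton_iff_unique_mem.2 ⟨base_mem_fix_iff.2 hs.bad.mem, h⟩
  rw [this] at h1
  simp at h1
  exact absurd h1 (Nat.card_pos (α := A)).ne'

include ho ho'

/-- `U` is transitive on the other points of the block. -/
theorem exists_U_smul {p : Pts A} (hp : p ∈ Fix A c) (hp' : p ≠ base A) : ∃ u ∈ U, u • o = p := by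
  classical
  obtain ⟨K, k, T, hd⟩ := exists_blockData hC hs.bad hs.cent
  let F' := {p : Pts A // p ∈ Fix A c ∧ p ≠ base A}
  let f : Ppart c K U → F' := fun u => ⟨(u : G) • o,
    (stabilises_of_le (hs.top.le.trans inf_le_left) u.2.1 o).2 ho,
    fun e => ho' ((MulAction.injective (u : G)) (e.trans (smul_base_eq_iff.2 (hs.top.le u.2.1).2).symm))⟩
  have hinj : Function.Injective f := fun a b e => by
    have e' : ((b : G)⁻¹ * a) • o = o := by
      rw [mul_smul, show (a : G) • o = (b : G) • o from congrArg Subtype.val e, inv_smul_smul]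
    exact Subtype.ext (inv_mul_eq_one.1 (P_semiregular hd hs.top (mul_mem (inv_mem b.2) a.2) ho ho' e')).symm
  have hcard : Nat.card F' = Nat.card (Ppart c K U) := by
    haveI := Fintype.ofFinite (Fix A c)
    have e : F' ≃ {p : Fix A c // p ≠ ⟨base A, base_mem_fix_iff.2 hs.bad.mem⟩} :=
      { toFun := fun p => ⟨⟨p.1, p.2.1⟩, fun e => p.2.2 (congrArg Subtype.val e)⟩
        invFun := fun p => ⟨p.1.1, p.1.2, fun e => p.2 (Subtype.ext e)⟩
        left_inv := fun p => rfl
        right_inv := fun p => rfl }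
    rw [card_P hd hs.top, Nat.card_congr e, Nat.card_eq_fintype_card, Fintype.card_subtype_compl,
      Fintype.card_subtype_eq, ← Nat.card_eq_fintype_card, card_fix_bad hC hs.bad, Nat.add_sub_cancel]
  obtain ⟨u, hu⟩ := ((Nat.bijective_iff_injective_and_card f).2 ⟨hinj, hcard.symm⟩).2 ⟨p, hp, hp'⟩
  exact ⟨u, u.2.1, congrArg Subtype.val hu⟩

omit hA hs ho in
theorem smul_ne_base {g : G} (hg : g ∈ (S : Subgroup G)) : g • o ≠ base A := fun e =>
  ho' ((MulAction.injective g) (e.trans (smul_base_eq_iff.2 (S_le_pM hC hg)).symm))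

/-- A point fixed by a bad involution is in the `S`-orbit of `o`. -/
theorem joined_of_bad {w : G} (hw : Bad A w) {p : Pts A} (hp : p ∈ Fix A w) (hp' : p ≠ base A) :
    ∃ g ∈ (S : Subgroup G), g • o = p := by
  obtain ⟨g, hg, hgW⟩ := hs.bad_mem w (mem_S_of_two hs hw.mem (k := 1) (by
    rw [pow_one]; exact sq_of_ord hw.ord)) hw
  have h1 : g⁻¹ * w * g ≠ 1 := fun e => involution_ne_one hw.ord (by
    rw [show w = g * (g⁻¹ * w * g) * g⁻¹ by group, e, mul_one, mul_inv_cancel])
  have h2 : g⁻¹ • p ∈ Fix A c := by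
    rw [← (W_bad hC hA hs hgW h1).1, MulAction.mem_fixedBy, mul_smul, mul_smul, smul_inv_smul, hp]
  obtain ⟨u, hu, e⟩ := exists_U_smul hC hA hs ho ho' h2 (fun e => hp' (by
    have := congrArg (g • ·) e
    simp only [smul_inv_smul] at this
    exact this.trans (smul_base_eq_iff.2 (S_le_pM hC hg))))
  exact ⟨g * u, mul_mem hg (hs.le hu), by rw [mul_smul, e, smul_inv_smul]⟩

theorem orbit_M {g u : G} (hg : g ∈ pM A) (hu : u ∈ (S : Subgroup G)) :
    ∃ v ∈ (S : Subgroup G), v • o = g • u • o := by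
  refine joined_of_bad hC hA hs ho ho' (w := g * u * c * (g * u)⁻¹)
    (bad_conj hC hs.bad (mul_mem hg (S_le_pM hC hu))) ?_ ?_
  · rw [← mul_smul]; exact mem_fix_conj.2 ho
  · intro e
    exact smul_ne_base hC ho' hu ((MulAction.injective g) (e.trans (smul_base_eq_iff.2 hg).symm))

theorem card_orbit : Nat.card (MulAction.orbit (S : Subgroup G) o) = Nat.card A ^ 3 := by
  obtain ⟨K, k, T, hd⟩ := exists_blockData hC hs.bad hs.cent
  have e := Nat.card_congr (MulAction.orbitProdStabilizerEquivGroup (S : Subgroup G) o)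
  have h1 : Nat.card (MulAction.stabilizer (S : Subgroup G) o) = Nat.card (Qpart A c U) :=
    Nat.card_congr
      { toFun := fun g => ⟨g.1.1, S_fix hC hA hs g.1.2 ho ho' g.2⟩
        invFun := fun g => ⟨⟨g.1, hs.le g.2.1⟩, (mem_fixingSubgroup_iff _).1 g.2.2 o ho⟩
        left_inv := fun g => rfl
        right_inv := fun g => rfl }
  rw [Nat.card_prod, h1, hs.card, card_top hC hd hs.top] at e
  exact Nat.eq_of_mul_eq_mul_right Nat.card_pos (e.trans (by ring))

/-- Off the orbit of `o` the two point stabiliser is odd. -/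
theorem odd_stab {d : G} (hd : d ∈ pM A) {p : Pts A} (hp : p ≠ base A) (hdp : d • p = p)
    (hn : ∀ g ∈ (S : Subgroup G), g • o ≠ p) : Odd (orderOf d) := by
  by_contra h
  rw [Nat.not_odd_iff_even] at h
  set v := d ^ (orderOf d / 2) with hv
  have hv2 : orderOf v = 2 := by
    rw [hv, orderOf_pow_of_dvd (by have := orderOf_pos d; obtain ⟨r, hr⟩ := h; omega)
      (Nat.div_dvd_of_dvd (even_iff_two_dvd.1 h)), Nat.div_div_self (even_iff_two_dvd.1 h) (orderOf_pos d).ne']
  have hvp : p ∈ Fix A v := by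
    have : d ∈ MulAction.stabilizer G p := hdp
    exact pow_mem this _
  obtain ⟨g, hg, e⟩ := joined_of_bad hC hA hs ho ho' ((bad_iff hC).2 ⟨hv2, pow_mem hd _, fun e => hp (by
    rw [e] at hvp; exact hvp)⟩) hvp hp
  exact hn g hg e

end Point

end CfsgLib.ThreePrime.Block
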