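import Cfsg.Agent.Lib.ThreePrime.Block.SplitTor
import Cfsg.Agent.Lib.ThreePrime.Cores
import Cfsg.Agent.Lib.LocalEven.Generation
import Cfsg.Agent.Lib.Core.SolvableStruct

/-!
Owner: helper10.  The centraliser of a torus element fixes the base and `o`.

* `isSolvable_of_two_exp`: a proper subgroup with all two-elements of order at most two is solvable
* `cent_S`, `fix_joined`, `fix_block`: the fixed points of a torus element
* `cent_le`, `cent_fix`: its centraliser
-/

set_option autoImplicit false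
set_option linter.all false

namespace CfsgLib.ThreePrime.Block

open Subgroup CfsgLib.Bender.Dichotomy CfsgLib.Signalizer

universe u

local instance factTwoBlockSplitCent : Fact (Nat.Prime 2) := ⟨Nat.prime_two⟩

variable {G : Type u} [Group G] [Finite G]

/-- A proper subgroup all of whose two-elements square to one is solvable. -/
theorem isSolvable_of_two_exp (h : Hyp G) (hsz : SzStep.{u}) {L : Subgroup G} (hL : L ≠ ⊤)
    (hexp : ∀ x ∈ L, ∀ k : ℕ, x ^ 2 ^ k = 1 → x ^ 2 = 1) : Group.IsSolvable L := by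
  suffices key : ∀ (n : ℕ) (K : Subgroup G), K ≤ L → Nat.card K = n → Group.IsSolvable K from
    key _ L le_rfl rfl
  intro n
  induction n using Nat.strong_induction_on with
  | _ n ih =>
    intro K hKL hn
    by_cases hK : K = ⊥
    · subst hK; infer_instance
    haveI : Nontrivial K := K.nontrivial_iff_ne_bot.2 hK
    obtain ⟨N, ⟨hNn, hNt⟩, hmax⟩ := (Set.toFinite {N : Subgroup K | N.Normal ∧ N ≠ ⊤}).exists_maximal
      ⟨⊥, inferInstance, bot_ne_top⟩
    haveI := hNn
    have hsimple : IsSimpleGroup (K ⧸ N) := by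
      haveI : Nontrivial (K ⧸ N) := QuotientGroup.nontrivial_iff.2 hNt
      refine ⟨fun H hH => ?_⟩
      by_cases hHt : H.comap (QuotientGroup.mk' N) = ⊤
      · exact Or.inr (comap_injective (QuotientGroup.mk'_surjective N) (hHt.trans (comap_top _).symm))
      · left
        have hle : N ≤ H.comap (QuotientGroup.mk' N) := fun x hx => by
          rw [mem_comap, show QuotientGroup.mk' N x = 1 from (QuotientGroup.eq_one_iff x).2 hx]
          exact one_mem _
        have := le_antisymm (hmax ⟨hH.comap _, hHt⟩ hle) hle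
        refine comap_injective (QuotientGroup.mk'_surjective N) ?_
        rw [this, MonoidHom.comap_bot, QuotientGroup.ker_mk']
    by_cases hab : IsMulCommutative (K ⧸ N)
    · haveI : Group.IsSolvable (N.map K.subtype) := by
        refine ih _ ?_ _ ((map_subtype_le N).trans hKL) rfl
        rw [← hn, card_map_of_injective K.subtype_injective]
        exact lt_of_le_of_ne (card_le_card_group N) fun e => hNt (eq_top_of_card_eq N e)
      refine (Group.isSolvable_iff_subgroup_quotient N).mpr ⟨Group.isSolvable_of_surjective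
        (f := (N.equivMapOfInjective _ K.subtype_injective).symm.toMonoidHom)
        (MulEquiv.surjective _), Group.isSolvable_of_comm fun a b => hab.is_comm.comm a b⟩
    · exfalso
      have hlt : Nat.card (K ⧸ N) < Nat.card G := by
        refine lt_of_le_of_lt (Nat.le_of_dvd Nat.card_pos (card_quotient_dvd_card N))
          (lt_of_le_of_ne (card_le_card_group K) fun e => hL ?_)
        exact top_le_iff.1 ((eq_top_of_card_eq K e).ge.trans hKL)
      obtain ⟨m, hm⟩ := hsz _ (h.section_isSz K N hsimple hab hlt)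
      obtain ⟨T⟩ := (Sylow.nonempty : Nonempty (Sylow 2 (K ⧸ N)))
      obtain ⟨y, hy, hy2⟩ := exists_four hm T
      obtain ⟨z, rfl⟩ := QuotientGroup.mk'_surjective N y
      obtain ⟨a, r, hr, hord⟩ := Nat.exists_eq_two_pow_mul_odd (orderOf_pos z).ne'
      have h1 : ((z : G) ^ r) ^ 2 = 1 := hexp _ (pow_mem (hKL z.2) r) a (by
        rw [← pow_mul, mul_comm, ← hord, ← SubgroupClass.coe_pow, pow_orderOf_eq_one]; rfl)
      have h2 : (z ^ r) ^ 2 = 1 := Subtype.ext (by
        rw [SubgroupClass.coe_pow, SubgroupClass.coe_pow]; exact h1)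
      have h3 : (QuotientGroup.mk' N z) ^ (r * 2) = 1 := by
        rw [← map_pow, pow_mul, h2, map_one]
      have h4 : (QuotientGroup.mk' N z) ^ 4 = 1 := hm.exp T _ hy
      refine hy2 (orderOf_dvd_iff_pow_eq_one.1 ?_)
      have h5 := Nat.dvd_gcd (orderOf_dvd_of_pow_eq_one h3) (orderOf_dvd_of_pow_eq_one h4)
      rwa [show 4 = 2 * 2 from rfl, Nat.gcd_mul_right, Nat.coprime_two_right.2 hr, one_mul] at h5

variable {S : Sylow 2 G} {A : Subgroup G} {m l : ℕ} {c : G} {U : Subgroup G} {o : Pts A}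
  {σ : G} {T0 : Subgroup G} {e : G}
  (hC : Ctx S A) (hA : Aut A m l) (hs : Split S A c U) (hT : TorusData A c U o σ T0)
  (he : e ∈ T0) (he1 : e ≠ 1)
include hC hA hs hT he he1

/-- A torus element centralises only `W` in `S`. -/
theorem cent_S {g : G} (hg : g ∈ (S : Subgroup G)) (hge : Commute e g) : g ∈ Qpart A c U := by
  obtain ⟨K, k, T, hd⟩ := exists_blockData hC hs.bad hs.cent
  have hec : e * c * e⁻¹ = c := by
    rw [mem_centralizer_singleton_iff.1 (hT.mem_cH hC hs he), mul_inv_cancel_right]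
  have hbc : g * c * g⁻¹ * c⁻¹ = 1 := by
    refine hT.fpf e he he1 _ ((hs.trans_le hg).2.2.2 c (c_mem_W hC hA hs)) ?_
    have h1 : e * g * e⁻¹ = g := mul_inv_eq_iff_eq_mul.2 hge.eq
    calc e * (g * c * g⁻¹ * c⁻¹) * e⁻¹ =
        (e * g * e⁻¹) * (e * c * e⁻¹) * (e * g * e⁻¹)⁻¹ * (e * c * e⁻¹)⁻¹ := by group
      _ = _ := by rw [h1, hec]
  have hgc : g ∈ cH c := mem_centralizer_singleton_iff.2 (mul_inv_eq_iff_eq_mul.1 (mul_inv_eq_one.1 hbc))
  have hgU : g ∈ U := stab_le_U hC hA hs hg (stabilises_of_le (le_refl (cH c)) hgc)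
  obtain ⟨p, hp, q, hq, rfl⟩ := exists_P_mul_Q hd hs.top hgU
  have heq : Commute e q := (mem_centralizer_iff.1 (hT.le_cent he) q hq).symm
  have hep : Commute e p := by
    have h := hge.mul_right heq.inv_right
    rwa [mul_inv_cancel_right] at h
  have hp2 : p ^ 2 ∈ A := (P_sq_iff hC hd hs.top (pow_mem hp 2)).1 (by
    let p' : ↥(cH c) := ⟨p, top_mem_cH hd hs.top hp.1⟩
    obtain ⟨hK, hPT⟩ := P_image hd hs.top (p := p') hp
    obtain ⟨i, hi⟩ := exists_pow_two hs.top.two (pow_mem (pow_mem hp.1 2) 2)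
    refine eq_one_of_image (x := (p' ^ 2) ^ 2) (k := i) hi ?_
    rw [map_pow, map_pow]
    exact congrArg Subtype.val (sq_sq hd.facts hPT))
  have hp21 : p ^ 2 = 1 :=
    hT.fpf e he he1 _ hp2 (mul_inv_eq_iff_eq_mul.2 (hep.pow_right 2).eq)
  have hp1 : p = 1 := hT.fpf e he he1 _ ((P_sq_iff hC hd hs.top hp).1 hp21)
    (mul_inv_eq_iff_eq_mul.2 hep.eq)
  rw [hp1, one_mul]
  exact hq

variable (ho : o ∈ Fix A c) (ho' : o ≠ base A)
include ho ho'

/-- A torus element fixes only `o` among the joined points. -/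
theorem fix_joined {g : G} (hg : g ∈ (S : Subgroup G)) (hfix : e • g • o = g • o) : g • o = o := by
  have heo : e⁻¹ • o = o := by rw [inv_smul_eq_iff, hT.fix e he]
  have hwS : g⁻¹ * (e * g * e⁻¹) ∈ (S : Subgroup G) :=
    mul_mem (inv_mem hg) ((mem_normalizer_iff.1 (hs.normal (hT.le_pM he)) g).1 hg)
  have hw : g⁻¹ * (e * g * e⁻¹) ∈ Qpart A c U := S_fix hC hA hs hwS ho ho' (by
    rw [mul_smul, mul_smul, mul_smul, heo, hfix, inv_smul_smul])
  set w := g⁻¹ * (e * g * e⁻¹) with hwdef
  have hge : MulAut.conj e g = g := by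
    refine fixed_of_odd_period (MulAut.conj e) (hT.odd hC hA hs he)
      (by rw [← map_pow, pow_orderOf_eq_one, map_one]) (z := w) ?_ ?_ (W_sq hC hA hs hw)
    · rw [MulAut.conj_apply, hwdef, mul_inv_cancel_left]
    · rw [MulAut.conj_apply, ← mem_centralizer_iff.1 (hT.le_cent he) w hw, mul_inv_cancel_right]
  rw [MulAut.conj_apply] at hge
  exact (mem_fixingSubgroup_iff _).1 (cent_S hC hA hs hT he he1 hg (mul_inv_eq_iff_eq_mul.1 hge)).2 o ho

theorem fix_block {p : Pts A} (hp : p ∈ Fix A c) (hfix : e • p = p) : p = base A ∨ p = o := by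
  by_cases hpb : p = base A
  · exact Or.inl hpb
  obtain ⟨u, hu, rfl⟩ := exists_U_smul hC hA hs ho ho' hp hpb
  exact Or.inr (fix_joined hC hA hs hT he he1 ho ho' (hs.le hu) hfix)

theorem stab_cent_le {y : G} (hy : Commute y e) (hst : y ∈ blockStab A c) : y ∈ pM A := by
  have h1 : y • base A ∈ Fix A c := (hst _).2 (base_mem_fix_iff.2 hs.bad.mem)
  have h2 : e • y • base A = y • base A := by
    rw [← mul_smul, ← hy.eq, mul_smul, smul_base_eq_iff.2 (hT.le_pM he)]
  rcases fix_block hC hA hs hT he he1 ho ho' h1 h2 with h | h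
  · exact smul_base_eq_iff.1 h
  · exfalso
    refine he1 (no_inv hs (hT.le_pM he) (y := σ * y) (smul_base_eq_iff.1 (by
      rw [mul_smul, h, hT.sigma_o])) (hT.odd hC hA hs he) ?_)
    calc σ * y * e * (σ * y)⁻¹ = σ * (y * e * y⁻¹) * σ⁻¹ := by group
      _ = e⁻¹ := by rw [hy.eq, mul_inv_cancel_right, hT.inv e he]

theorem W_le_cent : Qpart A c U ≤ centralizer ({e} : Set G) := fun w hw =>
  mem_centralizer_singleton_iff.2 (mem_centralizer_iff.1 (hT.le_cent he) w hw)

/-- The centraliser of a torus element fixes the base. -/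
theorem cent_le : centralizer ({e} : Set G) ≤ pM A := by
  classical
  set L := centralizer ({e} : Set G) with hL
  have hWL : Qpart A c U ≤ L := W_le_cent hC hA hs hT he he1 ho ho'
  have hstabN : ∀ y : G, (∀ w ∈ Qpart A c U, y * w * y⁻¹ ∈ Qpart A c U) → y ∈ blockStab A c := by
    intro y hy p
    have hcW := c_mem_W hC hA hs
    have h1 : y • p ∈ Fix A (y * c * y⁻¹) ↔ p ∈ Fix A c := mem_fix_conj
    rwa [(W_bad hC hA hs (hy c hcW) (fun h => involution_ne_one hs.bad.ord (conj_eq_one_iff.1 h))).1] at h1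
  have hWp : IsPGroup 2 (Qpart A c U) := hs.top.two.to_le inf_le_left
  have hmax : ∀ V : Subgroup G, IsPGroup 2 V → Qpart A c U ≤ V → V ≤ L → V = Qpart A c U := by
    intro V hV hWV hVL
    by_contra hne
    have hne' : (Qpart A c U).subgroupOf V ≠ ⊤ := fun h =>
      hne (le_antisymm (subgroupOf_eq_top.1 h) hWV)
    haveI := hV.isNilpotent
    obtain ⟨v, hvN, hvW⟩ := Set.exists_of_ssubset
      (Group.normalizerCondition_of_isNilpotent _ (lt_top_iff_ne_top.2 hne'))
    refine hvW (mem_subgroupOf.2 ?_)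
    have hst : (v : G) ∈ blockStab A c := hstabN _ fun w hw =>
      mem_subgroupOf.1 ((mem_normalizer_iff.1 hvN ⟨w, hWV hw⟩).1 (mem_subgroupOf.2 hw))
    have hve : Commute (v : G) e := mem_centralizer_singleton_iff.1 (hVL v.2)
    obtain ⟨i, hi⟩ := exists_pow_two hV v.2
    exact cent_S hC hA hs hT he he1
      (mem_S_of_two hs (stab_cent_le hC hA hs hT he he1 ho ho' hve hst) hi) hve.symm
  let P : Sylow 2 L :=
    { toSubgroup := (Qpart A c U).subgroupOf L
      isPGroup' := hWp.comap_subtype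
      is_maximal' := fun {V} hV hle => by
        have h := hmax (V.map L.subtype) (hV.map _) (fun w hw => ⟨⟨w, hWL hw⟩, hle hw, rfl⟩)
          (map_subtype_le V)
        exact le_antisymm (fun v hv => mem_subgroupOf.2 (h ▸ mem_map_of_mem L.subtype hv)) hle }
  haveI hPc : IsMulCommutative (P : Subgroup L) := ⟨⟨fun a b => Subtype.ext (Subtype.ext
    (W_comm hC hA hs (mem_subgroupOf.1 a.2) (mem_subgroupOf.1 b.2)))⟩⟩
  have hexp : ∀ a ∈ (P : Subgroup L), a ^ 2 = 1 := fun a ha => Subtype.ext (by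
    rw [SubgroupClass.coe_pow]; exact W_sq hC hA hs (mem_subgroupOf.1 ha))
  have hexpL : ∀ x ∈ L, ∀ i : ℕ, x ^ 2 ^ i = 1 → x ^ 2 = 1 := by
    intro x hx i hi
    obtain ⟨Q, hQ⟩ := (isPGroup_zpowers (G := L) (x := ⟨x, hx⟩) (Subtype.ext hi : _)).exists_le_sylow
    obtain ⟨g, hg⟩ := MulAction.exists_smul_eq L P Q
    have h1 := hQ (mem_zpowers _)
    rw [← hg, Sylow.coe_subgroup_smul] at h1
    obtain ⟨a, ha, ha'⟩ := h1
    have h2 : (⟨x, hx⟩ : L) ^ 2 = 1 := by
      rw [← ha']
      show (g * a * g⁻¹) ^ 2 = 1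
      rw [conj_pow, hexp a ha, mul_one, mul_inv_cancel]
    exact congrArg Subtype.val h2
  haveI : Group.IsSolvable L :=
    isSolvable_of_two_exp hC.pt.hyp hC.sz (hC.pt.hyp.centralizer_ne_top he1) hexpL
  haveI := CfsgLib.Core.sylow_sup_pPrimeCore_normal_of_abelian P hPc
  set O := Cfsg.pPrimeCore 2 L with hOdef
  have hfr := Sylow.normalizer_sup_eq_top (N := (P : Subgroup L) ⊔ O) (P.subtype le_sup_left)
  have hmap : ((P.subtype (le_sup_left : (P : Subgroup L) ≤ (P : Subgroup L) ⊔ O) : Sylow 2 _) :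
      Subgroup ↥((P : Subgroup L) ⊔ O)).map ((P : Subgroup L) ⊔ O).subtype = P := by
    rw [Sylow.coe_subtype, subgroupOf_map_subtype, inf_eq_left.2 le_sup_left]
  rw [hmap] at hfr
  have hcW : ∀ a ∈ (P : Subgroup L), a ≠ 1 → centralizer ({a} : Set L) ≤ (pM A).subgroupOf L := by
    intro a ha ha1 y hy
    refine mem_subgroupOf.2 (stab_cent_le hC hA hs hT he he1 ho ho' (mem_centralizer_singleton_iff.1 y.2) ?_)
    intro p
    have hay : Commute (y : G) (a : G) := congrArg Subtype.val (mem_centralizer_singleton_iff.1 hy)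
    have h1 : (y : G) • p ∈ Fix A ((y : G) * a * (y : G)⁻¹) ↔ p ∈ Fix A (a : G) := mem_fix_conj
    rw [hay.eq, mul_inv_cancel_right,
      (W_bad hC hA hs (mem_subgroupOf.1 ha) (fun h => ha1 (Subtype.ext h))).1] at h1
    exact h1
  have hP : (P : Subgroup L) ≤ (pM A).subgroupOf L := fun a ha =>
    mem_subgroupOf.2 (hs.top.le (mem_subgroupOf.1 ha).1).2
  have hN : normalizer ((P : Subgroup L) : Set L) ≤ (pM A).subgroupOf L := by
    intro y hy
    refine mem_subgroupOf.2 (stab_cent_le hC hA hs hT he he1 ho ho' (mem_centralizer_singleton_iff.1 y.2)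
      (hstabN _ fun w hw => ?_))
    exact mem_subgroupOf.1 ((mem_normalizer_iff.1 hy ⟨w, hWL hw⟩).1 (mem_subgroupOf.2 hw))
  have hO : O ≤ (pM A).subgroupOf L := by
    haveI : O.Normal := CfsgLib.Components.pPrimeCore_normal 2
    refine CfsgLib.LocalEven.le_of_centralizers_le (p := 2) (A := (P : Subgroup L)) hexp ?_
      (fun y _ => by rw [normalizer_eq_top]; exact mem_top y)
      ((Nat.Prime.coprime_iff_not_dvd Nat.prime_two).1 (CfsgLib.Components.pPrimeCore_coprime (G := L) 2).symm)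
      fun a ha ha1 => inf_le_right.trans (hcW a ha ha1)
    show 2 ^ 2 ≤ Nat.card ((Qpart A c U).subgroupOf L)
    rw [Nat.card_congr (subgroupOfEquivOfLe hWL).toEquiv]
    exact le_trans (by norm_num) hs.four
  intro y hy
  exact mem_subgroupOf.1 ((hfr ▸ sup_le hN (sup_le hP hO) : (⊤ : Subgroup L) ≤ _) (mem_top ⟨y, hy⟩))

/-- The centraliser of a torus element fixes `o`. -/
theorem cent_fix {y : G} (hy : Commute y e) : y • o = o := by
  have hyM := cent_le hC hA hs hT he he1 ho ho' (mem_centralizer_singleton_iff.2 hy.eq)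
  obtain ⟨v, hv, hve⟩ := orbit_M hC hA hs ho ho' hyM (one_mem _)
  rw [one_smul] at hve
  rw [← hve]
  refine fix_joined hC hA hs hT he he1 ho ho' hv ?_
  rw [hve, ← mul_smul, ← hy.eq, mul_smul, hT.fix e he]

end CfsgLib.ThreePrime.Block
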