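import Cfsg.Agent.Lib.ThreePrime.Block.SplitPure
import Cfsg.Agent.Lib.Core.FPFComplement
import Cfsg.Agent.Lib.PGroups.Basic

/-!
Owner: helper10.  The Sylow subgroup of the two point stabiliser and the final contradiction.

* `le_center_of_prime`: a normal subgroup of prime order is central in a group of that prime power order
* `exists_sylow_pair`: a Sylow subgroup of `G` fixing both points, containing `x`, central at `x` and `τ`
* `fix_pair`: it fixes just the two points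
* `false_of_pick`: the contradiction
-/

set_option autoImplicit false
set_option linter.all false

namespace CfsgLib.ThreePrime.Block

open Subgroup CfsgLib.Bender.Dichotomy CfsgLib.Signalizer
open scoped Pointwise

universe u

local instance factTwoBlockSplitMixed : Fact (Nat.Prime 2) := ⟨Nat.prime_two⟩

variable {G : Type u} [Group G] [Finite G] {S : Sylow 2 G} {A : Subgroup G} {m l : ℕ}
  {c : G} {U : Subgroup G} {o : Pts A} {σ : G} {T0 : Subgroup G} {s : ℕ} {x j : G} {p : Pts A} {τ : G}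

/-- An element of prime order spanning a normal subgroup of a `p`-group is central. -/
theorem commute_of_prime_normal {R : Subgroup G} {q : ℕ} [Fact q.Prime] (hR : IsPGroup q R) {z : G}
    (hz : z ∈ R) (hord : orderOf z = q) (hn : ∀ r ∈ R, r * z * r⁻¹ ∈ zpowers z) {r : G} (hr : r ∈ R) :
    Commute r z := by
  let N : Subgroup R := (zpowers z).subgroupOf R
  haveI : N.Normal := ⟨fun w hw g => mem_subgroupOf.2 (by
    obtain ⟨i, hi⟩ := mem_zpowers_iff.1 (mem_subgroupOf.1 hw)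
    have : ((g : R) : G) * z ^ i * ((g : R) : G)⁻¹ ∈ zpowers z := by
      rw [← conj_zpow]; exact zpow_mem (hn _ g.2) i
    rw [hi] at this
    exact this)⟩
  have hq : q ≠ 1 := (Fact.out : q.Prime).ne_one
  have hN : N ≠ ⊥ := fun e => by
    have h : (⟨z, hz⟩ : R) ∈ N := mem_subgroupOf.2 (mem_zpowers z)
    rw [e, mem_bot] at h
    exact hq (by rw [← hord, show z = 1 from congrArg Subtype.val h, orderOf_one])
  obtain ⟨w, hw, hw1⟩ := (N ⊓ center R).ne_bot_iff_exists_ne_one.1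
    (CfsgLib.PGroups.inf_center_ne_bot hR hN) |> fun ⟨a, ha⟩ =>
      (⟨a.1, a.2, fun e => ha (Subtype.ext e)⟩ : ∃ w, w ∈ N ⊓ center R ∧ w ≠ 1)
  have hwz : (w : G) ∈ zpowers z := mem_subgroupOf.1 hw.1
  have hgen : zpowers (w : G) = zpowers z := by
    refine eq_of_le_of_card_ge (zpowers_le.2 hwz) ?_
    rw [Nat.card_zpowers, Nat.card_zpowers, hord]
    have h1 : orderOf (w : G) ∣ q := hord ▸ orderOf_dvd_of_mem_zpowers hwz
    rcases (Fact.out : q.Prime).eq_one_or_self_of_dvd _ h1 with e | e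
    · exact absurd (Subtype.ext (orderOf_eq_one_iff.1 e) : w = 1) hw1
    · exact e.ge
  obtain ⟨i, hi⟩ := mem_zpowers_iff.1 (hgen.ge (mem_zpowers z))
  have hc : Commute r (w : G) := congrArg Subtype.val (mem_center_iff.1 hw.2 ⟨r, hr⟩)
  exact hi ▸ hc.zpow_right i

theorem zpowers_eq_of_mem {q : ℕ} (hq : q.Prime) {a b : G} (ha : orderOf a = q) (hb : orderOf b = q)
    (h : a ∈ zpowers b) : zpowers a = zpowers b :=
  eq_of_le_of_card_ge (zpowers_le.2 h) (by rw [Nat.card_zpowers, Nat.card_zpowers, ha, hb])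

/-- What is shown about the Sylow subgroup of the pair. -/
structure PairSylow (A : Subgroup G) (c : G) (U : Subgroup G) (o : Pts A) (s : ℕ) (x τ : G)
    (R : Sylow s G) : Prop where
  le_pM : ∀ r ∈ (R : Subgroup G), r ∈ pM A
  fix : ∀ r ∈ (R : Subgroup G), r • o = o
  x_mem : x ∈ (R : Subgroup G)
  tau_mem : τ ∈ (R : Subgroup G)
  x_central : ∀ r ∈ (R : Subgroup G), Commute r x
  tau_central : ∀ r ∈ (R : Subgroup G), Commute r τ
  split : ∃ h : G, h ∈ (R : Subgroup G) ∧ h ∈ centralizer (A : Set G) ∧ orderOf h = s ∧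
    (∃ i : ℤ, x = τ ^ i * h) ∧
    ∀ d ∈ (R : Subgroup G), d ∈ centralizer (A : Set G) → d ^ s = 1 → d ∈ zpowers h

variable (hC : Ctx S A) (hA : Aut A m l) (hs : Split S A c U) (ho : o ∈ Fix A c) (ho' : o ≠ base A)
include hC hA hs ho ho'

theorem conj_W {y : G} (hy : y ∈ pM A) (hyo : y • o = o) {w : G} (hw : w ∈ Qpart A c U) :
    y * w * y⁻¹ ∈ Qpart A c U := by
  refine S_fix hC hA hs ((mem_normalizer_iff.1 (hs.normal hy) w).1 (hs.le hw.1)) ho ho' ?_
  rw [mul_smul, mul_smul, show y⁻¹ • o = o by rw [inv_smul_eq_iff, hyo],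
    (mem_fixingSubgroup_iff _).1 hw.2 o ho, hyo]

theorem one_of_cent {d : G} (hd : d ∈ centralizer (A : Set G)) (hdo : Odd (orderOf d)) {w : G}
    (hw : w ∈ Qpart A c U) (hw1 : w ≠ 1) (hc : Commute d w) : d = 1 := by
  obtain ⟨hs', hQ⟩ := split_of_mem hC hA hs hw hw1
  obtain ⟨K, k, T, hd'⟩ := exists_blockData hC hs'.bad hs'.cent
  obtain ⟨v, hv, hv'⟩ := exists_top_mul_core hC hA hd' hs'.top (mem_centralizer_singleton_iff.2 hc.eq) hd
  rw [core_bot hC hs' hs'.bad, mem_bot, inv_mul_eq_one] at hv'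
  exact eq_one_of_S_odd (hs'.le (hv' ▸ hv)) hdo

variable (hT : TorusData A c U o σ T0) (hτ : τ ∈ T0) (hτs : orderOf τ = s)
include hT hτ hτs

theorem conj_tau (hsp : s.Prime) {y : G} (hy : y ∈ pM A) (hyo : y • o = o) :
    y * τ * y⁻¹ ∈ zpowers τ := by
  have hyo' : y⁻¹ • o = o := by rw [inv_smul_eq_iff, hyo]
  have hcW := c_mem_W hC hA hs
  have h1 : y * τ * y⁻¹ ∈ cH c := by
    have hc' : y⁻¹ * c * y⁻¹⁻¹ ∈ Qpart A c U := conj_W hC hA hs ho ho' (inv_mem hy) hyo' hcW
    have h2 : Commute τ (y⁻¹ * c * y⁻¹⁻¹) :=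
      (mem_centralizer_iff.1 (hT.le_cent hτ) _ hc').symm
    have h3 := (Commute.conj_iff y).2 h2
    rw [show y * (y⁻¹ * c * y⁻¹⁻¹) * y⁻¹ = c by group] at h3
    exact mem_centralizer_singleton_iff.2 h3.eq
  refine hT.eq_zpow hC hA hs ho ho' hsp hτ hτs h1 (mul_mem (mul_mem hy (hT.le_pM hτ)) (inv_mem hy)) ?_ ?_ ?_
  · rw [mul_smul, mul_smul, hyo', hT.fix τ hτ, hyo]
  · rw [conj_pow, ← hτs, pow_orderOf_eq_one, mul_one, mul_inv_cancel]
  · intro a ha hfix
    have hyN := mem_N hs hy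
    have h2 : y⁻¹ * a * y ∈ A := (mem_normalizer_iff''.1 hyN a).1 ha
    have h4 := hT.fpf τ hτ (fun e => hsp.ne_one (by rw [← hτs, e, orderOf_one])) _ h2 (by
      calc τ * (y⁻¹ * a * y) * τ⁻¹ = y⁻¹ * (y * τ * y⁻¹ * a * (y * τ * y⁻¹)⁻¹) * y := by group
        _ = _ := by rw [hfix])
    calc a = y * (y⁻¹ * a * y) * y⁻¹ := by group
      _ = 1 := by rw [h4, mul_one, mul_inv_cancel]

theorem exists_sylow_pair (hP : Pick S A o s x j p) : ∃ R : Sylow s G, PairSylow A c U o s x τ R := by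
  classical
  haveI := Fact.mk hP.prime
  let H : Subgroup G := pM A ⊓ MulAction.stabilizer G o
  have hidx : H.index = Nat.card (Pts A) * Nat.card A ^ 3 := by
    have h1 : H.subgroupOf (pM A) = MulAction.stabilizer (pM A) o := by
      ext y
      rw [mem_subgroupOf, MulAction.mem_stabilizer_iff]
      exact ⟨fun h => h.2, fun h => ⟨y.2, h⟩⟩
    have h2 : MulAction.orbit (pM A) o = MulAction.orbit (S : Subgroup G) o := by
      refine Set.ext fun q => ⟨?_, ?_⟩
      · rintro ⟨y, rfl⟩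
        obtain ⟨v, hv, e⟩ := orbit_M hC hA hs ho ho' y.2 (one_mem _)
        rw [one_smul] at e
        exact ⟨⟨v, hv⟩, e⟩
      · rintro ⟨y, rfl⟩
        exact ⟨⟨y, S_le_pM hC y.2⟩, rfl⟩
    rw [← relIndex_mul_index (inf_le_left : H ≤ pM A), relIndex, h1, MulAction.index_stabilizer, h2,
      ← Nat.card_coe_set_eq, card_orbit hC hA hs ho ho', index_eq_card, mul_comm]
  have hnd : ¬ s ∣ H.index := by
    have hq : Nat.card A ≡ 1 [MOD s] :=
      ((Nat.modEq_iff_dvd' (Nat.card_pos : 0 < Nat.card A)).2 hP.dvd).symm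
    rw [hidx, card_points hC hA]
    intro hd
    have hq1 : Nat.card A - 1 ≡ 0 [MOD s] := Nat.modEq_zero_iff_dvd.2 hP.dvd
    have h := ((((hq.pow 2).add_right 1).mul (((hq.pow 2).mul hq1).add_right 1)).mul (hq.pow 3)).symm.trans
      (Nat.modEq_zero_iff_dvd.2 hd)
    norm_num at h
    have h2 : s ∣ 2 := Nat.modEq_zero_iff_dvd.1 h
    have h3 := (Nat.prime_dvd_prime_iff_eq hP.prime Nat.prime_two).1 h2
    exact absurd (h3 ▸ hP.odd) (by decide)
  have hxH : x ∈ H := ⟨hP.mem, hP.fix⟩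
  have hxp : IsPGroup s (zpowers x) := IsPGroup.of_card (n := 1) (by rw [Nat.card_zpowers, hP.ord, pow_one])
  obtain ⟨R0, hR0⟩ := (hxp.comap_subtype (K := H)).exists_le_sylow
  set RG := (R0 : Subgroup H).map H.subtype with hRG
  have hRp : IsPGroup s RG := R0.isPGroup'.map _
  have hRi : ¬ s ∣ RG.index := by
    rw [hRG, index_map_subtype, hP.prime.dvd_mul]
    exact not_or.2 ⟨R0.not_dvd_index, hnd⟩
  have hRH : ∀ r ∈ RG, r ∈ pM A ∧ r • o = o := fun r hr => map_subtype_le _ hr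
  have hxR : x ∈ RG := ⟨⟨x, hxH⟩, hR0 (mem_subgroupOf.2 (mem_zpowers x)), rfl⟩
  have hτ1 : τ ≠ 1 := fun e => hP.prime.ne_one (by rw [← hτs, e, orderOf_one])
  have hτN : RG ≤ normalizer (zpowers τ : Set G) := fun r hr =>
    mem_normalizer_of_cj (eq_of_le_of_card_ge (cj_le_iff.2 fun y hy => by
      obtain ⟨i, rfl⟩ := mem_zpowers_iff.1 hy
      rw [← conj_zpow]
      exact zpow_mem (conj_tau hC hA hs ho ho' hT hτ hτs hP.prime (hRH r hr).1 (hRH r hr).2) i)
      (card_cj _ _).ge)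
  have hτR : τ ∈ RG := by
    have h := (hRp.toSylow hRi).is_maximal' (hRp.to_sup_of_normal_right' (IsPGroup.of_card (p := s)
      (G := zpowers τ) (n := 1) (by rw [Nat.card_zpowers, hτs, pow_one])) hτN) le_sup_left
    have h' : τ ∈ (hRp.toSylow hRi : Subgroup G) := h ▸ mem_sup_right (mem_zpowers τ)
    exact h'
  have hτc : ∀ r ∈ RG, Commute r τ := fun r hr => commute_of_prime_normal hRp hτR hτs
    (fun r' hr' => conj_tau hC hA hs ho ho' hT hτ hτs hP.prime (hRH r' hr').1 (hRH r' hr').2) hr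
  have hτsp : τ ^ s = 1 := hτs ▸ pow_orderOf_eq_one τ
  obtain ⟨i, hi⟩ := hA.scalar s hP.prime τ (mem_N hs (hT.le_pM hτ)) x (mem_N hs hP.mem)
    (by rw [hτsp]; exact one_mem _) (by rw [← hP.ord, pow_orderOf_eq_one]; exact one_mem _)
    (hT.fpf τ hτ hτ1) hP.fpf
  set h := (τ ^ i)⁻¹ * x with hh
  have hxe : x = τ ^ i * h := by rw [hh, mul_inv_cancel_left]
  have hhR : h ∈ RG := mul_mem (inv_mem (zpow_mem hτR i)) hxR
  have hh1 : h ≠ 1 := by
    intro e
    rw [e, mul_one] at hxe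
    exact not_commute hC hA hs ho ho' hP (c_mem_W hC hA hs) (involution_ne_one hs.bad.ord)
      (mem_centralizer_iff.1 (hT.le_cent (hxe ▸ zpow_mem hτ i)) c (c_mem_W hC hA hs)).symm
  have hhs : h ^ s = 1 := by
    have hcx : Commute ((τ ^ i)⁻¹) x := ((hτc x hxR).zpow_right i).symm.inv_left
    rw [hh, hcx.mul_pow, inv_pow, ← zpow_natCast (τ ^ i), ← zpow_mul, mul_comm, zpow_mul, zpow_natCast,
      hτsp, one_zpow, inv_one, one_mul, ← hP.ord, pow_orderOf_eq_one]
  have hho : orderOf h = s := orderOf_eq_prime hhs hh1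
  set N := RG ⊓ centralizer (A : Set G) with hN
  have hWne : Qpart A c U ≠ ⊥ := fun e => involution_ne_one hs.bad.ord (by
    have := c_mem_W hC hA hs
    rw [e] at this
    exact mem_bot.1 this)
  have hNW : N ≤ normalizer (Qpart A c U : Set G) := fun d hd =>
    mem_normalizer_of_cj (eq_of_le_of_card_ge (cj_le_iff.2 fun w hw =>
      conj_W hC hA hs ho ho' (hRH d hd.1).1 (hRH d hd.1).2 hw) (card_cj _ _).ge)
  have hfpf : ∀ d ∈ N, d ≠ 1 → Qpart A c U ⊓ centralizer ({d} : Set G) = ⊥ := by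
    intro d hd hd1
    refine (Subgroup.eq_bot_iff_forall _).2 fun w hw => by_contra fun hw1 => hd1 ?_
    refine one_of_cent hC hA hs ho ho' hd.2 ?_ hw.1 hw1 (mem_centralizer_singleton_iff.1 hw.2).symm
    obtain ⟨a, ha⟩ := hRp ⟨d, hd.1⟩
    exact (hP.odd.pow).of_dvd_nat (orderOf_dvd_of_pow_eq_one (congrArg Subtype.val ha))
  have huniq : ∀ d ∈ RG, d ∈ centralizer (A : Set G) → d ^ s = 1 → d ∈ zpowers h := by
    intro d hdR hdA hds
    by_cases hd1 : d = 1
    · rw [hd1]; exact one_mem _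
    have e := CfsgLib.Core.FPF.subgroup_order_prime_unique hNW hfpf hWne (P := N) le_rfl hP.prime
      (hRp.to_le inf_le_left) (X := zpowers d) (Y := zpowers h) (zpowers_le.2 ⟨hdR, hdA⟩)
      (zpowers_le.2 ⟨hhR, hi⟩) (by rw [Nat.card_zpowers, orderOf_eq_prime hds hd1])
      (by rw [Nat.card_zpowers, hho])
    exact e ▸ mem_zpowers d
  have hhc : ∀ r ∈ RG, Commute r h := fun r hr => commute_of_prime_normal hRp hhR hho
    (fun r' hr' => huniq _ (mul_mem (mul_mem hr' hhR) (inv_mem hr'))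
      (conj_mem_centralizer_A (mem_N hs (hRH r' hr').1) hi)
      (by rw [conj_pow, hhs, mul_one, mul_inv_cancel])) hr
  exact ⟨hRp.toSylow hRi, fun r hr => (hRH r hr).1, fun r hr => (hRH r hr).2, hxR, hτR,
    fun r hr => by rw [hxe]; exact ((hτc r hr).zpow_right i).mul_right (hhc r hr), hτc,
    h, hhR, hi, hho, ⟨i, hxe⟩, huniq⟩

/-- The Sylow subgroup of the pair fixes only the pair. -/
theorem fix_pair (hP : Pick S A o s x j p) {R : Sylow s G} (hR : PairSylow A c U o s x τ R)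
    {z : Pts A} (hz : ∀ r ∈ (R : Subgroup G), r • z = z) : z = base A ∨ z = o := by
  classical
  haveI := Fact.mk hP.prime
  have hsp := hP.prime
  have hτ1 : τ ≠ 1 := fun e => hsp.ne_one (by rw [← hτs, e, orderOf_one])
  have hRb : ∀ r ∈ (R : Subgroup G), r • base A = base A := fun r hr => smul_base_eq_iff.2 (hR.le_pM r hr)
  -- the normaliser of `R` in the base stabiliser fixes `o`
  have hMN : ∀ k ∈ normalizer ((R : Subgroup G) : Set G), k ∈ pM A → k • o = o := by
    intro k hk hkM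
    obtain ⟨v, hv, hve⟩ := orbit_M hC hA hs ho ho' hkM (one_mem _)
    rw [one_smul] at hve
    rw [← hve]
    refine fix_joined hC hA hs hT hτ hτ1 ho ho' hv ?_
    rw [hve, ← mul_smul, show τ * k = k * (k⁻¹ * τ * k) by group, mul_smul,
      hR.fix _ ((mem_normalizer_iff''.1 hk τ).1 hR.tau_mem)]
  -- a point fixed by `R` is reached by its normaliser
  have hreach : ∀ q : Pts A, (∀ r ∈ (R : Subgroup G), r • q = q) →
      ∃ g ∈ normalizer ((R : Subgroup G) : Set G), g • base A = q := by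
    intro q hq
    obtain ⟨g0, hg0⟩ : ∃ g0 : G, g0 • base A = q := by
      obtain ⟨g, hg⟩ := QuotientGroup.mk_surjective q
      exact ⟨g, by rw [smul_base, hg]⟩
    have h1 : ∀ y, y ∈ ((g0⁻¹ • R : Sylow s G) : Subgroup G) → y ∈ pM A := by
      intro y hy
      rw [Sylow.coe_subgroup_smul] at hy
      obtain ⟨r, hr, rfl⟩ := hy
      refine smul_base_eq_iff.1 ?_
      show (g0⁻¹ * r * g0⁻¹⁻¹) • base A = base A
      rw [inv_inv, mul_smul, mul_smul, hg0, hq r hr, ← hg0, inv_smul_smul]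
    obtain ⟨y, hy⟩ := MulAction.exists_smul_eq (pM A) (R.subtype (fun r hr => hR.le_pM r hr))
      ((g0⁻¹ • R).subtype h1)
    rw [Sylow.smul_subtype] at hy
    have h2 : (y : G) • R = g0⁻¹ • R := Sylow.subtype_injective hy
    refine ⟨g0 * y, Sylow.smul_eq_iff_mem_normalizer.1 ?_, ?_⟩
    · rw [mul_smul, h2, smul_inv_smul]
    · rw [mul_smul, smul_base_eq_iff.2 y.2, hg0]
  -- an element exchanging the pair, normalising `R` and `⟨τ⟩`
  obtain ⟨n, hnR, hnb, hno, hnτ⟩ : ∃ n ∈ normalizer ((R : Subgroup G) : Set G),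
      n • base A = o ∧ n • o = base A ∧ n * τ * n⁻¹ ∈ zpowers τ := by
    let H : Subgroup G := pM A ⊓ MulAction.stabilizer G o
    have hRH : ∀ r ∈ (R : Subgroup G), r ∈ H := fun r hr => ⟨hR.le_pM r hr, hR.fix r hr⟩
    have hσH : ∀ r, r ∈ ((σ • R : Sylow s G) : Subgroup G) → r ∈ H := by
      intro r hr
      rw [Sylow.coe_subgroup_smul] at hr
      obtain ⟨r', hr', rfl⟩ := hr
      have hi := involution_inv hT.ord
      refine ⟨smul_base_eq_iff.1 ?_, ?_⟩
      · show (σ * r' * σ⁻¹) • base A = base A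
        rw [hi, mul_smul, mul_smul, hT.sigma_base, hR.fix r' hr', hT.sigma_o]
      · show (σ * r' * σ⁻¹) • o = o
        rw [hi, mul_smul, mul_smul, hT.sigma_o, hRb r' hr', hT.sigma_base]
    obtain ⟨y, hy⟩ := MulAction.exists_smul_eq H ((σ • R).subtype hσH) (R.subtype hRH)
    rw [Sylow.smul_subtype] at hy
    have h2 : (y : G) • σ • R = R := Sylow.subtype_injective hy
    have hyb : (y : G) • base A = base A := smul_base_eq_iff.2 y.2.1
    have hyo : (y : G) • o = o := y.2.2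
    refine ⟨y * σ, Sylow.smul_eq_iff_mem_normalizer.1 (by rw [mul_smul, h2]),
      by rw [mul_smul, hT.sigma_base, hyo], by rw [mul_smul, hT.sigma_o, hyb], ?_⟩
    rw [show (y : G) * σ * τ * ((y : G) * σ)⁻¹ = y * (σ * τ * σ⁻¹) * (y : G)⁻¹ by group, hT.inv τ hτ,
      ← conj_inv]
    exact inv_mem (conj_tau hC hA hs ho ho' hT hτ hτs hsp y.2.1 y.2.2)
  obtain ⟨h, hhR, hhA, hhs, -, huniq⟩ := hR.split
  have hτsp : τ ^ s = 1 := hτs ▸ pow_orderOf_eq_one τ
  let Φ : Finset (Pts A) := by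
    haveI := Fintype.ofFinite (Pts A)
    exact Finset.univ.filter fun q => ∀ r ∈ (R : Subgroup G), r • q = q
  have hΦ : ∀ q, q ∈ Φ ↔ ∀ r ∈ (R : Subgroup G), r • q = q := fun q => by simp [Φ]
  have hbΦ : base A ∈ Φ := (hΦ _).2 hRb
  have hoΦ : o ∈ Φ := (hΦ _).2 hR.fix
  choose gz hgN hgb using fun q : {q // q ∈ Φ} => hreach q.1 ((hΦ _).1 q.2)
  let f : {q // q ∈ Φ} → Subgroup G := fun q => zpowers (gz q * τ * (gz q)⁻¹)
  have hord : ∀ g : G, orderOf (g * τ * g⁻¹) = s := fun g => by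
    rw [CfsgLib.Signalizer.orderOf_conj, hτs]
  -- the lines
  have himg : (Finset.univ.image f) ⊆ (Finset.range s).image fun t => zpowers (τ * h ^ t) := by
    intro L hL
    obtain ⟨q, -, rfl⟩ := Finset.mem_image.1 hL
    set g := gz q with hg
    set e := g * τ * g⁻¹ with he
    have hgN' : g ∈ normalizer ((R : Subgroup G) : Set G) := hgN q
    have heR : e ∈ (R : Subgroup G) := (mem_normalizer_iff.1 hgN' τ).1 hR.tau_mem
    have hefpf : ∀ a ∈ A, e * a * e⁻¹ = a → a = 1 := by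
      intro a ha hfix
      by_contra ha1
      have hc : Commute (g⁻¹ * a * g) τ := by
        have h1 : Commute a e := (mul_inv_eq_iff_eq_mul.1 hfix).symm
        have h2 := (Commute.conj_iff g⁻¹).2 h1
        rwa [inv_inv, show g⁻¹ * e * g = τ by rw [he]; group] at h2
      have hb' := smul_base_eq_iff.2 (cent_le hC hA hs hT hτ hτ1 ho ho' (mem_centralizer_singleton_iff.2 hc.eq))
      have ho2 := cent_fix hC hA hs hT hτ hτ1 ho ho' hc
      have h3 : g • base A ∈ Fix A a := by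
        rw [MulAction.mem_fixedBy, ← mul_smul, show a * g = g * (g⁻¹ * a * g) by group, mul_smul, hb']
      have h4 : g • o ∈ Fix A a := by
        rw [MulAction.mem_fixedBy, ← mul_smul, show a * g = g * (g⁻¹ * a * g) by group, mul_smul, ho2]
      rw [hC.fixA a ha ha1, Set.mem_singleton_iff] at h3 h4
      exact ho' ((MulAction.injective g) (h4.trans h3.symm))
    have hes : e ^ s = 1 := hord g ▸ pow_orderOf_eq_one e
    obtain ⟨i, hi⟩ := hA.scalar s hsp τ (mem_N hs (hT.le_pM hτ)) e (mem_N hs (hR.le_pM e heR))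
      (by rw [hτsp]; exact one_mem _) (by rw [hes]; exact one_mem _) (hT.fpf τ hτ hτ1) hefpf
    have hcm : Commute ((τ ^ i)⁻¹) e := ((hR.tau_central e heR).zpow_right i).symm.inv_left
    obtain ⟨t, ht⟩ := mem_zpowers_iff.1 (huniq ((τ ^ i)⁻¹ * e)
      (mul_mem (inv_mem (zpow_mem hR.tau_mem i)) heR) hi (by
        rw [hcm.mul_pow, inv_pow, ← zpow_natCast (τ ^ i), ← zpow_mul, mul_comm, zpow_mul, zpow_natCast,
          hτsp, one_zpow, inv_one, one_mul, hes]))
    have hτh : Commute τ h := (hR.tau_central h hhR).symm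
    have he' : e = τ ^ i * h ^ t := by rw [ht, mul_inv_cancel_left]
    have hi0 : ¬ (s : ℤ) ∣ i := by
      rintro ⟨i', rfl⟩
      rw [zpow_mul, zpow_natCast, hτsp, one_zpow, one_mul] at he'
      obtain ⟨a, ha, ha1⟩ := exists_ne_one_A hC
      exact ha1 (hefpf a ha (commute_of_mem_cent ha (he' ▸ zpow_mem hhA t)))
    obtain ⟨u, v, huv⟩ := Int.isCoprime_iff_gcd_eq_one.2 (show Int.gcd i s = 1 from
      (Nat.coprime_comm.1 ((Nat.Prime.coprime_iff_not_dvd hsp).2 fun hd =>
        hi0 (Int.natCast_dvd.2 hd))))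
    have h5 : e ^ u = τ * h ^ (t * u) := by
      rw [he', (hτh.zpow_zpow i t).mul_zpow, ← zpow_mul, ← zpow_mul,
        show i * u = 1 + (s : ℤ) * (-v) by linarith, zpow_add, zpow_one, zpow_mul, zpow_natCast, hτsp,
        one_zpow, mul_one]
    refine Finset.mem_image.2 ⟨((t * u) % s).toNat, Finset.mem_range.2 ?_, ?_⟩
    · have := Int.emod_lt_of_pos (t * u) (show (0 : ℤ) < s by exact_mod_cast hsp.pos)
      have := hsp.pos
      omega
    · have h6 : h ^ ((t * u) % s).toNat = h ^ (t * u) := by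
        rw [← zpow_natCast, Int.toNat_of_nonneg (Int.emod_nonneg _ (by exact_mod_cast hsp.pos.ne')),
          ← hhs, zpow_mod_orderOf]
      have h7 : (e ^ u) ≠ 1 := by
        intro e1
        rw [h5] at e1
        obtain ⟨a, ha, ha1⟩ := exists_ne_one_A hC
        refine ha1 (hT.fpf τ hτ hτ1 a ha (commute_of_mem_cent ha ?_))
        rw [eq_inv_of_mul_eq_one_left e1]
        exact inv_mem (zpow_mem hhA _)
      rw [h6, ← h5]
      refine zpowers_eq_of_mem hsp (orderOf_eq_prime ?_ h7) (hord g) (zpow_mem (mem_zpowers e) u)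
      rw [← zpow_natCast, ← zpow_mul, mul_comm, zpow_mul, zpow_natCast, hes, one_zpow]
  -- the fibres
  have hfib : ∀ L ∈ Finset.univ.image f, (Finset.univ.filter fun q => f q = L).card = 2 := by
    intro L hL
    obtain ⟨q0, -, rfl⟩ := Finset.mem_image.1 hL
    set g := gz q0 with hg
    have hgN' : g ∈ normalizer ((R : Subgroup G) : Set G) := hgN q0
    have hmem : ∀ w : Pts A, (∀ r ∈ (R : Subgroup G), r • w = w) → g • w ∈ Φ := fun w hw =>
      (hΦ _).2 fun r hr => by
        rw [← mul_smul, show r * g = g * (g⁻¹ * r * g) by group, mul_smul,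
          hw _ ((mem_normalizer_iff''.1 hgN' r).1 hr)]
    let q1 : {q // q ∈ Φ} := ⟨g • o, hmem o hR.fix⟩
    have hne : q0 ≠ q1 := fun e => ho' ((MulAction.injective g) ((congrArg Subtype.val e).symm.trans (hgb q0).symm))
    refine Finset.card_eq_two.2 ⟨q0, q1, hne, ?_⟩
    ext q
    simp only [Finset.mem_filter, Finset.mem_univ, true_and, Finset.mem_insert, Finset.mem_singleton]
    constructor
    · intro hq
      set k := g⁻¹ * gz q with hk
      have hkτ : k⁻¹ * τ * k ∈ zpowers τ := by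
        have h1 : g * τ * g⁻¹ ∈ zpowers (gz q * τ * (gz q)⁻¹) := by
          rw [show zpowers (gz q * τ * (gz q)⁻¹) = zpowers (g * τ * g⁻¹) from hq]
          exact mem_zpowers _
        obtain ⟨i, hi⟩ := mem_zpowers_iff.1 h1
        refine mem_zpowers_iff.2 ⟨i, ?_⟩
        rw [conj_zpow] at hi
        rw [hk, show (g⁻¹ * gz q)⁻¹ * τ * (g⁻¹ * gz q) = (gz q)⁻¹ * (g * τ * g⁻¹) * gz q by group, ← hi]
        group
      have hkb : (k⁻¹ * τ * k) • base A = base A :=
        smul_base_eq_iff.2 (zpowers_le.2 (hT.le_pM hτ) hkτ)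
      have h2 : τ • k • base A = k • base A := by
        rw [← mul_smul, show τ * k = k * (k⁻¹ * τ * k) by group, mul_smul, hkb]
      have h3 : k • base A ∈ Fix A c := by
        have heq : zpowers (k⁻¹ * τ * k) = zpowers τ := zpowers_eq_of_mem hsp (by
          have := hord k⁻¹
          rwa [inv_inv] at this) hτs hkτ
        obtain ⟨i, hi⟩ := mem_zpowers_iff.1 (heq.ge (mem_zpowers τ))
        have hc1 : Commute (k⁻¹ * c * k) (k⁻¹ * τ * k) := by
          have := (Commute.conj_iff k⁻¹).2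
            (mem_centralizer_iff.1 (hT.le_cent hτ) c (c_mem_W hC hA hs) : Commute c τ)
          rwa [inv_inv] at this
        have hc2 : Commute (k⁻¹ * c * k) τ := hi ▸ hc1.zpow_right i
        rw [MulAction.mem_fixedBy, ← mul_smul, show c * k = k * (k⁻¹ * c * k) by group, mul_smul,
          smul_base_eq_iff.2 (cent_le hC hA hs hT hτ hτ1 ho ho' (mem_centralizer_singleton_iff.2 hc2.eq))]
      rcases fix_block hC hA hs hT hτ hτ1 ho ho' h3 h2 with hb | hb
      · left
        refine Subtype.ext ?_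
        rw [hk, mul_smul, hgb q, inv_smul_eq_iff, hg, hgb q0] at hb
        exact hb
      · right
        refine Subtype.ext ?_
        rw [hk, mul_smul, hgb q, inv_smul_eq_iff] at hb
        exact hb
    · rintro (rfl | rfl)
      · rfl
      · set k := (gz q1)⁻¹ * g * n with hk
        have hkN : k ∈ normalizer ((R : Subgroup G) : Set G) := mul_mem (mul_mem (inv_mem (hgN q1)) hgN') hnR
        have hkM : k ∈ pM A := smul_base_eq_iff.1 (by
          rw [hk, mul_smul, mul_smul, hnb, inv_smul_eq_iff, hgb q1])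
        have hkτ := conj_tau hC hA hs ho ho' hT hτ hτs hsp (inv_mem hkM)
          (hMN k⁻¹ (inv_mem hkN) (inv_mem hkM))
        refine zpowers_eq_of_mem hsp (hord _) (hord _) ?_
        obtain ⟨a, ha⟩ := mem_zpowers_iff.1 hkτ
        obtain ⟨b, hb⟩ := mem_zpowers_iff.1 hnτ
        refine mem_zpowers_iff.2 ⟨b * a, ?_⟩
        rw [show gz q1 * τ * (gz q1)⁻¹ = g * n * (k⁻¹ * τ * k⁻¹⁻¹) * (g * n)⁻¹ by rw [hk]; group, ← ha,
          conj_zpow, show g * n * τ ^ a * (g * n)⁻¹ = g * (n * τ ^ a * n⁻¹) * g⁻¹ by group, zpow_mul, hb,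
          conj_zpow]
  -- count
  have hcard : Φ.card = 2 * (Finset.univ.image f).card := by
    rw [← Fintype.card_coe, ← Finset.card_univ,
      Finset.card_eq_sum_card_fiberwise (f := f) (t := Finset.univ.image f)
        (fun q _ => Finset.mem_image_of_mem f (Finset.mem_univ q)), Finset.sum_congr rfl hfib, Finset.sum_const,
      smul_eq_mul, mul_comm]
  have hle : (Finset.univ.image f).card ≤ s :=
    ((Finset.card_le_card himg).trans Finset.card_image_le).trans (Finset.card_range s).le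
  have hmod : 2 ≡ Φ.card [MOD s] := by
    have h1 := R.isPGroup'.card_modEq_card_fixedPoints (Pts A)
    have h2 : Nat.card (MulAction.fixedPoints (R : Subgroup G) (Pts A)) = Φ.card := by
      rw [← Fintype.card_coe, ← Nat.card_eq_fintype_card]
      exact Nat.card_congr (Equiv.subtypeEquivRight fun q => by
        rw [hΦ, MulAction.mem_fixedPoints]
        exact ⟨fun h r hr => h ⟨r, hr⟩, fun h r => h r r.2⟩)
    rw [h2, card_points hC hA] at h1
    refine Nat.ModEq.trans ?_ h1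
    have hq : Nat.card A ≡ 1 [MOD s] :=
      ((Nat.modEq_iff_dvd' (Nat.card_pos : 0 < Nat.card A)).2 hP.dvd).symm
    have hq1 : Nat.card A - 1 ≡ 0 [MOD s] := Nat.modEq_zero_iff_dvd.2 hP.dvd
    have := (((hq.pow 2).add_right 1).mul (((hq.pow 2).mul hq1).add_right 1)).symm
    simpa using this
  have hpos : 1 ≤ (Finset.univ.image f).card :=
    Finset.card_pos.2 ⟨f ⟨base A, hbΦ⟩, Finset.mem_image_of_mem f (Finset.mem_univ _)⟩
  have hone : (Finset.univ.image f).card = 1 := by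
    rw [hcard, Nat.modEq_iff_dvd' (by omega)] at hmod
    have h2 : s ∣ (Finset.univ.image f).card - 1 := by
      refine (Nat.Coprime.dvd_of_dvd_mul_left (Nat.coprime_two_right.2 hP.odd) ?_)
      rw [Nat.mul_sub, mul_one]
      exact hmod
    by_contra hne
    have := Nat.le_of_dvd (by omega) h2
    omega
  have hpair : ({base A, o} : Finset (Pts A)) = Φ := by
    refine Finset.eq_of_subset_of_card_le ?_ ?_
    · intro q hq
      rcases Finset.mem_insert.1 hq with rfl | hq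
      · exact hbΦ
      · rw [Finset.mem_singleton.1 hq]; exact hoΦ
    · rw [hcard, hone, Finset.card_pair ho'.symm]
  have := (hΦ z).2 hz
  rw [← hpair, Finset.mem_insert, Finset.mem_singleton] at this
  exact this

omit hτ hτs in
theorem false_of_pick (hP : Pick S A o s x j p) : False := by
  classical
  haveI := Fact.mk hP.prime
  have hsp := hP.prime
  obtain ⟨τ, hτ, hτs⟩ := hT.exists_order hC hA hs hsp hP.dvd
  have hτ1 : τ ≠ 1 := fun e => hsp.ne_one (by rw [← hτs, e, orderOf_one])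
  obtain ⟨R, hR⟩ := exists_sylow_pair hC hA hs ho ho' hT hτ hτs hP
  obtain ⟨h, hhR, hhA, hhs, ⟨i, hxe⟩, -⟩ := hR.split
  have hh1 : h ≠ 1 := fun e => hsp.ne_one (by rw [← hhs, e, orderOf_one])
  have hx1 : x ≠ 1 := fun e => hsp.ne_one (by rw [← hP.ord, e, orderOf_one])
  have hxodd : Odd (orderOf x) := hP.ord ▸ hP.odd
  -- an element of the normaliser inverting `x`
  obtain ⟨g, hgN, hgx⟩ : ∃ g ∈ normalizer ((R : Subgroup G) : Set G), g * x * g⁻¹ = x⁻¹ := by
    have h1 : ∀ r ∈ (R : Subgroup G), r ∈ centralizer ({x} : Set G) := fun r hr =>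
      mem_centralizer_singleton_iff.2 (hR.x_central r hr).eq
    have h2 : ∀ r, r ∈ ((j • R : Sylow s G) : Subgroup G) → r ∈ centralizer ({x} : Set G) := by
      intro r hr
      rw [Sylow.coe_subgroup_smul] at hr
      obtain ⟨r', hr', rfl⟩ := hr
      have := (Commute.conj_iff j).2 (hR.x_central r' hr')
      rw [hP.inv, Commute.inv_right_iff] at this
      exact mem_centralizer_singleton_iff.2 this.eq
    obtain ⟨y, hy⟩ := MulAction.exists_smul_eq (centralizer ({x} : Set G)) ((j • R).subtype h2)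
      (R.subtype h1)
    rw [Sylow.smul_subtype] at hy
    refine ⟨y * j, Sylow.smul_eq_iff_mem_normalizer.1 (by rw [mul_smul]; exact Sylow.subtype_injective hy), ?_⟩
    rw [show (y : G) * j * x * ((y : G) * j)⁻¹ = y * (j * x * j⁻¹) * (y : G)⁻¹ by group, hP.inv]
    have hc : Commute (y : G) x := mem_centralizer_singleton_iff.1 y.2
    rw [hc.inv_right.eq, mul_inv_cancel_right]
  have hRb : ∀ r ∈ (R : Subgroup G), r • base A = base A := fun r hr => smul_base_eq_iff.2 (hR.le_pM r hr)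
  have hmove : ∀ q : Pts A, (∀ r ∈ (R : Subgroup G), r • q = q) → g • q = base A ∨ g • q = o := fun q hq =>
    fix_pair hC hA hs ho ho' hT hτ hτs hP hR fun r hr => by
      rw [← mul_smul, show r * g = g * (g⁻¹ * r * g) by group, mul_smul,
        hq _ ((mem_normalizer_iff''.1 hgN r).1 hr)]
  have hgb : g • base A = o := (hmove _ hRb).resolve_left fun e =>
    hx1 (no_inv hs hP.mem (smul_base_eq_iff.1 e) hxodd hgx)
  have hgo : g • o = base A := (hmove _ hR.fix).resolve_right fun e =>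
    ho' ((MulAction.injective g) (e.trans hgb.symm))
  -- `σ` moves `h` by the torus
  have hhM := hR.le_pM h hhR
  have hho : h • o = o := hR.fix h hhR
  have hho' : h⁻¹ • o = o := by rw [inv_smul_eq_iff, hho]
  have hhb : h⁻¹ • base A = base A := smul_base_eq_iff.2 (inv_mem hhM)
  have hτh : Commute τ h := (hR.tau_central h hhR).symm
  have hcW := c_mem_W hC hA hs
  have hhc : h⁻¹ * c * h⁻¹⁻¹ ∈ Qpart A c U := conj_W hC hA hs ho ho' (inv_mem hhM) hho' hcW
  set t := h * σ * h⁻¹ with ht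
  obtain ⟨hz, -⟩ := hT.swap t (by rw [ht, CfsgLib.Signalizer.orderOf_conj, hT.ord]) (hT.isA.conj h)
    (by
      have h3 := (Commute.conj_iff h).2 (show Commute (h⁻¹ * c * h⁻¹⁻¹) σ from
        mem_centralizer_iff.1 hT.sigma_cent _ hhc)
      rw [show h * (h⁻¹ * c * h⁻¹⁻¹) * h⁻¹ = c by group] at h3
      exact mem_centralizer_singleton_iff.2 h3.eq.symm)
    (by rw [ht, mul_smul, mul_smul, hhb, hT.sigma_base, hho])
  set z := σ⁻¹ * t with hzdef
  have hzodd := hT.odd hC hA hs hz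
  have hzh : h * z * h⁻¹ = z := by
    set w := h * z * h⁻¹ * z⁻¹ with hw
    have hwA : w ∈ centralizer (A : Set G) := by
      rw [hw, show h * z * h⁻¹ * z⁻¹ = h * (z * h⁻¹ * z⁻¹) by group]
      exact mul_mem hhA (conj_mem_centralizer_A (mem_N hs (hT.le_pM hz)) (inv_mem hhA))
    have hwc : w ∈ cH c := by
      refine mul_mem ?_ (inv_mem (hT.mem_cH hC hs hz))
      have h3 := (Commute.conj_iff h).2 (show Commute (h⁻¹ * c * h⁻¹⁻¹) z from
        mem_centralizer_iff.1 (hT.le_cent hz) _ hhc)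
      rw [show h * (h⁻¹ * c * h⁻¹⁻¹) * h⁻¹ = c by group] at h3
      exact mem_centralizer_singleton_iff.2 h3.eq.symm
    obtain ⟨K, k, T, hd⟩ := exists_blockData hC hs.bad hs.cent
    obtain ⟨v, hv, hv'⟩ := exists_top_mul_core hC hA hd hs.top hwc hwA
    rw [core_bot hC hs hs.bad, mem_bot, inv_mul_eq_one] at hv'
    have hzo : z • o = o := hT.fix z hz
    have hwW : w ∈ Qpart A c U := S_fix hC hA hs (hs.le (hv' ▸ hv)) ho ho' (by
      rw [hw, mul_smul, mul_smul, mul_smul, show z⁻¹ • o = o by rw [inv_smul_eq_iff, hzo], hho', hzo, hho])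
    have hcomm : Commute w z := mem_centralizer_iff.1 (hT.le_cent hz) w hwW
    have hwz : h * z * h⁻¹ = w * z := by rw [hw, inv_mul_cancel_right]
    have h4 : w ^ orderOf z = 1 := by
      have h5 : (h * z * h⁻¹) ^ orderOf z = 1 := by
        rw [conj_pow, pow_orderOf_eq_one, mul_one, mul_inv_cancel]
      rwa [hwz, hcomm.mul_pow, pow_orderOf_eq_one, mul_one] at h5
    have hw1 : w = 1 := eq_one_of_S_odd (hs.le hwW.1) (hzodd.of_dvd_nat (orderOf_dvd_of_pow_eq_one h4))
    rw [hwz, hw1, one_mul]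
  have htσ : h * σ * h⁻¹ = σ * z := by rw [hzdef, ht, mul_inv_cancel_left]
  have hiter : ∀ k : ℕ, h ^ k * σ * (h ^ k)⁻¹ = σ * z ^ k := by
    intro k
    induction k with
    | zero => simp
    | succ k ih =>
      calc h ^ (k + 1) * σ * (h ^ (k + 1))⁻¹ = h * (h ^ k * σ * (h ^ k)⁻¹) * h⁻¹ := by rw [pow_succ']; group
        _ = (h * σ * h⁻¹) * (h * z ^ k * h⁻¹) := by rw [ih]; group
        _ = σ * z ^ (k + 1) := by rw [htσ, ← conj_pow, hzh, mul_assoc, ← pow_succ']
  have hzs : z ^ s = 1 := by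
    have := hiter s
    rw [← hhs, pow_orderOf_eq_one, hhs, one_mul, inv_one, mul_one, eq_comm, mul_eq_left] at this
    exact this
  have hzτ : z ∈ zpowers τ := by
    by_cases hz1 : z = 1
    · rw [hz1]; exact one_mem _
    · exact hT.eq_zpow hC hA hs ho ho' hsp hτ hτs (hT.mem_cH hC hs hz) (hT.le_pM hz) (hT.fix z hz) hzs
        (hT.fpf z hz hz1)
  have hσi := involution_inv hT.ord
  have hσh : σ * h⁻¹ * σ⁻¹ = z⁻¹ * h⁻¹ := by
    have hzh' : Commute z h := by
      obtain ⟨a, ha⟩ := mem_zpowers_iff.1 hzτ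
      exact ha ▸ hτh.zpow_left a
    have h6 : σ⁻¹ * h * σ = z * h := by rw [hzdef, ht]; group
    have h7 : σ * h * σ⁻¹ = z * h := by rwa [hσi] at h6 ⊢
    rw [← conj_inv, h7, mul_inv_rev, hzh'.inv_inv.eq]
  set y := σ * g with hy
  have hyM : y ∈ pM A := smul_base_eq_iff.1 (by rw [hy, mul_smul, hgb, hT.sigma_o])
  have hyo : y • o = o := by rw [hy, mul_smul, hgo, hT.sigma_base]
  have hzc := conj_tau hC hA hs ho ho' hT hτ hτs hsp hyM hyo
  have hyh : y * h * y⁻¹ = (y * τ * y⁻¹) ^ (-i) * (τ ^ i * z⁻¹) * h⁻¹ := by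
    have h8 : y * x * y⁻¹ = τ ^ i * (z⁻¹ * h⁻¹) := by
      rw [show y * x * y⁻¹ = σ * (g * x * g⁻¹) * σ⁻¹ by rw [hy]; group, hgx, hxe, (hτh.zpow_left i).eq,
        mul_inv_rev, show σ * ((τ ^ i)⁻¹ * h⁻¹) * σ⁻¹ = (σ * τ ^ i * σ⁻¹)⁻¹ * (σ * h⁻¹ * σ⁻¹) by group,
        ← conj_zpow, hT.inv τ hτ, inv_zpow, inv_inv, hσh]
    rw [conj_zpow, zpow_neg]
    calc y * h * y⁻¹ = y * (τ ^ i)⁻¹ * y⁻¹ * (y * (τ ^ i * h) * y⁻¹) := by group
      _ = _ := by rw [← hxe, h8]; group
  have hv : (y * τ * y⁻¹) ^ (-i) * (τ ^ i * z⁻¹) ∈ zpowers τ :=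
    mul_mem (zpow_mem hzc _) (mul_mem (zpow_mem (mem_zpowers τ) i) (inv_mem hzτ))
  have hv1 : (y * τ * y⁻¹) ^ (-i) * (τ ^ i * z⁻¹) = 1 := by
    by_contra hv1
    obtain ⟨a, ha, ha1⟩ := exists_ne_one_A hC
    refine ha1 (hT.fpf _ (zpowers_le.2 hτ hv) hv1 a ha (commute_of_mem_cent ha ?_))
    rw [← mul_inv_cancel_right ((y * τ * y⁻¹) ^ (-i) * (τ ^ i * z⁻¹)) (h⁻¹), ← hyh, inv_inv]
    exact mul_mem (conj_mem_centralizer_A (mem_N hs hyM) hhA) hhA
  rw [hv1, one_mul] at hyh
  exact hh1 (no_inv hs hhM hyM (hhs ▸ hP.odd) hyh)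

end CfsgLib.ThreePrime.Block
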