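import Cfsg.Agent.Lib.ThreePrime.Block.SplitTor
import Cfsg.Agent.Lib.Core.FPF

/-!
Owner: helper10.  An element of odd prime order inverted by an involution moving the base to an unjoined point.

* `swap_cent`: the `A`-type swappers of the base and `o` centralise `c`
* `exists_pair`: two `A`-type involutions take the base to the same unjoined point
* `exists_pick`: the element
-/

set_option autoImplicit false
set_option linter.all false

namespace CfsgLib.ThreePrime.Block

open Subgroup CfsgLib.Bender.Dichotomy CfsgLib.Signalizer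

universe u

local instance factTwoBlockSplitPick : Fact (Nat.Prime 2) := ⟨Nat.prime_two⟩

variable {G : Type u} [Group G] [Finite G] {S : Sylow 2 G} {A : Subgroup G} {m l : ℕ}
  {c : G} {U : Subgroup G} {o : Pts A}

/-- An element of odd prime order inverted by an involution moving the base to an unjoined point. -/
structure Pick (S : Sylow 2 G) (A : Subgroup G) (o : Pts A) (s : ℕ) (x j : G) (p : Pts A) : Prop where
  prime : s.Prime
  odd : Odd s
  dvd : s ∣ Nat.card A - 1
  ord : orderOf x = s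
  mem : x ∈ pM A
  fix : x • o = o
  fpf : ∀ a ∈ A, x * a * x⁻¹ = a → a = 1
  invol : orderOf j = 2
  inv : j * x * j⁻¹ = x⁻¹
  jbase : j • base A = p
  ne : p ≠ base A
  free : ∀ g ∈ (S : Subgroup G), g • o ≠ p

variable (hC : Ctx S A) (hA : Aut A m l) (hs : Split S A c U) (ho : o ∈ Fix A c) (ho' : o ≠ base A)
include hC hA hs ho ho'

theorem swap_cent {t : G} (htA : IsA A t) (htb : t • base A = o) : t ∈ cH c := by
  classical
  have ht := orderOf_isA hC htA
  have hto : t • o = base A := by rw [← htb, ← mul_smul, involution_sq ht, one_smul]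
  have hfixW : ∀ w ∈ Qpart A c U, t * w * t⁻¹ ∈ Qpart A c U := by
    intro w hw
    have hwo : w • o = o := (mem_fixingSubgroup_iff _).1 hw.2 o ho
    have hwb : w • base A = base A := smul_base_eq_iff.2 (hs.top.le hw.1).2
    have h1 : (t * w * t⁻¹) • base A = base A := by
      rw [involution_inv ht, mul_smul, mul_smul, htb, hwo, hto]
    have h2 : (t * w * t⁻¹) • o = o := by
      rw [involution_inv ht, mul_smul, mul_smul, hto, hwb, htb]
    exact S_fix hC hA hs (mem_S_of_two hs (smul_base_eq_iff.1 h1) (k := 1)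
      (by rw [pow_one, conj_pow, W_sq hC hA hs hw, mul_one, mul_inv_cancel])) ho ho' h2
  let W' := {w : Qpart A c U // (w : G) ≠ 1}
  have hodd : ¬ 2 ∣ Nat.card W' := by
    haveI := Fintype.ofFinite (Qpart A c U)
    have e : W' ≃ {w : Qpart A c U // w ≠ 1} :=
      Equiv.subtypeEquivRight fun w => by simp
    have hev : 2 ∣ Nat.card (Qpart A c U) := by
      obtain ⟨i, hi⟩ := IsPGroup.iff_card.1 (hs.top.two.to_le (inf_le_left : Qpart A c U ≤ U))
      have := hs.four
      rw [hi] at this ⊢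
      exact dvd_pow_self 2 fun e => by rw [e] at this; omega
    have := hs.four
    rw [Nat.card_congr e, Nat.card_eq_fintype_card, Fintype.card_subtype_compl, Fintype.card_subtype_eq,
      ← Nat.card_eq_fintype_card]
    omega
  obtain ⟨⟨⟨w, hw⟩, hw1⟩, hfix⟩ := exists_fixed_of_not_dvd (α := W')
    (fun w => ⟨⟨t * (w.1 : G) * t⁻¹, hfixW _ w.1.2⟩, fun e => w.2 (conj_eq_one_iff.1 e)⟩) Nat.prime_two
    (funext fun w => Subtype.ext (Subtype.ext (by
      show t * (t * (w.1 : G) * t⁻¹) * t⁻¹ = _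
      calc t * (t * (w.1 : G) * t⁻¹) * t⁻¹ = (t * t) * w.1 * (t * t)⁻¹ := by group
        _ = _ := by rw [involution_sq ht, one_mul, inv_one, mul_one]; rfl))) hodd
  have htw : t * w * t⁻¹ = w := congrArg (fun z : W' => (z.1 : G)) hfix
  obtain ⟨hs', hQ⟩ := split_of_mem hC hA hs hw hw1
  have hfw : o ∈ Fix A w := by rw [(W_bad hC hA hs hw hw1).1]; exact ho
  obtain ⟨σ, T0, hT⟩ := exists_torusData hC hA hs' hfw ho'
  have h1 := (hT.swap t ht htA (mem_centralizer_singleton_iff.2 (mul_inv_eq_iff_eq_mul.1 htw)) htb).2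
  rw [hQ] at h1
  exact mem_centralizer_singleton_iff.2 (mem_centralizer_iff.1 h1 c (c_mem_W hC hA hs)).symm

theorem card_swap : Nat.card {t : G // IsA A t ∧ t • base A = o} ≤ Nat.card A - 1 := by
  obtain ⟨σ, T0, hT⟩ := exists_torusData hC hA hs ho ho'
  rw [← hT.card]
  refine Nat.card_le_card_of_injective
    (fun t => ⟨σ⁻¹ * t.1, (hT.swap t.1 (orderOf_isA hC t.2.1) t.2.1
      (swap_cent hC hA hs ho ho' t.2.1 t.2.2) t.2.2).1⟩) fun a b e => ?_
  exact Subtype.ext (mul_left_cancel (congrArg Subtype.val e))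

/-- Two `A`-type involutions take the base to the same unjoined point. -/
theorem exists_pair : ∃ (p : Pts A) (j j' : G), j ≠ j' ∧ orderOf j = 2 ∧ orderOf j' = 2 ∧
    j • base A = p ∧ j' • base A = p ∧ p ≠ base A ∧ ∀ g ∈ (S : Subgroup G), g • o ≠ p := by
  classical
  by_contra hno
  push Not at hno
  let P := {p : Pts A // p ≠ base A}
  let J := {p : P // ∃ g ∈ (S : Subgroup G), g • o = p.1}
  let E := {t : G // IsA A t ∧ t ∉ pM A}
  let f : E → P := fun t => ⟨t.1 • base A, fun e => t.2.2 (smul_base_eq_iff.1 e)⟩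
  haveI := Fintype.ofFinite P
  haveI := Fintype.ofFinite E
  have hrep : ∀ p : P, ∃ g : G, g • base A = p.1 := fun p => by
    obtain ⟨g, hg⟩ := QuotientGroup.mk_surjective p.1
    exact ⟨g, by rw [smul_base, hg]⟩
  choose r hr using hrep
  have huniq : ∀ (p : P) (a : G), a ∈ A → a ≠ 1 → Fix A (r p * a * (r p)⁻¹) = {p.1} := by
    intro p a ha ha1
    ext q
    rw [Set.mem_singleton_iff, ← smul_inv_smul (r p) q, mem_fix_conj, hC.fixA a ha ha1,
      Set.mem_singleton_iff, smul_inv_smul]
    constructor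
    · intro e
      rw [← hr p, ← e, smul_inv_smul]
    · intro e
      rw [e, inv_smul_eq_iff, hr p]
  have hlow : Nat.card P * (Nat.card A - 1) ≤ Nat.card E := by
    have hA1 : Nat.card {a : A // a ≠ 1} = Nat.card A - 1 := by
      haveI := Fintype.ofFinite A
      rw [Nat.card_eq_fintype_card, Fintype.card_subtype_compl, Fintype.card_subtype_eq,
        ← Nat.card_eq_fintype_card]
    rw [← hA1, ← Nat.card_prod]
    have hne : ∀ a : {a : A // a ≠ 1}, (a.1 : G) ≠ 1 := fun a e => a.2 (Subtype.ext e)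
    refine Nat.card_le_card_of_injective (fun x => ⟨r x.1 * (x.2.1 : G) * (r x.1)⁻¹,
      (isA_of_mem x.2.1.2 (hne x.2)).conj _, fun h => ?_⟩) ?_
    · have h1 := huniq x.1 x.2.1 x.2.1.2 (hne x.2)
      have h2 : base A ∈ Fix A (r x.1 * (x.2.1 : G) * (r x.1)⁻¹) := base_mem_fix_iff.2 h
      rw [h1, Set.mem_singleton_iff] at h2
      exact x.1.2 h2.symm
    · rintro ⟨p, a⟩ ⟨p', a'⟩ e
      have e' : r p * (a.1 : G) * (r p)⁻¹ = r p' * (a'.1 : G) * (r p')⁻¹ := congrArg Subtype.val e
      have h1 := huniq p a.1 a.1.2 (hne a)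
      rw [e', huniq p' a'.1 a'.1.2 (hne a')] at h1
      obtain rfl : p' = p := Subtype.ext (Set.singleton_eq_singleton_iff.1 h1)
      exact Prod.ext rfl (Subtype.ext (Subtype.ext (mul_left_cancel (mul_right_cancel e'))))
  have hfib : ∀ p : P, Nat.card {t : E // f t = p} ≤
      1 + (if (∃ g ∈ (S : Subgroup G), g • o = p.1) then Nat.card A - 1 else 0) := by
    intro p
    split_ifs with h
    · obtain ⟨g, hg, hgo⟩ := h
      have hgb : g • base A = base A := smul_base_eq_iff.2 (S_le_pM hC hg)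
      refine le_trans (le_trans ?_ (card_swap hC hA hs ho ho')) (Nat.le_add_left _ _)
      refine Nat.card_le_card_of_injective (fun t => ⟨g⁻¹ * (t.1.1 : G) * g, ?_, ?_⟩) fun a b e => ?_
      · have := t.1.2.1.conj g⁻¹
        rwa [inv_inv] at this
      · rw [mul_smul, mul_smul, hgb, show t.1.1 • base A = p.1 from congrArg Subtype.val t.2, ← hgo,
          inv_smul_smul]
      · exact Subtype.ext (Subtype.ext (mul_left_cancel (mul_right_cancel (congrArg Subtype.val e))))
    · rw [Nat.add_zero]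
      haveI : Subsingleton {t : E // f t = p} := ⟨fun a b => by
        by_contra hne
        obtain ⟨g, hg, e⟩ := hno p.1 a.1.1 b.1.1 (fun e => hne (Subtype.ext (Subtype.ext e)))
          (orderOf_isA hC a.1.2.1) (orderOf_isA hC b.1.2.1) (congrArg Subtype.val a.2)
          (congrArg Subtype.val b.2) p.2
        exact h ⟨g, hg, e⟩⟩
      exact Finite.card_le_one_iff_subsingleton.2 inferInstance
  have hup : Nat.card E ≤ Nat.card P + Nat.card A ^ 3 * (Nat.card A - 1) := by
    rw [← Nat.card_congr (Equiv.sigmaFiberEquiv f), Nat.card_sigma]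
    refine (Finset.sum_le_sum fun p _ => hfib p).trans ?_
    rw [Finset.sum_add_distrib, Finset.sum_const, Finset.card_univ, smul_eq_mul, mul_one,
      ← Nat.card_eq_fintype_card, Finset.sum_ite, Finset.sum_const, Finset.sum_const_zero, add_zero,
      smul_eq_mul]
    refine Nat.add_le_add_left (Nat.mul_le_mul_right _ ?_) _
    rw [← Fintype.card_subtype, ← Nat.card_eq_fintype_card, ← card_orbit hC hA hs ho ho']
    refine Nat.card_le_card_of_injective (fun p => ⟨p.1.1, ?_⟩) fun a b e =>
      Subtype.ext (Subtype.ext (congrArg Subtype.val e : _))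
    obtain ⟨g, hg, e⟩ := p.2
    exact ⟨⟨g, hg⟩, e⟩
  have hP : Nat.card P = Nat.card (Pts A) - 1 := by
    haveI := Fintype.ofFinite (Pts A)
    rw [Nat.card_eq_fintype_card, Fintype.card_subtype_compl, Fintype.card_subtype_eq,
      ← Nat.card_eq_fintype_card]
  rw [card_points hC hA] at hP
  have hq := hC.pt.card
  obtain ⟨r', hr'⟩ : ∃ r', Nat.card A = r' + 8 := ⟨Nat.card A - 8, by omega⟩
  have h := hlow.trans hup
  rw [hr', show r' + 8 - 1 = r' + 7 by omega] at h hP
  have hP' : (r' + 8) ^ 4 * (r' + 7) ≤ Nat.card P := by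
    rw [hP]
    have : (r' + 8) ^ 4 * (r' + 7) + 1 ≤ ((r' + 8) ^ 2 + 1) * ((r' + 8) ^ 2 * (r' + 7) + 1) := by nlinarith
    omega
  have h1 : Nat.card P * (r' + 6) ≤ (r' + 8) ^ 3 * (r' + 7) := by nlinarith
  have h2 : (r' + 8) ^ 4 * (r' + 7) * (r' + 6) ≤ (r' + 8) ^ 3 * (r' + 7) :=
    le_trans (Nat.mul_le_mul_right _ hP') h1
  have h3 : 0 < (r' + 8) ^ 3 * (r' + 7) := by positivity
  have h4 : (r' + 8) ^ 4 * (r' + 7) * (r' + 6) = (r' + 8) ^ 3 * (r' + 7) * ((r' + 8) * (r' + 6)) := by ring
  have h5 : 48 ≤ (r' + 8) * (r' + 6) := by nlinarith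
  nlinarith

/-- The element. -/
theorem exists_pick : ∃ (s : ℕ) (x j : G) (p : Pts A), Pick S A o s x j p := by
  classical
  obtain ⟨p, j, j', hne, hj, hj', hjb, hj'b, hp, hfree⟩ := exists_pair hC hA hs ho ho'
  have hjj : j • p = base A := by rw [← hjb, ← mul_smul, involution_sq hj, one_smul]
  have hj'p : j' • p = base A := by rw [← hj'b, ← mul_smul, involution_sq hj', one_smul]
  set d := j * j' with hd
  have hdM : d ∈ pM A := smul_base_eq_iff.1 (by rw [hd, mul_smul, hj'b, hjj])
  have hdp : d • p = p := by rw [hd, mul_smul, hj'p, hjb]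
  have hd1 : d ≠ 1 := fun e => hne (by
    rw [← involution_inv hj]; exact inv_eq_of_mul_eq_one_right e)
  have hdinv : j * d * j⁻¹ = d⁻¹ := conj_mul_eq_inv hj hj'
  have hodd := odd_stab hC hA hs ho ho' hdM hp hdp hfree
  set n := orderOf d with hn
  have hn1 : n ≠ 1 := fun e => hd1 (orderOf_eq_one_iff.1 e)
  set s := n.minFac with hsdef
  have hsp : s.Prime := Nat.minFac_prime hn1
  have hsd : s ∣ n := Nat.minFac_dvd n
  set x := d ^ (n / s) with hx
  have hxs : orderOf x = s := orderOf_pow_orderOf_div (orderOf_pos d).ne' hsd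
  have hx1 : x ≠ 1 := fun e => hsp.ne_one (by rw [← hxs, e, orderOf_one])
  have hxodd : Odd s := hodd.of_dvd_nat hsd
  have hxM : x ∈ pM A := pow_mem hdM _
  have hxinv : j * x * j⁻¹ = x⁻¹ := by rw [hx, ← conj_pow, hdinv, inv_pow]
  have hfpf : ∀ a ∈ A, x * a * x⁻¹ = a → a = 1 := by
    intro a ha hxa
    by_contra ha1
    set b := j * a * j⁻¹ with hb
    have hxa' : Commute x a := mul_inv_eq_iff_eq_mul.1 hxa
    have hxb : Commute x b := by
      have h1 := (Commute.conj_iff j).2 hxa'
      rw [hxinv] at h1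
      exact Commute.inv_left_iff.1 h1
    have ha2 := orderOf_A hC ha ha1
    have hb2 : orderOf b = 2 := by rw [hb, CfsgLib.Signalizer.orderOf_conj, ha2]
    rcases Nat.even_or_odd (orderOf (a * b)) with he | ho2
    · obtain ⟨hz2, hza, hzb⟩ := central_involution ha2 hb2 he
      set z := (a * b) ^ (orderOf (a * b) / 2) with hz
      have hzM : z ∈ pM A := hC.pt.cent a ha ha1 (mem_centralizer_singleton_iff.2 hza.eq)
      have hzM' : j⁻¹ * z * j ∈ pM A := hC.pt.cent a ha ha1 (mem_centralizer_singleton_iff.2 (by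
        calc j⁻¹ * z * j * a = j⁻¹ * (z * b) * j := by rw [hb]; group
          _ = j⁻¹ * (b * z) * j := by rw [hzb.eq]
          _ = a * (j⁻¹ * z * j) := by rw [hb]; group))
      have hzp : p ∈ Fix A z := by
        rw [MulAction.mem_fixedBy, ← hjb, ← mul_smul, show z * j = j * (j⁻¹ * z * j) by group, mul_smul,
          smul_base_eq_iff.2 hzM']
      obtain ⟨g, hg, e⟩ := joined_of_bad hC hA hs ho ho' ((bad_iff hC).2 ⟨hz2, hzM, fun e => hp (by
        rw [e] at hzp; exact hzp)⟩) hzp hp
      exact hfree g hg e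
    · obtain ⟨g, hg, hgab⟩ := exists_conj_of_odd ha2 hb2 ho2
      have hgx : Commute x g := by
        have hle : closure ({a, b} : Set G) ≤ centralizer ({x} : Set G) := by
          rw [closure_le]
          rintro _ (rfl | rfl)
          · exact mem_centralizer_singleton_iff.2 hxa'.eq.symm
          · exact mem_centralizer_singleton_iff.2 hxb.eq.symm
        exact (mem_centralizer_singleton_iff.1 (hle hg)).symm
      have hgp : g • base A = p := by
        have h1 : g • base A ∈ Fix A b := by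
          rw [← hgab]
          exact mem_fix_conj.2 (by rw [hC.fixA a ha ha1]; exact Set.mem_singleton _)
        rw [← smul_inv_smul j (g • base A), hb, mem_fix_conj, hC.fixA a ha ha1, Set.mem_singleton_iff,
          inv_smul_eq_iff, hjb] at h1
        exact h1
      have hyM : g⁻¹ * j ∈ pM A := smul_base_eq_iff.1 (by rw [mul_smul, hjb, ← hgp, inv_smul_smul])
      refine hx1 (no_inv hs hxM hyM (hxs ▸ hxodd) ?_)
      calc g⁻¹ * j * x * (g⁻¹ * j)⁻¹ = g⁻¹ * (j * x * j⁻¹) * g := by group
        _ = g⁻¹ * x⁻¹ * g := by rw [hxinv]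
        _ = x⁻¹ := by rw [mul_assoc, hgx.inv_left.eq, inv_mul_cancel_left]
  have hdvd : s ∣ Nat.card A - 1 := by
    have h1 := CfsgLib.Core.FPF.card_dvd_pred (A := zpowers x) (K := A) (zpowers_le.2 (mem_N hs hxM))
      fun a ha ha1 => by
        refine (Subgroup.eq_bot_iff_forall _).2 fun k hk => hfpf k hk.1 ?_
        have hgen : zpowers a = zpowers x := eq_of_le_of_card_ge (zpowers_le.2 ha) (by
          rw [Nat.card_zpowers, Nat.card_zpowers, hxs]
          have h1 : orderOf a ∣ s := by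
            rw [← hxs]
            exact orderOf_dvd_of_mem_zpowers ha
          rcases hsp.eq_one_or_self_of_dvd _ h1 with e | e
          · exact absurd (orderOf_eq_one_iff.1 e) ha1
          · exact e.ge)
        obtain ⟨i, hi⟩ := mem_zpowers_iff.1 (hgen.ge (mem_zpowers x))
        have hka : Commute k a := mem_centralizer_singleton_iff.1 hk.2
        rw [← hi, (hka.zpow_right i).symm.eq, mul_inv_cancel_right]
    rwa [Nat.card_zpowers, hxs] at h1
  -- move `x` to the stabiliser of `o`
  let O := MulAction.orbit (S : Subgroup G) o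
  have hmaps : ∀ q : O, x • q.1 ∈ O := by
    rintro ⟨_, ⟨u, hu⟩, rfl⟩
    obtain ⟨v, hv, e⟩ := orbit_M hC hA hs ho ho' hxM hu
    exact ⟨⟨v, hv⟩, e⟩
  have hiter : ∀ (i : ℕ) (q : O), ((fun q : O => (⟨x • q.1, hmaps q⟩ : O))^[i] q).1 = x ^ i • q.1 := by
    intro i
    induction i with
    | zero => intro q; simp
    | succ i ih => intro q; rw [Function.iterate_succ_apply', pow_succ', mul_smul, ← ih]
  obtain ⟨⟨_, ⟨g, hg⟩, rfl⟩, hgfix⟩ := exists_fixed_of_not_dvd (α := O)
    (fun q => ⟨x • q.1, hmaps q⟩) hsp (funext fun q => Subtype.ext (by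
      rw [hiter, ← hxs, pow_orderOf_eq_one, one_smul]; rfl)) (by
      rw [card_orbit hC hA hs ho ho']
      intro h
      have h1 := hsp.dvd_of_dvd_pow h
      have h2 := Nat.dvd_sub h1 hdvd
      rw [Nat.sub_sub_self (Nat.card_pos : 0 < Nat.card A)] at h2
      exact hsp.ne_one (Nat.dvd_one.1 h2))
  have hgo : x • g • o = g • o := congrArg Subtype.val hgfix
  have hgb : g • base A = base A := smul_base_eq_iff.2 (S_le_pM hC hg)
  have hgM := S_le_pM hC hg
  refine ⟨s, g⁻¹ * x * g, g⁻¹ * j * g, g⁻¹ • p,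
    { prime := hsp, odd := hxodd, dvd := hdvd, ord := ?_, mem := mul_mem (mul_mem (inv_mem hgM) hxM) hgM,
      fix := ?_, fpf := ?_, invol := ?_, inv := ?_, jbase := ?_, ne := ?_, free := ?_ }⟩
  · have h := CfsgLib.Signalizer.orderOf_conj g⁻¹ x
    rw [inv_inv] at h
    rw [h, hxs]
  · rw [mul_smul, mul_smul, hgo, inv_smul_smul]
  · intro a ha hfix
    have hga : g * a * g⁻¹ = a :=
      commute_of_mem_cent ha (S_le_centralizer hC hA hg)
    refine hfpf a ha ?_
    calc x * a * x⁻¹ = x * (g * a * g⁻¹) * x⁻¹ := by rw [hga]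
      _ = g * (g⁻¹ * x * g * a * (g⁻¹ * x * g)⁻¹) * g⁻¹ := by group
      _ = a := by rw [hfix, hga]
  · have h := CfsgLib.Signalizer.orderOf_conj g⁻¹ j
    rw [inv_inv] at h
    rw [h, hj]
  · calc g⁻¹ * j * g * (g⁻¹ * x * g) * (g⁻¹ * j * g)⁻¹ = g⁻¹ * (j * x * j⁻¹) * g := by group
      _ = _ := by rw [hxinv]; group
  · rw [mul_smul, mul_smul, hgb, hjb]
  · intro e
    rw [inv_smul_eq_iff, hgb] at e
    exact hp e
  · intro u hu e
    exact hfree (g * u) (mul_mem hg hu) (by rw [mul_smul, e, smul_inv_smul])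

end CfsgLib.ThreePrime.Block
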