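import Cfsg.Agent.Lib.ThreePrime.Block.SplitPick
import Cfsg.Agent.Lib.ThreePrime.Block.SplitCent

/-!
Owner: helper10.  The chosen element commutes with no involution of `W`.
-/

set_option autoImplicit false
set_option linter.all false

namespace CfsgLib.ThreePrime.Block

open Subgroup CfsgLib.Bender.Dichotomy CfsgLib.Signalizer

universe u

local instance factTwoBlockSplitPure : Fact (Nat.Prime 2) := ⟨Nat.prime_two⟩

variable {G : Type u} [Group G] [Finite G] {S : Sylow 2 G} {A : Subgroup G} {m l : ℕ}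
  {c : G} {U : Subgroup G} {o : Pts A} {s : ℕ} {x j : G} {p : Pts A}

theorem false_of_cent (hC : Ctx S A) (hA : Aut A m l) (hs : Split S A c U) (ho : o ∈ Fix A c)
    (ho' : o ≠ base A) (hP : Pick S A o s x j p) (hx : x ∈ cH c) : False := by
  obtain ⟨σ, T0, hT⟩ := exists_torusData hC hA hs ho ho'
  obtain ⟨τ, hτ, hτs⟩ := hT.exists_order hC hA hs hP.prime hP.dvd
  have hxT : x ∈ T0 := zpowers_le.2 hτ (hT.eq_zpow hC hA hs ho ho' hP.prime hτ hτs hx hP.mem hP.fix
    (hP.ord ▸ pow_orderOf_eq_one x) hP.fpf)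
  have hx1 : x ≠ 1 := fun e => hP.prime.ne_one (by rw [← hP.ord, e, orderOf_one])
  have hle := cent_le hC hA hs hT hxT hx1 ho ho'
  have hcx : Commute c x := (mem_centralizer_singleton_iff.1 hx).symm
  have h1 : Commute (j * c * j⁻¹) x := by
    have := (Commute.conj_iff j).2 hcx
    rw [hP.inv] at this
    exact Commute.inv_right_iff.1 this
  have h2 : j * c * j⁻¹ ∈ pM A := hle (mem_centralizer_singleton_iff.2 h1.eq)
  have h3 : p ∈ Fix A c := by
    rw [MulAction.mem_fixedBy, ← hP.jbase, ← mul_smul,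
      show c * j = j⁻¹ * (j * c * j⁻¹) * (j * j) by group,
      involution_sq hP.invol, mul_one, involution_inv hP.invol, mul_smul]
    rw [show j • base A = j • base A from rfl]
    exact congrArg (j • ·) (smul_base_eq_iff.2 (by
      have := h2
      rwa [involution_inv hP.invol] at this))
  obtain ⟨g, hg, e⟩ := joined_of_bad hC hA hs ho ho' hs.bad h3 hP.ne
  exact hP.free g hg e

theorem not_commute (hC : Ctx S A) (hA : Aut A m l) (hs : Split S A c U) (ho : o ∈ Fix A c)
    (ho' : o ≠ base A) (hP : Pick S A o s x j p) {w : G} (hw : w ∈ Qpart A c U) (hw1 : w ≠ 1) :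
    ¬ Commute x w := fun h =>
  false_of_cent hC hA (split_of_mem hC hA hs hw hw1).1
    (by rw [(W_bad hC hA hs hw hw1).1]; exact ho) ho' hP (mem_centralizer_singleton_iff.2 h.eq)

end CfsgLib.ThreePrime.Block
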