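import Cfsg.Agent.Lib.ThreePrime.Block.SplitBasic

/-!
Owner: helper10.  The torus of the block and the involutions exchanging two points.

* `TorusData`, `exists_torusData`: the lift `T0` of the two point stabiliser of the component, an `A`-type
  involution `σ` inverting it, and the `A`-type swappers in `C(c)`
* `TorusData.eq_zpow`: the elements of prime order in `C(c)` fixing both points lie in the torus
-/

set_option autoImplicit false
set_option linter.all false

namespace CfsgLib.ThreePrime.Block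

open Subgroup CfsgLib.Bender.Dichotomy CfsgLib.Signalizer
open scoped Pointwise

universe u

local instance factTwoBlockSplitTor : Fact (Nat.Prime 2) := ⟨Nat.prime_two⟩

variable {G : Type u} [Group G] [Finite G] {S : Sylow 2 G} {A : Subgroup G} {m l : ℕ}
  {c : G} {U : Subgroup G}

/-- The torus fixing the base and `o`, with an inverting involution. -/
structure TorusData (A : Subgroup G) (c : G) (U : Subgroup G) (o : Pts A) (σ : G) (T0 : Subgroup G) : Prop where
  ord : orderOf σ = 2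
  isA : IsA A σ
  sigma_cent : σ ∈ centralizer (Qpart A c U : Set G)
  sigma_base : σ • base A = o
  sigma_o : σ • o = base A
  card : Nat.card T0 = Nat.card A - 1
  le_cent : T0 ≤ centralizer (Qpart A c U : Set G)
  le_pM : T0 ≤ pM A
  fix : ∀ e ∈ T0, e • o = o
  inv : ∀ e ∈ T0, σ * e * σ⁻¹ = e⁻¹
  fpf : ∀ e ∈ T0, e ≠ 1 → ∀ a ∈ A, e * a * e⁻¹ = a → a = 1
  swap : ∀ t : G, orderOf t = 2 → IsA A t → t ∈ cH c → t • base A = o →
    σ⁻¹ * t ∈ T0 ∧ t ∈ centralizer (Qpart A c U : Set G)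

variable {o : Pts A}

theorem exists_pair_sylows {K : Subgroup (cQ c)} {k : ℕ} {T : Sylow 2 K} (hd : BlockData A c K k T)
    (ho : o ∈ Fix A c) (ho' : o ≠ base A) :
    ∃ T' : Sylow 2 K, T ≠ T' ∧ ∀ (z : ↥(cH c)) (g : K), cπ c z = g →
      (((z : G) • base A = base A ↔ g • T = T) ∧ ((z : G) • base A = o ↔ g • T = T') ∧
        ((z : G) • o = o ↔ g • T' = T') ∧ ((z : G) • o = base A ↔ g • T' = T)) := by
  obtain ⟨y, k0, hy, rfl⟩ := exists_point hd ho
  have h1 : cπ c (1 : ↥(cH c)) = ((1 : K) : cQ c) := by rw [map_one]; rfl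
  have hb : ∀ (z : ↥(cH c)) (g : K), cπ c z = g → ((z : G) • base A = base A ↔ g • T = T) := by
    intro z g hz
    have := smul_base_eq_iff_K hd hz h1
    rwa [OneMemClass.coe_one, one_smul, one_smul] at this
  refine ⟨k0 • T, fun e => ho' ((hb y k0 hy).2 e.symm), fun z g hz => ?_⟩
  have hzy : cπ c (z * y) = ((g * k0 : K) : cQ c) := by rw [map_mul, hz, hy]; rfl
  refine ⟨hb z g hz, smul_base_eq_iff_K hd hz hy, ?_, ?_⟩
  · have := smul_base_eq_iff_K hd hzy hy
    rwa [Subgroup.coe_mul, mul_smul, mul_smul] at this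
  · have := hb (z * y) (g * k0) hzy
    rwa [Subgroup.coe_mul, mul_smul, mul_smul] at this

section

variable (hC : Ctx S A) (hA : Aut A m l) (hs : Split S A c U)
include hC hA hs

theorem exists_torusData (ho : o ∈ Fix A c) (ho' : o ≠ base A) :
    ∃ σ T0, TorusData A c U o σ T0 := by
  classical
  obtain ⟨K, k, T, hd⟩ := exists_blockData hC hs.bad hs.cent
  haveI := hd.normal
  have hinj := image_injective hC hs hs.bad
  have hsur := QuotientGroup.mk'_surjective (Cfsg.oddCore ↥(cH c))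
  obtain ⟨T', hne, hfr⟩ := exists_pair_sylows hd ho ho'
  have hWK : ∀ (z : ↥(cH c)) (g : K), cπ c z = g → (z : G) ∈ centralizer (Qpart A c U : Set G) := by
    intro z g hz
    refine mem_centralizer_iff.2 fun w hw => ?_
    let w' : ↥(cH c) := ⟨w, (hs.top.le hw.1).1⟩
    have h1 := mem_centralizer_iff.1 ((mem_ker_iff hd (x := w')).1 hw.2) _ g.2
    refine congrArg Subtype.val (show w' * z = z * w' from hinj ?_)
    rw [map_mul, map_mul, hz]
    exact h1.symm
  obtain ⟨s0, hs0, hs0T, hs0T', hs0inv⟩ := exists_inverter hd.facts hne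
  obtain ⟨σ, hσ⟩ := hsur (s0 : cQ c)
  have hIsA : ∀ (z : ↥(cH c)) (g : K), cπ c z = g → orderOf g = 2 → IsA A (z : G) := by
    intro z g hz hg
    obtain ⟨κ, a, ha, e⟩ := exists_conj_Abar hd (sq_of_ord hg)
    obtain ⟨y, hy⟩ := hsur (κ : cQ c)
    have e' : z = y * a * y⁻¹ := hinj (by
      rw [map_mul, map_mul, map_inv, hz, hy, ← e]; group)
    refine ⟨y, a, ha, fun h => ?_, by rw [e']; rfl⟩
    rw [show a = 1 from Subtype.ext h, mul_one, mul_inv_cancel] at e'
    rw [e', map_one] at hz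
    rw [show g = 1 from Subtype.ext hz.symm, orderOf_one] at hg
    omega
  have hσ2 : orderOf (σ : G) = 2 := by
    rw [Subgroup.orderOf_coe, ← orderOf_injective (cπ c) hinj, show cπ c σ = _ from hσ,
      Subgroup.orderOf_coe, hs0]
  let e : ↥(cH c) ≃* cQ c := MulEquiv.ofBijective (cπ c) ⟨hinj, hsur⟩
  let T0 : Subgroup G := (((tor T T').map K.subtype).map e.symm.toMonoidHom).map (cH c).subtype
  have hT0 : ∀ z : G, z ∈ T0 ↔ ∃ (h : z ∈ cH c) (t : K), t ∈ tor T T' ∧ cπ c ⟨z, h⟩ = t := by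
    intro z
    constructor
    · rintro ⟨z', ⟨_, ⟨t, ht, rfl⟩, rfl⟩, rfl⟩
      exact ⟨(e.symm (K.subtype t)).2, t, ht, e.apply_symm_apply (K.subtype t)⟩
    · rintro ⟨h, t, ht, he⟩
      refine ⟨⟨z, h⟩, ⟨_, ⟨t, ht, rfl⟩, ?_⟩, rfl⟩
      show e.symm (K.subtype t) = ⟨z, h⟩
      exact e.symm_apply_eq.2 he.symm
  refine ⟨σ, T0, hσ2, hIsA σ s0 hσ hs0, hWK σ s0 hσ, (hfr σ s0 hσ).2.1.2 hs0T, (hfr σ s0 hσ).2.2.2.2 hs0T',
    ?_, fun z hz => ?_, fun z hz => ?_, fun z hz => ?_, fun z hz => ?_, fun z hz hz1 a ha hfix => ?_,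
    fun t ht htA htc htb => ?_⟩
  · rw [show T0 = _ from rfl, card_map_of_injective (cH c).subtype_injective,
      card_map_of_injective e.symm.injective, card_map_of_injective K.subtype_injective,
      card_tor hd.facts hne, hd.qA]
  · obtain ⟨h, t, -, he⟩ := (hT0 z).1 hz
    exact hWK ⟨z, h⟩ t he
  · obtain ⟨h, t, ht, he⟩ := (hT0 z).1 hz
    exact smul_base_eq_iff.1 ((hfr ⟨z, h⟩ t he).1.2 (smul_eq_iff.2 ht.1))
  · obtain ⟨h, t, ht, he⟩ := (hT0 z).1 hz
    exact (hfr ⟨z, h⟩ t he).2.2.1.2 (smul_eq_iff.2 ht.2)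
  · obtain ⟨h, t, ht, he⟩ := (hT0 z).1 hz
    refine congrArg Subtype.val (show σ * ⟨z, h⟩ * σ⁻¹ = (⟨z, h⟩ : ↥(cH c))⁻¹ from hinj ?_)
    rw [map_mul, map_mul, map_inv, map_inv, show cπ c σ = _ from hσ, he]
    exact congrArg Subtype.val (hs0inv t ht)
  · obtain ⟨h, t, ht, he⟩ := (hT0 z).1 hz
    by_contra ha1
    let a' : ↥(cH c) := ⟨a, A_le_cH hd.cent ha⟩
    have haK : cπ c a' ∈ K := hd.Abar_le ⟨a', mem_subgroupOf.2 ha, rfl⟩
    obtain ⟨haT, ha2⟩ := (hd.omega ⟨_, haK⟩).1 ⟨a', mem_subgroupOf.2 ha, rfl⟩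
    have hne1 : (⟨_, haK⟩ : K) ≠ 1 := fun e => ha1 (congrArg Subtype.val
      (hinj ((congrArg Subtype.val e).trans (map_one (cπ c)).symm)))
    have hcomm : t * (⟨_, haK⟩ : K) = ⟨_, haK⟩ * t := Subtype.ext (by
      show (t : cQ c) * cπ c a' = cπ c a' * t
      rw [← he, ← map_mul, ← map_mul]
      exact congrArg _ (Subtype.ext (mul_inv_eq_iff_eq_mul.1 hfix)))
    have ht1 := tor_inf_sylow hd.facts hne ht (hd.facts.cent_invol T _ haT ha2 hne1
      (mem_centralizer_singleton_iff.2 hcomm))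
    rw [ht1] at he
    exact hz1 (congrArg Subtype.val (hinj (he.trans (map_one (cπ c)).symm)))
  · -- a swapper of `A`-type is a component involution
    let t' : ↥(cH c) := ⟨t, htc⟩
    have ht'2 : cπ c t' ^ 2 = 1 := by
      rw [← map_pow, show t' ^ 2 = 1 from Subtype.ext (sq_of_ord ht), map_one]
    obtain ⟨g, hg⟩ := hd.facts.inner (MulAut.conjNormal (cπ c t')) ⟨1, by
      rw [pow_one, ← map_pow, ht'2, map_one]⟩
    have hr : (g : cQ c)⁻¹ * cπ c t' ∈ centralizer (K : Set (cQ c)) := by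
      rw [mem_centralizer_iff]
      intro x hx
      have h := congrArg Subtype.val (DFunLike.congr_fun hg ⟨x, hx⟩)
      rw [MulAut.conjNormal_apply] at h
      change cπ c t' * x * (cπ c t')⁻¹ = (g : cQ c) * x * (g : cQ c)⁻¹ at h
      calc x * ((g : cQ c)⁻¹ * cπ c t') = (g : cQ c)⁻¹ * ((g : cQ c) * x * (g : cQ c)⁻¹) * cπ c t' := by group
        _ = _ := by rw [← h]; group
    obtain ⟨r, hrW, hrr⟩ := (ker_image hC hA hd hs.top).le hr
    have hrW' : (r : G) ∈ Qpart A c U := mem_subgroupOf.1 hrW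
    have hr2 : cπ c r ^ 2 = 1 := by
      rw [← map_pow, show r ^ 2 = 1 from Subtype.ext (W_sq hC hA hs hrW'), map_one]
    have hrK : ∀ x : K, Commute (x : cQ c) (cπ c r) := fun x => by
      rw [hrr]; exact mem_centralizer_iff.1 hr x x.2
    have htg : cπ c t' = (g : cQ c) * cπ c r := by rw [hrr, mul_inv_cancel_left]
    have hg2 : g ^ 2 = 1 := Subtype.ext (by
      rw [htg, (hrK g).mul_pow, hr2, mul_one] at ht'2
      rw [SubgroupClass.coe_pow]
      exact ht'2)
    have hg1 : g ≠ 1 := fun e => by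
      have h1 : t' = r := hinj (by rw [htg, e, OneMemClass.coe_one, one_mul])
      have h2 : t • base A = base A := by
        rw [show t = (r : G) from congrArg Subtype.val h1]
        exact smul_base_eq_iff.2 (hs.top.le hrW'.1).2
      exact ho' (htb.symm.trans h2)
    obtain ⟨κ, a, ha, hκ⟩ := exists_conj_Abar hd hg2
    obtain ⟨y, hy⟩ := hsur (κ : cQ c)
    have hty : t' = y * (a * r) * y⁻¹ := hinj (by
      rw [map_mul, map_mul, map_inv, map_mul, hy, ← hκ, htg, ← mul_assoc]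
      calc (g : cQ c) * cπ c r = (g : cQ c) * (κ * cπ c r * (κ : cQ c)⁻¹) := by
            rw [(hrK κ).eq, mul_inv_cancel_right]
        _ = _ := by group)
    have hr1 : (r : G) = 1 := by
      by_contra hr1
      obtain ⟨-, hb⟩ := W_bad hC hA hs hrW' hr1
      refine not_isA_of_bad hC (bad_mul hC hA hb (W_cent hC hA hs hrW') ha) ?_
      have h2 := htA.conj ((y : G)⁻¹)
      rw [inv_inv, show t = (y : G) * ((a : G) * r) * (y : G)⁻¹ from congrArg Subtype.val hty] at h2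
      simpa [mul_assoc] using h2
    have htK : cπ c t' = g := by
      rw [htg, show r = 1 from Subtype.ext hr1, map_one, mul_one]
    have hσg : cπ c (σ⁻¹ * t') = ((s0⁻¹ * g : K) : cQ c) := by
      rw [map_mul, map_inv, show cπ c σ = _ from hσ, htK]; rfl
    obtain ⟨-, hf2, -, hf4⟩ := hfr t' g htK
    have hgT : g • T = T' := hf2.1 htb
    have hgT' : g • T' = T := by rw [← hgT, ← mul_smul, ← sq, hg2, one_smul]
    refine ⟨(hT0 _).2 ⟨mul_mem (inv_mem σ.2) htc, s0⁻¹ * g, ⟨smul_eq_iff.1 ?_, smul_eq_iff.1 ?_⟩, hσg⟩,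
      hWK t' g htK⟩
    · rw [mul_smul, hgT, inv_smul_eq_iff, hs0T]
    · rw [mul_smul, hgT', inv_smul_eq_iff, hs0T']

variable {σ : G} {T0 : Subgroup G} (hT : TorusData A c U o σ T0)
include hT

omit hA in
theorem TorusData.mem_cH {e : G} (he : e ∈ T0) : e ∈ cH c := by
  obtain ⟨K, k, T, hd⟩ := exists_blockData hC hs.bad hs.cent
  exact mem_centralizer_singleton_iff.2 (mem_centralizer_iff.1 (hT.le_cent he) c (c_mem_Q hd hs.top)).symm

theorem TorusData.odd {e : G} (he : e ∈ T0) : Odd (orderOf e) := by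
  have h1 : orderOf e ∣ Nat.card A - 1 := by
    rw [← hT.card, ← Subgroup.orderOf_mk e he]
    exact orderOf_dvd_natCard _
  refine Odd.of_dvd_nat ?_ h1
  obtain ⟨n, hn⟩ := exists_card_eq_two_pow hC
  have hn0 : n ≠ 0 := fun e => by
    have := hC.pt.card
    rw [hn, e] at this
    omega
  rw [hn]
  exact Nat.Even.sub_odd (Nat.one_le_two_pow) ((Nat.even_pow' hn0).2 even_two) odd_one

theorem TorusData.exists_order {s : ℕ} (hs' : s.Prime) (hd : s ∣ Nat.card A - 1) :
    ∃ τ ∈ T0, orderOf τ = s := by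
  haveI := Fact.mk hs'
  obtain ⟨t, ht⟩ := exists_prime_orderOf_dvd_card' (G := T0) s (hT.card.symm ▸ hd)
  exact ⟨t, t.2, by rw [Subgroup.orderOf_coe, ht]⟩

/-- An element of odd prime order of `C(c)` fixing both points and fixed point free on `A` is in the torus. -/
theorem TorusData.eq_zpow (ho : o ∈ Fix A c) (ho' : o ≠ base A) {s : ℕ} (hsp : s.Prime) {τ e : G} (hτ : τ ∈ T0)
    (hτs : orderOf τ = s) (he : e ∈ cH c) (heM : e ∈ pM A) (heo : e • o = o) (hes : e ^ s = 1)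
    (hfe : ∀ a ∈ A, e * a * e⁻¹ = a → a = 1) : e ∈ zpowers τ := by
  obtain ⟨K, k, T, hd⟩ := exists_blockData hC hs.bad hs.cent
  have hτ1 : τ ≠ 1 := fun h => hsp.ne_one (by rw [← hτs, h, orderOf_one])
  have hτs' : τ ^ s = 1 := hτs ▸ pow_orderOf_eq_one τ
  obtain ⟨i, hi⟩ := hA.scalar s hsp τ (mem_N hs (hT.le_pM hτ)) e (mem_N hs heM)
    (by rw [hτs']; exact one_mem _) (by rw [hes]; exact one_mem _) (hT.fpf τ hτ hτ1) hfe
  set u := (τ ^ i)⁻¹ * e with hu
  obtain ⟨v, hv, hv'⟩ := exists_top_mul_core hC hA hd hs.top (x := u)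
    (mul_mem (inv_mem (zpow_mem (hT.mem_cH hC hs hτ) i)) he) hi
  rw [core_bot hC hs hs.bad, mem_bot, inv_mul_eq_one] at hv'
  subst hv'
  have hzo : (τ ^ i)⁻¹ • o = o := by
    have : τ ∈ MulAction.stabilizer G o := hT.fix τ hτ
    exact inv_mem (zpow_mem this i)
  have huW : u ∈ Qpart A c U :=
    S_fix hC hA hs (hs.le hv) ho ho' (by rw [hu, mul_smul, heo, hzo])
  have hcomm : Commute (τ ^ i) u :=
    (mem_centralizer_iff.1 (hT.le_cent (zpow_mem hτ i)) u huW).symm
  have he' : e = τ ^ i * u := by rw [hu, mul_inv_cancel_left]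
  have hu1 : u = 1 := by
    have h1 : u ^ s = 1 := by
      rwa [he', hcomm.mul_pow, ← zpow_natCast (τ ^ i), ← zpow_mul, mul_comm, zpow_mul, zpow_natCast,
        hτs', one_zpow, one_mul] at hes
    exact eq_one_of_S_odd (hs.le hv) (((hT.odd hC hA hs hτ).of_dvd_nat (hτs ▸ orderOf_dvd_of_pow_eq_one h1)))
  rw [he', hu1, mul_one]
  exact zpow_mem (mem_zpowers τ) i

end

end CfsgLib.ThreePrime.Block
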