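import Cfsg.Agent.Lib.ThreePrime.Block.Local

/-!
Owner: helper6.  Two-subgroups, points and torus lifts inside the centraliser of a bad involution.

* `BlockData`: `LocalData` with the Sylow subgroup `T` of the component over the image of `A`
* `IsTop`: a maximal two-subgroup `U` of `C(c) ∩ pM` over `A`; it is `P × Q`, with `Q` fixing the block
  pointwise and `P` the Suzuki two-group
* `exists_torus`, `exists_swap`: lifts of the torus normalising `U`, of involutions exchanging points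
-/

set_option autoImplicit false
set_option linter.all false

namespace CfsgLib.ThreePrime.Block

open Subgroup CfsgLib.Bender.Dichotomy
open scoped Pointwise commutatorElement

universe u

local instance factTwoBlockSylow : Fact (Nat.Prime 2) := ⟨Nat.prime_two⟩

variable {G : Type u} [Group G] [Finite G]

/-- The structure of a block with the base Sylow subgroup of the component. -/
structure BlockData (A : Subgroup G) (c : G) (K : Subgroup (cQ c)) (m : ℕ) (T : Sylow 2 K) : Prop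
    extends LocalData A c K m where
  omega : ∀ k : K, (k : cQ c) ∈ cimg c A ↔ k ∈ (T : Subgroup K) ∧ k ^ 2 = 1
  stab : ∀ k : K, (k : cQ c) ∈ cimg c (pM A) ↔ k ∈ normalizer ((T : Subgroup K) : Set K)

/-- The preimage of the component. -/
abbrev Ypre (c : G) (K : Subgroup (cQ c)) : Subgroup G := (K.comap (cπ c)).map (cH c).subtype

/-- The block kernel part of a subgroup. -/
abbrev Qpart (A : Subgroup G) (c : G) (U : Subgroup G) : Subgroup G := U ⊓ blockKer A c

/-- The component part of a subgroup. -/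
abbrev Ppart (c : G) (K : Subgroup (cQ c)) (U : Subgroup G) : Subgroup G := U ⊓ Ypre c K

/-- A maximal two-subgroup of `C(c) ∩ pM` containing `A`. -/
structure IsTop (A : Subgroup G) (c : G) (U : Subgroup G) : Prop where
  two : IsPGroup 2 U
  A_le : A ≤ U
  le : U ≤ cH c ⊓ pM A
  max : ∀ V : Subgroup G, IsPGroup 2 V → U ≤ V → V ≤ cH c ⊓ pM A → V = U

theorem exists_top {A : Subgroup G} {c : G} {U0 : Subgroup G} (h2 : IsPGroup 2 U0) (hA : A ≤ U0)
    (hle : U0 ≤ cH c ⊓ pM A) : ∃ U, U0 ≤ U ∧ IsTop A c U := by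
  obtain ⟨U, ⟨hU1, hU2, hU3⟩, hmax⟩ := (Set.toFinite
    {V : Subgroup G | IsPGroup 2 V ∧ U0 ≤ V ∧ V ≤ cH c ⊓ pM A}).exists_maximal ⟨U0, h2, le_rfl, hle⟩
  exact ⟨U, hU2, hU1, hA.trans hU2, hU3, fun V hV hUV hVle =>
    le_antisymm (hmax ⟨hV, hU2.trans hUV, hVle⟩ hUV) hUV⟩

variable {S : Sylow 2 G} {A : Subgroup G} {c : G} {K : Subgroup (cQ c)} {m : ℕ} {T : Sylow 2 K}

theorem exists_base_sylow (hC : Ctx S A) (hd : LocalData A c K m) :
    ∃ T : Sylow 2 K, BlockData A c K m T := by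
  classical
  have hp : IsPGroup 2 ((cimg c A).subgroupOf K) :=
    (((isPGroup_A hC).comap_subtype (K := cH c)).map (cπ c)).comap_subtype
  obtain ⟨T, hT⟩ := hp.exists_le_sylow
  have hsq : ∀ k : K, (k : cQ c) ∈ cimg c A → k ^ 2 = 1 := by
    intro k hk
    obtain ⟨a, ha, e⟩ := hk
    refine Subtype.ext ?_
    rw [SubgroupClass.coe_pow, ← e, ← map_pow,
      show a ^ 2 = 1 from Subtype.ext (hC.pt.elem.2 _ (mem_subgroupOf.1 ha)), map_one]
    rfl
  have hom : ∀ k : K, (k : cQ c) ∈ cimg c A ↔ k ∈ (T : Subgroup K) ∧ k ^ 2 = 1 := by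
    let f : (cimg c A).subgroupOf K → {k : K // k ∈ (T : Subgroup K) ∧ k ^ 2 = 1} :=
      fun k => ⟨k.1, hT k.2, hsq _ (mem_subgroupOf.1 k.2)⟩
    have hf : Function.Injective f := fun a b h => Subtype.ext (congrArg Subtype.val h : _)
    have hb := hf.bijective_of_nat_card_le (by
      rw [hd.facts.omega_card, Nat.card_congr (subgroupOfEquivOfLe hd.Abar_le).toEquiv,
        card_cimg (isPGroup_A hC) (A_le_cH hd.cent), hd.qA])
    intro k
    refine ⟨fun hk => ⟨hT (mem_subgroupOf.2 hk), hsq k hk⟩, fun hk => ?_⟩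
    obtain ⟨y, hy⟩ := hb.2 ⟨k, hk⟩
    rw [← show (y : K) = k from congrArg Subtype.val hy]
    exact mem_subgroupOf.1 y.2
  refine ⟨T, hd, hom, fun k => ?_⟩
  rw [hd.img]
  obtain ⟨t, ht, ht2⟩ := exists_four hd.facts T
  have ht' : ((t ^ 2 : K) : cQ c) ∈ cimg c A := (hom _).2 ⟨pow_mem ht 2, sq_sq hd.facts ht⟩
  constructor
  · intro hk
    refine smul_eq_iff.1 (eq_of_mem hd.facts (x := k * t ^ 2 * k⁻¹) (fun e => ht2 (conj_eq_one_iff.1 e))
      (conj_mem_sylow rfl (pow_mem ht 2)) ((hom _).1 ?_).1)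
    exact (mem_normalizer_iff.1 hk _).1 ht'
  · intro hk
    rw [mem_normalizer_iff]
    intro z
    have hmem : ∀ (k : K), k ∈ normalizer ((T : Subgroup K) : Set K) → ∀ z ∈ cimg c A,
        (k : cQ c) * z * (k : cQ c)⁻¹ ∈ cimg c A := by
      intro k hk z hz
      obtain ⟨h1, h2⟩ := (hom ⟨z, hd.Abar_le hz⟩).1 hz
      exact (hom (k * ⟨z, hd.Abar_le hz⟩ * k⁻¹)).2 ⟨(mem_normalizer_iff.1 hk _).1 h1, by
        rw [conj_pow, h2, mul_one, mul_inv_cancel]⟩
    refine ⟨hmem k hk z, fun h => ?_⟩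
    have h1 := hmem k⁻¹ (inv_mem hk) _ h
    rwa [Subgroup.coe_inv, inv_inv,
      show (k : cQ c)⁻¹ * ((k : cQ c) * z * (k : cQ c)⁻¹) * (k : cQ c) = z by group] at h1

theorem exists_blockData (hC : Ctx S A) (hb : Bad A c) (hc : c ∈ centralizer (A : Set G)) :
    ∃ (K : Subgroup (cQ c)) (m : ℕ) (T : Sylow 2 K), BlockData A c K m T := by
  obtain ⟨K, m, hd⟩ := exists_localData hC hb hc
  obtain ⟨T, hT⟩ := exists_base_sylow hC hd
  exact ⟨K, m, T, hT⟩

section Facts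

variable (hd : BlockData A c K m T)
include hd

/-- Every element of `C(c)` mod core is a component element times one fixing the base. -/
theorem exists_mul_stab (x : cQ c) : ∃ k : K, (k : cQ c)⁻¹ * x ∈ cimg c (pM A) := by
  haveI := hd.normal
  obtain ⟨y, hy, hy2⟩ := exists_four hd.facts T
  let y2 : K := y ^ 2
  have h2 : (x * (y2 : cQ c) * x⁻¹) ∈ K := hd.normal.conj_mem _ y2.2 x
  have hsq : (⟨_, h2⟩ : K) ^ 2 = 1 := Subtype.ext (by
    rw [SubgroupClass.coe_pow]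
    show (x * (y2 : cQ c) * x⁻¹) ^ 2 = 1
    rw [conj_pow, ← SubgroupClass.coe_pow, sq_sq hd.facts hy]
    simp)
  obtain ⟨T', hT'⟩ := exists_sylow hd.facts hsq
  obtain ⟨k, hk⟩ := MulAction.exists_smul_eq K T T'
  refine ⟨k, ?_⟩
  rw [hd.img]
  set μ := (k : cQ c)⁻¹ * x
  -- conjugation by `μ` fixes the Sylow subgroup
  let φ : MulAut K := MulAut.conjNormal μ
  obtain ⟨T'', hT''⟩ := (T.isPGroup'.map φ.toMonoidHom).exists_le_sylow
  have hne : φ y2 ≠ 1 := fun e => hy2 (φ.injective (e.trans (map_one φ).symm))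
  have hin : φ y2 ∈ (T : Subgroup K) := by
    have e : φ y2 = k⁻¹ * (⟨_, h2⟩ : K) * k := Subtype.ext (by
      rw [MulAut.conjNormal_apply]
      show μ * (y2 : cQ c) * μ⁻¹ = (k : cQ c)⁻¹ * (x * (y2 : cQ c) * x⁻¹) * k
      simp only [μ, mul_inv_rev, inv_inv, mul_assoc])
    rw [e]
    have h := conj_mem_sylow (show k⁻¹ • T' = T by rw [← hk, inv_smul_smul]) hT'
    rwa [inv_inv] at h
  have e : T'' = T := eq_of_mem hd.facts hne (hT'' ⟨y2, pow_mem hy 2, rfl⟩) hin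
  have hle : ∀ z ∈ cimg c A, μ * z * μ⁻¹ ∈ cimg c A := by
    intro z hz
    obtain ⟨h1, h3⟩ := (hd.omega ⟨z, hd.Abar_le hz⟩).1 hz
    have h5 : φ ⟨z, hd.Abar_le hz⟩ ∈ (T'' : Subgroup K) := hT'' ⟨_, h1, rfl⟩
    rw [e] at h5
    have h4 := (hd.omega (φ ⟨z, hd.Abar_le hz⟩)).2 ⟨h5, by rw [← map_pow, h3, map_one]⟩
    rwa [MulAut.conjNormal_apply] at h4
  exact mem_normalizer_of_cj (eq_of_le_of_card_ge (cj_le_iff.2 hle) (card_cj μ _).ge)

/-- The centraliser of the component fixes the block pointwise, and conversely. -/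
theorem centralizer_le_img : centralizer (K : Set (cQ c)) ≤ cimg c (pM A) := by
  intro z hz
  obtain ⟨k, hk⟩ := exists_mul_stab hd z
  have hk' : (k : cQ c) ∈ normalizer (cimg c A : Set (cQ c)) := by
    have hμ : (k : cQ c)⁻¹ * z ∈ normalizer (cimg c A : Set (cQ c)) := hd.img ▸ hk
    have hzN : z ∈ normalizer (cimg c A : Set (cQ c)) := mem_normalizer_of_cj (eq_of_le_of_card_ge
      (cj_le_iff.2 fun a ha => by
        rw [← mem_centralizer_iff.1 hz a (hd.Abar_le ha), mul_inv_cancel_right]; exact ha)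
      (card_cj z _).ge)
    have := mul_mem hzN (inv_mem hμ)
    rwa [mul_inv_rev, inv_inv, mul_inv_cancel_left] at this
  rw [← hd.img] at hk'
  have := mul_mem hk' hk
  rwa [mul_inv_cancel_left] at this

theorem mem_ker_iff {x : ↥(cH c)} :
    (x : G) ∈ blockKer A c ↔ cπ c x ∈ centralizer (K : Set (cQ c)) := by
  haveI := hd.normal
  have hfix : (x : G) ∈ blockKer A c ↔ ∀ g : ↥(cH c), cπ c (g⁻¹ * x * g) ∈ cimg c (pM A) := by
    rw [blockKer, mem_fixingSubgroup_iff]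
    constructor
    · intro h g
      have hg : (g : G) • base A ∈ Fix A c := by
        rw [MulAction.mem_fixedBy, ← mul_smul, ← mem_centralizer_singleton_iff.1 g.2, mul_smul,
          smul_base_eq_iff.2 hd.bad.mem]
      have h1 := h _ hg
      refine ⟨g⁻¹ * x * g, mem_subgroupOf.2 (smul_base_eq_iff.1 ?_), rfl⟩
      show ((g : G)⁻¹ * x * g) • base A = base A
      rw [mul_smul, mul_smul, h1, inv_smul_smul]
    · intro h p hp
      obtain ⟨g, hg, rfl⟩ := hd.bf.trans p hp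
      have h1 := smul_base_eq_iff.2 (mem_pM_of_image hd.bf (h ⟨g, hg⟩))
      have h2 : (g⁻¹ * (x : G) * g) • base A = base A := h1
      rw [mul_smul, mul_smul, inv_smul_eq_iff] at h2
      exact h2
  rw [hfix]
  constructor
  · intro h
    let N : Subgroup (cQ c) := (cimg c (pM A)).normalCore
    have hxN : cπ c x ∈ N := fun b => by
      obtain ⟨g, rfl⟩ := QuotientGroup.mk'_surjective _ b
      rw [← map_inv, ← map_mul, ← map_mul]
      have := h g⁻¹
      rwa [inv_inv] at this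
    -- a normal subgroup meeting the component trivially
    haveI := hd.facts.simple
    have hb : N.subgroupOf K = ⊥ := by
      refine (IsSimpleGroup.eq_bot_or_eq_top_of_normal _ inferInstance).resolve_right fun htop => ?_
      have hall : ∀ k : K, k ∈ normalizer ((T : Subgroup K) : Set K) := fun k =>
        (hd.stab k).1 (normalCore_le _ (mem_subgroupOf.1 (htop ▸ mem_top k)))
      have h1 := hd.facts.index T
      rw [index_eq_one.2 (eq_top_iff.2 fun k _ => hall k)] at h1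
      have : 0 < (2 ^ (2 * m + 1)) ^ 2 := by positivity
      omega
    rw [mem_centralizer_iff]
    intro k hk
    have h1 : ⁅k, cπ c x⁆ ∈ N ⊓ K := by
      refine ⟨?_, ?_⟩
      · rw [commutatorElement_def]
        exact mul_mem ((normalCore_normal _).conj_mem _ hxN k) (N.inv_mem hxN)
      · rw [commutatorElement_def, mul_assoc, mul_assoc, ← mul_assoc (cπ c x)]
        exact K.mul_mem hk (hd.normal.conj_mem _ (K.inv_mem hk) _)
    have h2 : (⟨_, h1.2⟩ : K) = 1 := by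
      have : (⟨_, h1.2⟩ : K) ∈ N.subgroupOf K := mem_subgroupOf.2 h1.1
      rwa [hb, mem_bot] at this
    exact commutatorElement_eq_one_iff_mul_comm.1 (congrArg Subtype.val h2)
  · intro h g
    refine centralizer_le_img hd ?_
    rw [map_mul, map_mul, map_inv]
    have hn : (centralizer (K : Set (cQ c))).Normal := inferInstance
    have := hn.conj_mem _ h (cπ c g)⁻¹
    rwa [inv_inv] at this

theorem normalizes_T {x : cQ c} (hx : x ∈ cimg c (pM A)) {k : K} (hk : k ∈ (T : Subgroup K))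
    {k' : K} (hk' : (k' : cQ c) = x * k * x⁻¹) : k' ∈ (T : Subgroup K) := by
  haveI := hd.normal
  let φ : MulAut K := MulAut.conjNormal x
  obtain ⟨T', hT'⟩ := (T.isPGroup'.map φ.toMonoidHom).exists_le_sylow
  obtain ⟨y, hy, hy2⟩ := exists_four hd.facts T
  have hxN : x ∈ normalizer (cimg c A : Set (cQ c)) := hd.img ▸ hx
  have hin : φ (y ^ 2) ∈ (T : Subgroup K) := ((hd.omega _).1 (by
    rw [MulAut.conjNormal_apply]
    exact (mem_normalizer_iff.1 hxN _).1 ((hd.omega _).2 ⟨pow_mem hy 2, sq_sq hd.facts hy⟩))).1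
  have e : T' = T := eq_of_mem hd.facts (fun h => hy2 (φ.injective (h.trans (map_one φ).symm)))
    (hT' ⟨y ^ 2, pow_mem hy 2, rfl⟩) hin
  have : φ k ∈ (T : Subgroup K) := by
    have h5 : φ k ∈ (T' : Subgroup K) := hT' ⟨k, hk, rfl⟩
    rwa [e] at h5
  rwa [show φ k = k' from Subtype.ext (by rw [MulAut.conjNormal_apply, hk'])] at this

/-- A two-element fixing the base is a product of an element of `T` and one centralising the component. -/
theorem exists_decomp {x : ↥(cH c)} (hxM : (x : G) ∈ pM A) {j : ℕ} (hx : (x : G) ^ 2 ^ j = 1) :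
    ∃ t ∈ (T : Subgroup K), (t : cQ c)⁻¹ * cπ c x ∈ centralizer (K : Set (cQ c)) := by
  haveI := hd.normal
  have hx' : cπ c x ^ 2 ^ j = 1 := by rw [← map_pow, show x ^ 2 ^ j = 1 from Subtype.ext hx, map_one]
  let φ : MulAut K := MulAut.conjNormal (cπ c x)
  obtain ⟨g, hg⟩ := hd.facts.inner φ ⟨j, by simp only [φ]; rw [← map_pow, hx', map_one]⟩
  have hz : (g : cQ c)⁻¹ * cπ c x ∈ centralizer (K : Set (cQ c)) := by
    rw [mem_centralizer_iff]
    intro k hk
    have h := congrArg Subtype.val (DFunLike.congr_fun hg ⟨k, hk⟩)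
    rw [MulAut.conjNormal_apply] at h
    change cπ c x * k * (cπ c x)⁻¹ = (g : cQ c) * k * (g : cQ c)⁻¹ at h
    calc k * ((g : cQ c)⁻¹ * cπ c x) = (g : cQ c)⁻¹ * ((g : cQ c) * k * (g : cQ c)⁻¹) * cπ c x := by group
      _ = _ := by rw [← h]; group
  refine ⟨g, ?_, hz⟩
  have hgN : g ∈ normalizer ((T : Subgroup K) : Set K) := by
    rw [← hd.stab]
    have := mul_mem (show cπ c x ∈ cimg c (pM A) from ⟨x, hxM, rfl⟩) (inv_mem (centralizer_le_img hd hz))
    rwa [mul_inv_rev, inv_inv, mul_inv_cancel_left] at this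
  have hg2 : g ^ 2 ^ j = 1 := by
    have h1 : MulAut.conj (g ^ 2 ^ j) = (1 : MulAut K) := by
      rw [map_pow, ← hg]; simp only [φ]; rw [← map_pow, hx', map_one]
    have h2 : g ^ 2 ^ j ∈ center K := mem_center_iff.2 fun k => by
      have := DFunLike.congr_fun h1 k
      rw [MulAut.conj_apply, MulAut.one_apply, mul_inv_eq_iff_eq_mul] at this
      exact this.symm
    haveI := hd.facts.simple
    rcases IsSimpleGroup.eq_bot_or_eq_top_of_normal (center K) inferInstance with e | e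
    · rwa [e, mem_bot] at h2
    · exfalso
      obtain ⟨y, hy, hy2⟩ := exists_four hd.facts T
      have h3 : ∀ k : K, k ∈ (T : Subgroup K) := fun k =>
        hd.facts.cent_invol T (y ^ 2) (pow_mem hy 2) (sq_sq hd.facts hy) hy2
          (mem_centralizer_singleton_iff.2 (mem_center_iff.1 (e ▸ mem_top (y ^ 2)) k))
      have h4 := hd.facts.index T
      rw [index_eq_one.2 (eq_top_iff.2 fun k _ => le_normalizer (h3 k))] at h4
      have : 0 < (2 ^ (2 * m + 1)) ^ 2 := by positivity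
      omega
  obtain ⟨T', hT'⟩ := (isPGroup_zpowers (G := K) hg2).exists_le_sylow
  exact mem_of_smul_eq (hT' (mem_zpowers g)) (smul_eq_iff.2 hgN)

/-- Component elements carrying the base to the same point. -/
theorem smul_base_eq_iff_K {x y : ↥(cH c)} {k k' : K} (hx : cπ c x = k) (hy : cπ c y = k') :
    (x : G) • base A = (y : G) • base A ↔ k • T = k' • T := by
  have h1 : (x : G) • base A = (y : G) • base A ↔ cπ c (x⁻¹ * y) ∈ cimg c (pM A) := by
    rw [smul_base, smul_base, QuotientGroup.eq]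
    exact ⟨fun h => ⟨x⁻¹ * y, mem_subgroupOf.2 h, rfl⟩, fun h => mem_pM_of_image hd.bf h⟩
  rw [h1, map_mul, map_inv, hx, hy, ← Subgroup.coe_inv, ← Subgroup.coe_mul, hd.stab,
    ← smul_eq_iff, mul_smul, inv_smul_eq_iff, eq_comm]

theorem exists_point {p : Pts A} (hp : p ∈ Fix A c) :
    ∃ (y : ↥(cH c)) (k : K), cπ c y = k ∧ (y : G) • base A = p := by
  obtain ⟨g, hg, rfl⟩ := hd.bf.trans p hp
  obtain ⟨k, hk⟩ := exists_mul_stab hd (cπ c ⟨g, hg⟩)
  obtain ⟨y, hy⟩ := QuotientGroup.mk'_surjective _ (k : cQ c)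
  refine ⟨y, k, hy, ?_⟩
  have h1 : (y⁻¹ * ⟨g, hg⟩ : ↥(cH c)) ∈ (pM A).subgroupOf (cH c) :=
    mem_subgroupOf.2 (mem_pM_of_image hd.bf (by rw [map_mul, map_inv, hy]; exact hk))
  have h2 := smul_base_eq_iff.2 (mem_subgroupOf.1 h1)
  rwa [Subgroup.coe_mul, Subgroup.coe_inv, mul_smul, inv_smul_eq_iff, eq_comm] at h2

theorem core_conj {x r : G} (hx : x ∈ cH c) (hr : r ∈ core c) : x * r * x⁻¹ ∈ core c := by
  obtain ⟨r', hr', rfl⟩ := hr
  refine ⟨⟨x, hx⟩ * r' * ⟨x, hx⟩⁻¹, ?_, rfl⟩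
  exact (inferInstance : (Cfsg.oddCore ↥(cH c)).Normal).conj_mem _ hr' _

omit hd in
theorem exists_two_lift {z : cQ c} {j : ℕ} (hz : z ^ 2 ^ j = 1) :
    ∃ x : ↥(cH c), cπ c x = z ∧ (x : G) ^ 2 ^ j = 1 := by
  obtain ⟨y, rfl⟩ := QuotientGroup.mk'_surjective _ z
  have h1 : y ^ 2 ^ j ∈ Cfsg.oddCore ↥(cH c) := by
    rw [← QuotientGroup.ker_mk' (Cfsg.oddCore ↥(cH c)), MonoidHom.mem_ker, map_pow]
    exact hz
  obtain ⟨b, hb⟩ : ∃ b, (y ^ 2 ^ j) ^ (2 * b + 1) = 1 := by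
    obtain ⟨b, hb⟩ : Odd (Nat.card (Cfsg.oddCore ↥(cH c))) := by
      have := CfsgLib.Bender.Dichotomy.odd_core2 c
      rwa [show Nat.card (core2 c) = Nat.card (Cfsg.oddCore ↥(cH c)) from
        card_map_of_injective (cH c).subtype_injective] at this
    refine ⟨b, ?_⟩
    have := congrArg Subtype.val (pow_card_eq_one' (x := (⟨_, h1⟩ : Cfsg.oddCore ↥(cH c))))
    rw [hb] at this
    simpa using this
  -- an odd exponent congruent to one
  obtain ⟨e, he⟩ := Nat.exists_mul_mod_eq_one_of_coprime (n := 2 * b + 1) (k := 2 ^ (j + 1))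
    (Nat.Coprime.pow_right _ (by rw [Nat.coprime_two_right]; exact odd_two_mul_add_one b))
    (Nat.one_lt_two_pow (by omega))
  refine ⟨y ^ ((2 * b + 1) * e), ?_, ?_⟩
  · rw [map_pow]
    conv_lhs => rw [← Nat.div_add_mod ((2 * b + 1) * e) (2 ^ (j + 1)), he.2, pow_succ (a := (cπ c y)),
      pow_mul, pow_succ 2, pow_mul _ (2 ^ j) 2, hz, one_pow, one_pow, one_mul]
  · have : (y ^ ((2 * b + 1) * e)) ^ 2 ^ j = 1 := by
      rw [← pow_mul, show (2 * b + 1) * e * 2 ^ j = 2 ^ j * (2 * b + 1) * e by ring, pow_mul, pow_mul,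
        hb, one_pow]
    exact congrArg Subtype.val this

/-- Involutions of the component lift to involutions exchanging the same points. -/
theorem exists_invol_lift {s : K} (hs : orderOf s = 2) :
    ∃ x : ↥(cH c), cπ c x = s ∧ orderOf (x : G) = 2 := by
  obtain ⟨x, hx, hx2⟩ := exists_two_lift (z := (s : cQ c)) (j := 1) (by
    rw [pow_one, ← SubgroupClass.coe_pow, sq_of_ord hs]; rfl)
  refine ⟨x, hx, orderOf_eq_prime (by simpa using hx2) fun e => ?_⟩
  have h1 : s = 1 := Subtype.ext (by rw [← hx, show x = 1 from Subtype.ext e, map_one]; rfl)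
  rw [h1, orderOf_one] at hs
  omega

end Facts

section Top

variable (hC : Ctx S A) (hd : BlockData A c K m T) {U : Subgroup G} (hU : IsTop A c U)
include hd hU

theorem top_mem_cH {u : G} (hu : u ∈ U) : u ∈ cH c := (hU.le hu).1

theorem c_mem_top : c ∈ U := by
  have hc : zpowers c ≤ centralizer (U : Set G) := zpowers_le.2 (mem_centralizer_iff.2 fun u hu =>
    mem_centralizer_singleton_iff.1 (top_mem_cH hd hU hu))
  have hp : IsPGroup 2 (U ⊔ zpowers c : Subgroup G) :=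
    hU.two.to_sup_of_normal_left' (isPGroup_of_invol hd.bad.ord)
      (hc.trans (centralizer_le_normalizer _))
  have := hU.max _ hp le_sup_left (sup_le hU.le (zpowers_le.2
    ⟨mem_centralizer_singleton_iff.2 rfl, hd.bad.mem⟩))
  exact this ▸ mem_sup_right (mem_zpowers c)

theorem c_mem_Q : c ∈ Qpart A c U :=
  ⟨c_mem_top hd hU, (mem_fixingSubgroup_iff _).2 fun p hp => hp⟩

theorem P_inf_Q {x : G} (hP : x ∈ Ppart c K U) (hQ : x ∈ Qpart A c U) : x = 1 := by
  obtain ⟨hxU, y, hy, rfl⟩ := hP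
  have h1 : cπ c y ∈ centralizer (K : Set (cQ c)) := (mem_ker_iff hd).1 hQ.2
  have h2 : (⟨cπ c y, hy⟩ : K) ∈ center K := mem_center_iff.2 fun k =>
    Subtype.ext (mem_centralizer_iff.1 h1 k k.2)
  haveI := hd.facts.simple
  obtain ⟨j, hj⟩ := exists_pow_two hU.two hxU
  refine eq_one_of_image (k := j) hj ?_
  rcases IsSimpleGroup.eq_bot_or_eq_top_of_normal (center K) inferInstance with e | e
  · rw [e, mem_bot] at h2; exact congrArg Subtype.val h2
  · exfalso
    obtain ⟨y', hy', hy2⟩ := exists_four hd.facts T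
    have h4 := hd.facts.index T
    rw [index_eq_one.2 (eq_top_iff.2 fun k _ => le_normalizer (hd.facts.cent_invol T (y' ^ 2)
      (pow_mem hy' 2) (sq_sq hd.facts hy') hy2
      (mem_centralizer_singleton_iff.2 (mem_center_iff.1 (e ▸ mem_top (y' ^ 2)) k))))] at h4
    have : 0 < (2 ^ (2 * m + 1)) ^ 2 := by positivity
    omega

theorem P_comm_Q {p q : G} (hp : p ∈ Ppart c K U) (hq : q ∈ Qpart A c U) : p * q = q * p := by
  obtain ⟨hpU, y, hy, rfl⟩ := hp
  let q' : ↥(cH c) := ⟨q, top_mem_cH hd hU hq.1⟩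
  have h1 : cπ c q' ∈ centralizer (K : Set (cQ c)) := (mem_ker_iff hd).1 hq.2
  have hmem : (y : G) * q * (y : G)⁻¹ * q⁻¹ ∈ U :=
    mul_mem (mul_mem (mul_mem hpU hq.1) (inv_mem hpU)) (inv_mem hq.1)
  obtain ⟨j, hj⟩ := exists_pow_two hU.two hmem
  have := eq_one_of_image (x := y * q' * y⁻¹ * q'⁻¹) (k := j) hj (by
    rw [map_mul, map_mul, map_mul, map_inv, map_inv, mem_centralizer_iff.1 h1 _ hy,
      mul_inv_cancel_right, mul_inv_cancel])
  exact mul_inv_eq_iff_eq_mul.1 (mul_inv_eq_one.1 this)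

/-- The image of a top group contains `T`. -/
theorem exists_P_lift {t : K} (ht : t ∈ (T : Subgroup K)) :
    ∃ (p : ↥(cH c)), (p : G) ∈ Ppart c K U ∧ cπ c p = t := by
  let V : Subgroup (cQ c) := cimg c U
  let TT : Subgroup (cQ c) := (T : Subgroup K).map K.subtype
  have hVN : V ≤ normalizer (TT : Set (cQ c)) := by
    rintro _ ⟨x, hx, rfl⟩
    have hin : cπ c x ∈ cimg c (pM A) := ⟨x, mem_subgroupOf.2 (hU.le (mem_subgroupOf.1 hx)).2, rfl⟩
    haveI := hd.normal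
    refine mem_normalizer_of_cj (eq_of_le_of_card_ge (cj_le_iff.2 ?_) (card_cj _ _).ge)
    rintro _ ⟨k, hk, rfl⟩
    exact ⟨⟨_, hd.normal.conj_mem _ k.2 _⟩, normalizes_T hd hin hk rfl, rfl⟩
  have hp : IsPGroup 2 (V ⊔ TT : Subgroup (cQ c)) :=
    ((hU.two.comap_subtype).map (cπ c)).to_sup_of_normal_right' (T.isPGroup'.map _) hVN
  let W : Subgroup ↥(cH c) := (V ⊔ TT).comap (cπ c)
  have hWM : ∀ x ∈ W, (x : G) ∈ pM A := by
    intro x hx
    refine mem_pM_of_image hd.bf ?_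
    have : V ⊔ TT ≤ cimg c (pM A) := sup_le
      (map_mono fun y hy => mem_subgroupOf.2 (hU.le (mem_subgroupOf.1 hy)).2) (by
        rintro _ ⟨k, hk, rfl⟩
        exact (hd.stab k).2 (le_normalizer hk))
    exact this hx
  have hUW : U.subgroupOf (cH c) ≤ W := fun x hx => mem_sup_left ⟨x, hx, rfl⟩
  obtain ⟨U2, hU2⟩ := ((hU.two.comap_subtype (K := cH c)).comap_subtype (K := W)).exists_le_sylow
  let U3 : Subgroup G := ((U2 : Subgroup W).map W.subtype).map (cH c).subtype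
  have hU3 : U3 = U := by
    refine hU.max U3 ((U2.isPGroup'.map _).map _) (fun u hu => ?_) ?_
    · exact ⟨⟨u, top_mem_cH hd hU hu⟩, ⟨⟨⟨u, top_mem_cH hd hU hu⟩, hUW hu⟩, hU2 hu, rfl⟩, rfl⟩
    · rintro _ ⟨x, ⟨w, -, rfl⟩, rfl⟩
      exact ⟨(w : ↥(cH c)).2, hWM _ w.2⟩
  let f : W →* ↥(V ⊔ TT) := ((cπ c).comp W.subtype).codRestrict _ fun w => w.2
  have hf : Function.Surjective f := fun z => by
    obtain ⟨x, hx⟩ := QuotientGroup.mk'_surjective _ (z : cQ c)
    exact ⟨⟨x, show cπ c x ∈ V ⊔ TT from hx ▸ z.2⟩, Subtype.ext hx⟩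
  have htop : (U2.mapSurjective hf : Subgroup ↥(V ⊔ TT)) = ⊤ :=
    ((U2.mapSurjective hf).is_maximal' (hp.to_subgroup ⊤ |>.of_equiv topEquiv |>.to_subgroup _)
      le_top).symm
  have hmem : (⟨(t : cQ c), mem_sup_right ⟨t, ht, rfl⟩⟩ : ↥(V ⊔ TT)) ∈
      (U2.mapSurjective hf : Subgroup ↥(V ⊔ TT)) := htop ▸ mem_top _
  obtain ⟨w, hw, hwt⟩ := hmem
  have hwU : ((w : ↥(cH c)) : G) ∈ U := hU3 ▸ ⟨_, ⟨w, hw, rfl⟩, rfl⟩
  have e : cπ c (w : ↥(cH c)) = t := congrArg Subtype.val hwt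
  exact ⟨w, ⟨hwU, w, show cπ c (w : ↥(cH c)) ∈ K from e.symm ▸ t.2, rfl⟩, e⟩

theorem exists_P_mul_Q {u : G} (hu : u ∈ U) :
    ∃ p ∈ Ppart c K U, ∃ q ∈ Qpart A c U, u = p * q := by
  obtain ⟨j, hj⟩ := exists_pow_two hU.two hu
  let x : ↥(cH c) := ⟨u, top_mem_cH hd hU hu⟩
  obtain ⟨t, ht, hz⟩ := exists_decomp hd (x := x) (hU.le hu).2 hj
  obtain ⟨p, hp, hpt⟩ := exists_P_lift hd hU ht
  refine ⟨p, hp, (p : G)⁻¹ * u, ⟨U.mul_mem (U.inv_mem hp.1) hu, ?_⟩, (mul_inv_cancel_left _ _).symm⟩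
  refine (mem_ker_iff hd (x := p⁻¹ * x)).2 ?_
  rw [map_mul, map_inv, hpt]
  exact hz

theorem A_le_P : A ≤ Ppart c K U := fun a ha =>
  ⟨hU.A_le ha, ⟨a, A_le_cH hd.cent ha⟩, hd.Abar_le ⟨_, mem_subgroupOf.2 ha, rfl⟩, rfl⟩

theorem P_image {p : ↥(cH c)} (hp : (p : G) ∈ Ppart c K U) :
    ∃ h : cπ c p ∈ K, (⟨cπ c p, h⟩ : K) ∈ (T : Subgroup K) := by
  obtain ⟨hpU, y, hy, e⟩ := hp
  obtain rfl : y = p := Subtype.ext e
  obtain ⟨j, hj⟩ := exists_pow_two hU.two hpU
  obtain ⟨t, ht, hz⟩ := exists_decomp hd (hU.le hpU).2 hj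
  refine ⟨hy, ?_⟩
  have hc : t⁻¹ * ⟨cπ c y, hy⟩ ∈ center K := mem_center_iff.2 fun k =>
    Subtype.ext (mem_centralizer_iff.1 hz k k.2)
  haveI := hd.facts.simple
  rcases IsSimpleGroup.eq_bot_or_eq_top_of_normal (center K) inferInstance with e | e
  · rw [e, mem_bot, inv_mul_eq_one] at hc
    exact hc ▸ ht
  · exfalso
    obtain ⟨y', hy', hy2⟩ := exists_four hd.facts T
    have h4 := hd.facts.index T
    rw [index_eq_one.2 (eq_top_iff.2 fun k _ => le_normalizer (hd.facts.cent_invol T (y' ^ 2)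
      (pow_mem hy' 2) (sq_sq hd.facts hy') hy2
      (mem_centralizer_singleton_iff.2 (mem_center_iff.1 (e ▸ mem_top (y' ^ 2)) k))))] at h4
    have : 0 < (2 ^ (2 * m + 1)) ^ 2 := by positivity
    omega

theorem card_P : Nat.card (Ppart c K U) = Nat.card A ^ 2 := by
  rw [hd.qA, ← hd.facts.sylow_card T]
  refine Nat.card_congr (Equiv.ofBijective (fun p => ⟨⟨cπ c ⟨p, top_mem_cH hd hU p.2.1⟩,
      (P_image hd hU (p := ⟨p, top_mem_cH hd hU p.2.1⟩) p.2).1⟩,
      (P_image hd hU (p := ⟨p, top_mem_cH hd hU p.2.1⟩) p.2).2⟩) ⟨?_, ?_⟩)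
  · intro a b e
    have e' := congrArg (fun z => ((z.1 : K) : cQ c)) e
    simp only at e'
    have hmem : (a : G)⁻¹ * b ∈ U := mul_mem (inv_mem a.2.1) b.2.1
    obtain ⟨j, hj⟩ := exists_pow_two hU.two hmem
    exact Subtype.ext (inv_mul_eq_one.1 (eq_one_of_image
      (x := (⟨a, top_mem_cH hd hU a.2.1⟩ : ↥(cH c))⁻¹ * ⟨b, top_mem_cH hd hU b.2.1⟩) (k := j) hj
      (by rw [map_mul, map_inv, e', inv_mul_cancel])))
  · rintro ⟨t, ht⟩
    obtain ⟨p, hp, hpt⟩ := exists_P_lift hd hU ht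
    exact ⟨⟨p, hp⟩, Subtype.ext (Subtype.ext hpt)⟩

include hC in
theorem P_sq_iff {p : G} (hp : p ∈ Ppart c K U) : p ^ 2 = 1 ↔ p ∈ A := by
  refine ⟨fun h => ?_, fun h => hC.pt.elem.2 p h⟩
  let x : ↥(cH c) := ⟨p, top_mem_cH hd hU hp.1⟩
  obtain ⟨hK, hT⟩ := P_image hd hU (p := x) hp
  obtain ⟨a, ha, e⟩ := (hd.omega _).2 ⟨hT, Subtype.ext (by
    rw [SubgroupClass.coe_pow]
    show cπ c x ^ 2 = 1
    rw [← map_pow, show x ^ 2 = 1 from Subtype.ext h, map_one])⟩
  obtain ⟨j, hj⟩ := exists_pow_two hU.two (mul_mem (inv_mem (hU.A_le (mem_subgroupOf.1 ha))) hp.1)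
  have := eq_one_of_image (x := a⁻¹ * x) (k := j) hj (by rw [map_mul, map_inv, e, inv_mul_cancel])
  have h2 : (a : G) = p := inv_mul_eq_one.1 this
  exact h2 ▸ mem_subgroupOf.1 ha

include hC in
theorem A_central {a u : G} (ha : a ∈ A) (hu : u ∈ U) : a * u = u * a := by
  obtain ⟨p, hp, q, hq, rfl⟩ := exists_P_mul_Q hd hU hu
  have haP := A_le_P hd hU ha
  have h1 : a * p = p * a := by
    let x : ↥(cH c) := ⟨a, A_le_cH hd.cent ha⟩
    let y : ↥(cH c) := ⟨p, top_mem_cH hd hU hp.1⟩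
    obtain ⟨hxK, hxT⟩ := P_image hd hU (p := x) haP
    obtain ⟨hyK, hyT⟩ := P_image hd hU (p := y) hp
    have hcomm := congrArg Subtype.val (hd.facts.omega_central T _ hxT ((hd.omega _).1
      ⟨x, mem_subgroupOf.2 ha, rfl⟩).2 _ hyT).eq
    obtain ⟨j, hj⟩ := exists_pow_two hU.two (show (p * a)⁻¹ * (a * p) ∈ U from
      mul_mem (inv_mem (mul_mem hp.1 (hU.A_le ha))) (mul_mem (hU.A_le ha) hp.1))
    exact (inv_mul_eq_one.1 (eq_one_of_image (x := (y * x)⁻¹ * (x * y)) (k := j) hj (by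
      rw [map_mul, map_inv, map_mul, map_mul]
      exact inv_mul_eq_one.2 hcomm.symm))).symm
  rw [← mul_assoc, h1, mul_assoc, P_comm_Q hd hU haP hq, ← mul_assoc]

include hC in
theorem P_roots {p p' : G} (hp : p ∈ Ppart c K U) (hp' : p' ∈ Ppart c K U) (h : p ^ 2 = p' ^ 2)
    (h1 : p ^ 2 ≠ 1) : p⁻¹ * p' ∈ A := by
  refine (P_sq_iff hC hd hU (mul_mem (inv_mem hp) hp')).1 ?_
  let x : ↥(cH c) := ⟨p, top_mem_cH hd hU hp.1⟩
  let y : ↥(cH c) := ⟨p', top_mem_cH hd hU hp'.1⟩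
  obtain ⟨hxK, hxT⟩ := P_image hd hU (p := x) hp
  obtain ⟨hyK, hyT⟩ := P_image hd hU (p := y) hp'
  have e : x ^ 2 = y ^ 2 := Subtype.ext h
  have hr := congrArg Subtype.val (hd.facts.roots T _ hxT _ hyT
    (Subtype.ext (show cπ c x ^ 2 = cπ c y ^ 2 by rw [← map_pow, e, map_pow]))
    (fun he => h1 (by
      obtain ⟨j, hj⟩ := exists_pow_two hU.two (pow_mem hp.1 2)
      exact eq_one_of_image (x := x ^ 2) (k := j) hj (by rw [map_pow]; exact congrArg Subtype.val he))))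
  obtain ⟨j, hj⟩ := exists_pow_two hU.two (pow_mem (U.mul_mem (U.inv_mem hp.1) hp'.1) 2)
  exact eq_one_of_image (x := (x⁻¹ * y) ^ 2) (k := j) hj (by
    rw [map_pow, map_mul, map_inv]; exact hr)

/-- `P` fixes no point of the block other than the base. -/
theorem P_semiregular {p : G} (hp : p ∈ Ppart c K U) {x : Pts A} (hx : x ∈ Fix A c)
    (hxb : x ≠ base A) (hfix : p • x = x) : p = 1 := by
  obtain ⟨y, k, hy, rfl⟩ := exists_point hd hx
  let p' : ↥(cH c) := ⟨p, top_mem_cH hd hU hp.1⟩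
  obtain ⟨hpK, hpT⟩ := P_image hd hU (p := p') hp
  have h1 : ((p' * y : ↥(cH c)) : G) • base A = (y : G) • base A := by
    rw [Subgroup.coe_mul, mul_smul]; exact hfix
  have h2 := (smul_base_eq_iff_K hd (k := ⟨cπ c p', hpK⟩ * k) (k' := k)
    (by rw [map_mul, hy]; rfl) hy).1 h1
  rw [mul_smul] at h2
  have hne : T ≠ k • T := fun e => hxb (by
    have h3 := (smul_base_eq_iff_K hd (x := y) (y := 1) (k := k) (k' := 1) hy
      (by rw [map_one]; rfl)).2 (by rw [one_smul]; exact e.symm)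
    rwa [OneMemClass.coe_one, one_smul] at h3)
  have h4 : cπ c p' = 1 := congrArg Subtype.val (eq_one_of_smul_eq hd.facts hne hpT h2)
  obtain ⟨j, hj⟩ := exists_pow_two hU.two hp.1
  exact eq_one_of_image (x := p') hj h4

/-- A lift of a two point stabiliser element normalising `U` and centralising its kernel part. -/
theorem exists_torus {t : K} (ht : t ∈ normalizer ((T : Subgroup K) : Set K)) :
    ∃ τ : ↥(cH c), (τ : G) ∈ pM A ∧ cπ c τ = t ∧ (τ : G) ∈ normalizer (U : Set G) ∧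
      ∀ q ∈ Qpart A c U, (τ : G) * q = q * τ := by
  obtain ⟨x, hx⟩ := QuotientGroup.mk'_surjective _ (t : cQ c)
  have hxM : (x : G) ∈ pM A := mem_pM_of_image hd.bf (hx.symm ▸ (hd.stab t).2 ht)
  let W : Subgroup G := U ⊔ core c
  have hnorm : U ≤ normalizer (core c : Set G) := fun u hu => by
    refine mem_normalizer_of_cj (eq_of_le_of_card_ge (cj_le_iff.2 fun r hr => ?_) (card_cj _ _).ge)
    exact core_conj hd (top_mem_cH hd hU hu) hr
  -- the conjugate has the same image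
  have hin : ∀ u ∈ U, (x : G) * u * (x : G)⁻¹ ∈ W := by
    intro u hu
    obtain ⟨p, hp, q, hq, rfl⟩ := exists_P_mul_Q hd hU hu
    let p' : ↥(cH c) := ⟨p, top_mem_cH hd hU hp.1⟩
    let q' : ↥(cH c) := ⟨q, top_mem_cH hd hU hq.1⟩
    obtain ⟨hpK, hpT⟩ := P_image hd hU (p := p') hp
    obtain ⟨p₂, hp₂, hpt⟩ := exists_P_lift hd hU ((mem_normalizer_iff.1 ht _).1 hpT)
    have e : cπ c ((p₂ * q')⁻¹ * (x * (p' * q') * x⁻¹)) = 1 := by
      have hq1 := mem_centralizer_iff.1 ((mem_ker_iff hd (x := q')).1 hq.2) (t : cQ c) t.2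
      simp only [map_mul, map_inv, hpt, hx, Subgroup.coe_mul, Subgroup.coe_inv]
      rw [inv_mul_eq_one]
      have hq2 : cπ c q' * (t : cQ c)⁻¹ = (t : cQ c)⁻¹ * cπ c q' :=
        (Commute.inv_right (show Commute (cπ c q') (t : cQ c) from hq1.symm)).eq
      simp only [mul_assoc]
      rw [hq2]
    have hr : ((p₂ * q' : ↥(cH c)) : G)⁻¹ * ((x : G) * (p * q) * (x : G)⁻¹) ∈ core c :=
      mem_oddCore_iff.1 ((QuotientGroup.eq_one_iff _).1 e)
    have := mul_mem (mem_sup_left (T := core c) (mul_mem hp₂.1 hq.1 : ((p₂ * q' : ↥(cH c)) : G) ∈ U))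
      (mem_sup_right hr)
    simp only [Subgroup.coe_mul, mul_inv_cancel_left] at this
    exact this
  have hWle : W ≤ cH c ⊓ pM A := sup_le hU.le (le_inf (core2_le c) (core_le_pM hd.bf))
  have hcard : ∀ V : Subgroup G, IsPGroup 2 V → U ≤ V → V ≤ W → V = U := fun V h1 h2 h3 =>
    hU.max V h1 h2 (h3.trans hWle)
  let SU : Sylow 2 W :=
    { toSubgroup := U.subgroupOf W
      isPGroup' := hU.two.comap_subtype
      is_maximal' := fun {V} hV hle => by
        have e := hcard (V.map W.subtype) (hV.map _) (fun u hu => ⟨⟨u, mem_sup_left hu⟩, hle hu, rfl⟩)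
          (map_subtype_le V)
        refine le_antisymm (fun v hv => mem_subgroupOf.2 (e ▸ mem_map_of_mem W.subtype hv)) hle }
  let U' : Subgroup G := cj (x : G) U
  obtain ⟨S2, hS2⟩ := ((hU.two.map (MulAut.conj (x : G)).toMonoidHom).comap_subtype (K := W)).exists_le_sylow
  obtain ⟨w, hw⟩ := MulAction.exists_smul_eq W S2 SU
  -- the conjugating element may be taken in the core
  obtain ⟨u1, hu1, r, hr, hwe⟩ : ∃ u1 ∈ U, ∃ r ∈ core c, (w : G) = u1 * r := by
    have h := w.2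
    rw [← SetLike.mem_coe, coe_mul_of_left_le_normalizer_right _ _ hnorm, Set.mem_mul] at h
    obtain ⟨a, ha, b, hb, e⟩ := h
    exact ⟨a, ha, b, hb, e.symm⟩
  have hkey : ∀ u ∈ U, r * ((x : G) * u * (x : G)⁻¹) * r⁻¹ ∈ U := by
    intro u hu
    have h1 : w * (⟨_, hin u hu⟩ : W) * w⁻¹ ∈ (SU : Subgroup W) := by
      rw [← hw, Sylow.coe_subgroup_smul]
      exact ⟨_, hS2 (mem_subgroupOf.2 ⟨u, hu, rfl⟩), rfl⟩
    have h2 : (w : G) * ((x : G) * u * (x : G)⁻¹) * (w : G)⁻¹ ∈ U := mem_subgroupOf.1 h1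
    rw [hwe] at h2
    have := mul_mem (mul_mem (inv_mem hu1) h2) hu1
    convert this using 1
    group
  let r' : ↥(cH c) := ⟨r, core2_le c hr⟩
  have hτ : cπ c (r' * x) = t := by
    rw [map_mul, show cπ c r' = 1 from (QuotientGroup.eq_one_iff _).2 (mem_oddCore_iff.2 hr), one_mul, hx]
  have hτN : ((r' * x : ↥(cH c)) : G) ∈ normalizer (U : Set G) :=
    mem_normalizer_of_cj (eq_of_le_of_card_ge (cj_le_iff.2 fun u hu => by
      show r * (x : G) * u * (r * (x : G))⁻¹ ∈ U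
      convert hkey u hu using 1
      group) (card_cj _ _).ge)
  refine ⟨r' * x, mul_mem (core_le_pM hd.bf hr) hxM, hτ, hτN, fun q hq => ?_⟩
  let q' : ↥(cH c) := ⟨q, top_mem_cH hd hU hq.1⟩
  have hmem : ((r' * x * q' * (r' * x)⁻¹ * q'⁻¹ : ↥(cH c)) : G) ∈ U :=
    mul_mem ((mem_normalizer_iff.1 hτN q).1 hq.1) (inv_mem hq.1)
  obtain ⟨j, hj⟩ := exists_pow_two hU.two hmem
  have := eq_one_of_image (x := r' * x * q' * (r' * x)⁻¹ * q'⁻¹) (k := j) hj (by
    simp only [map_mul, map_inv]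
    rw [← map_mul, hτ, mem_centralizer_iff.1 ((mem_ker_iff hd (x := q')).1 hq.2) _ t.2,
      mul_inv_cancel_right, mul_inv_cancel])
  exact mul_inv_eq_iff_eq_mul.1 (mul_inv_eq_one.1 this)

end Top

end CfsgLib.ThreePrime.Block
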