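import Cfsg.Prelude.Def_Sz
import Mathlib.GroupTheory.Sylow
import Mathlib.GroupTheory.OrderOfElement

/-!
Owner: helper6.  The facts about Suzuki groups used in the block analysis of simple 3'-groups.
-/

set_option autoImplicit false
set_option linter.all false

namespace CfsgLib.ThreePrime.Block

open Subgroup

universe u

/-- `q = 2 ^ (2 * m + 1)`; `T` runs over the Sylow two-subgroups. -/
structure SzFacts (X : Type u) [Group X] [Finite X] (m : ℕ) : Prop where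
  one_le : 1 ≤ m
  simple : IsSimpleGroup X
  card : Nat.card X = (2 ^ (2 * m + 1)) ^ 2 * ((2 ^ (2 * m + 1)) ^ 2 + 1) * (2 ^ (2 * m + 1) - 1)
  sylow_card : ∀ T : Sylow 2 X, Nat.card T = (2 ^ (2 * m + 1)) ^ 2
  exp : ∀ T : Sylow 2 X, ∀ x ∈ (T : Subgroup X), x ^ 4 = 1
  omega_card : ∀ T : Sylow 2 X,
    Nat.card {x : X // x ∈ (T : Subgroup X) ∧ x ^ 2 = 1} = 2 ^ (2 * m + 1)
  omega_central : ∀ T : Sylow 2 X, ∀ x ∈ (T : Subgroup X), x ^ 2 = 1 →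
    ∀ y ∈ (T : Subgroup X), Commute x y
  cent_invol : ∀ T : Sylow 2 X, ∀ x ∈ (T : Subgroup X), x ^ 2 = 1 → x ≠ 1 →
    centralizer ({x} : Set X) ≤ (T : Subgroup X)
  ti : ∀ T T' : Sylow 2 X, T ≠ T' → (T : Subgroup X) ⊓ (T' : Subgroup X) = ⊥
  roots : ∀ T : Sylow 2 X, ∀ x ∈ (T : Subgroup X), ∀ y ∈ (T : Subgroup X),
    x ^ 2 = y ^ 2 → x ^ 2 ≠ 1 → (x⁻¹ * y) ^ 2 = 1
  cent_four : ∀ T : Sylow 2 X, ∀ x ∈ (T : Subgroup X), x ^ 2 ≠ 1 →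
    Nat.card ((T : Subgroup X) ⊓ centralizer ({x} : Set X) : Subgroup X) = 2 * 2 ^ (2 * m + 1)
  index : ∀ T : Sylow 2 X,
    (normalizer ((T : Subgroup X) : Set X)).index = (2 ^ (2 * m + 1)) ^ 2 + 1
  trans : ∀ T : Sylow 2 X, ∀ x ∈ (T : Subgroup X), ∀ y ∈ (T : Subgroup X),
    x ^ 2 = 1 → x ≠ 1 → y ^ 2 = 1 → y ≠ 1 →
      ∃ g ∈ normalizer ((T : Subgroup X) : Set X), g * x * g⁻¹ = y
  inner : ∀ φ : MulAut X, (∃ k : ℕ, φ ^ 2 ^ k = 1) → ∃ g : X, φ = MulAut.conj g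
  big : ∃ x : X, 2 ^ (2 * m + 1) < orderOf x

/-- Slice A: the Suzuki groups have these properties. -/
def SzStep : Prop :=
  ∀ (X : Type u) [Group X] [Finite X], Cfsg.Lie.IsoSuzuki X → ∃ m, SzFacts X m

end CfsgLib.ThreePrime.Block
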