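import Cfsg.Agent.Lib.ThreePrime.Block.Full

/-!
Owner: helper6.  The translations of the kernel part of a maximal top group.

* `Q_sq`, `card_Q_le`: the kernel part is elementary of order at most `q`
* `trans`, `mover_mem_trans`, `exists_trans`: translations by every element of `A`
* `bad_mul`, `bad_of_not_isA`, `top_isMax`: consequences for all bad involutions
-/

set_option autoImplicit false
set_option linter.all false

namespace CfsgLib.ThreePrime.Block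

open Subgroup CfsgLib.Bender.Dichotomy CfsgLib.Signalizer

universe u

local instance factTwoBlockTrans : Fact (Nat.Prime 2) := ⟨Nat.prime_two⟩

variable {G : Type u} [Group G] [Finite G] {S : Sylow 2 G} {A : Subgroup G} {m l : ℕ}
  {c : G} {U : Subgroup G} {K : Subgroup (cQ c)} {k : ℕ} {T : Sylow 2 K}

section Mover

variable (hC : Ctx S A) (hA : Aut A m l) (hd : BlockData A c K k T) (hU : IsMax A c U) {u : G}
  (hu : Mover A c U u)
include hC hA hd hU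

omit hA in
theorem A_inf_Q {a : G} (ha : a ∈ A) (hQ : a ∈ Qpart A c U) : a = 1 :=
  P_inf_Q hd hU.toIsTop (A_le_P hd hU.toIsTop ha) hQ

omit hA in
theorem Q_conj {q v : G} (hq : q ∈ Qpart A c U) (hv : v ∈ U) : v * q * v⁻¹ ∈ Qpart A c U :=
  ⟨U.mul_mem (U.mul_mem hv hq.1) (U.inv_mem hv),
    conj_mem_ker (stabilises_of_le (hU.le.trans inf_le_left)) hv hq.2⟩

omit hA in
/-- The elements of `P` central in `P` lie in `A`. -/
theorem mem_A_of_central_P {p : G} (hp : p ∈ Ppart c K U) (hcen : ∀ y ∈ Ppart c K U, Commute p y) :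
    p ∈ A := by
  refine (P_sq_iff hC hd hU.toIsTop hp).1 ?_
  let p' : ↥(cH c) := ⟨p, top_mem_cH hd hU.toIsTop hp.1⟩
  obtain ⟨hK, hT⟩ := P_image hd hU.toIsTop (p := p') hp
  set t : K := ⟨cπ c p', hK⟩ with ht
  by_contra h2
  have ht2 : t ^ 2 ≠ 1 := fun e => h2 (by
    obtain ⟨j, hj⟩ := exists_pow_two hU.two (pow_mem hp.1 2)
    exact eq_one_of_image (x := p' ^ 2) (k := j) hj (by rw [map_pow]; exact congrArg Subtype.val e))
  have h4 := hd.facts.cent_four T t hT ht2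
  have hle : (T : Subgroup K) ≤ centralizer ({t} : Set K) := fun s hs => by
    obtain ⟨y, hy, e⟩ := exists_P_lift hd hU.toIsTop hs
    refine mem_centralizer_singleton_iff.2 (Subtype.ext ?_)
    rw [Subgroup.coe_mul, Subgroup.coe_mul, ht, ← e, ← map_mul, ← map_mul]
    exact congrArg _ (Subtype.ext (hcen _ hy).eq.symm)
  rw [inf_eq_left.2 hle] at h4
  have h5 := hd.facts.sylow_card T
  rw [show Nat.card T = Nat.card (T : Subgroup K) from rfl, h4, sq] at h5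
  have h6 := q_ge hd.facts
  have := Nat.eq_of_mul_eq_mul_right (by omega) h5
  omega

include hu

theorem mover_split {q : G} (hq : q ∈ Qpart A c U) :
    ∃ a ∈ A, ∃ q' ∈ Qpart A c U, u * q * u⁻¹ = a * q' := by
  obtain ⟨p, hp, q', hq', e⟩ := exists_P_mul_Q hd hU.toIsTop ((mem_normalizer_iff.1 hu.norm q).1 hq.1)
  refine ⟨p, mem_A_of_central_P hC hd hU hp fun y hy => ?_, q', hq', e⟩
  -- the commutator with `y` lies in `A` and in the conjugate of the kernel part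
  have hz1 : y * (u * q * u⁻¹) * y⁻¹ * (u * q * u⁻¹)⁻¹ = y * p * y⁻¹ * p⁻¹ := by
    rw [e]
    have h1 := P_comm_Q hd hU.toIsTop hy hq'
    calc y * (p * q') * y⁻¹ * (p * q')⁻¹ = y * p * (q' * y⁻¹) * q'⁻¹ * p⁻¹ := by group
      _ = y * p * (y⁻¹ * q') * q'⁻¹ * p⁻¹ := by
          rw [show q' * y⁻¹ = y⁻¹ * q' from (Commute.inv_left (show Commute y q' from h1)).eq.symm]
      _ = _ := by group
  have hzA : y * p * y⁻¹ * p⁻¹ ∈ A := by
    by_cases hp2 : p ^ 2 = 1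
    · have hpA := (P_sq_iff hC hd hU.toIsTop hp).1 hp2
      rw [show y * p * y⁻¹ = p by
        rw [← A_central hC hd hU.toIsTop hpA hy.1, mul_inv_cancel_right], mul_inv_cancel]
      exact one_mem _
    · have hyp : y * p * y⁻¹ ∈ Ppart c K U := mul_mem (mul_mem hy hp) (inv_mem hy)
      have h2 : (y * p * y⁻¹) ^ 2 = p ^ 2 := by
        have hA2 : p ^ 2 ∈ A := (P_sq_iff hC hd hU.toIsTop (pow_mem hp 2)).1 (by
          let p' : ↥(cH c) := ⟨p, top_mem_cH hd hU.toIsTop hp.1⟩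
          obtain ⟨hK, hT⟩ := P_image hd hU.toIsTop (p := p') hp
          obtain ⟨j, hj⟩ := exists_pow_two hU.two (pow_mem (pow_mem hp.1 2) 2)
          refine eq_one_of_image (x := (p' ^ 2) ^ 2) (k := j) hj ?_
          rw [map_pow, map_pow]
          exact congrArg Subtype.val (sq_sq hd.facts hT))
        rw [conj_pow, ← A_central hC hd hU.toIsTop hA2 hy.1, mul_inv_cancel_right]
      have h3 := P_roots hC hd hU.toIsTop hp hyp h2.symm hp2
      have h4 : y * p * y⁻¹ * p⁻¹ = p * (p⁻¹ * (y * p * y⁻¹)) * p⁻¹ := by group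
      rw [h4, ← A_central hC hd hU.toIsTop h3 hp.1, mul_inv_cancel_right]
      exact h3
  set z := y * p * y⁻¹ * p⁻¹ with hz
  have hzQ : u⁻¹ * z * u ∈ Qpart A c U := by
    have hy' : u⁻¹ * y * u ∈ U := (mem_normalizer_iff''.1 hu.norm y).1 hy.1
    have h5 := mul_mem (Q_conj hC hd hU hq hy') (inv_mem hq)
    rw [← hz1]
    convert h5 using 1
    group
  rw [show u⁻¹ * z * u = z by
    rw [mul_assoc, mem_centralizer_iff.1 hu.cent z hzA, inv_mul_cancel_left]] at hzQ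
  have := A_inf_Q hC hd hU hzA hzQ
  rw [hz, mul_inv_eq_one, mul_inv_eq_iff_eq_mul] at this
  exact this.symm

theorem Q_sq {q : G} (hq : q ∈ Qpart A c U) : q ^ 2 = 1 := by
  obtain ⟨a, ha, q', hq', e⟩ := mover_split hC hA hd hU hu hq
  have h1 : u * q ^ 2 * u⁻¹ = q' ^ 2 := by
    rw [← conj_pow, e, (show Commute a q' from A_central hC hd hU.toIsTop ha hq'.1).mul_pow,
      hC.pt.elem.2 a ha, one_mul]
  exact hu.meet _ (pow_mem hq 2) (h1 ▸ pow_mem hq' 2)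

theorem Q_comm {q r : G} (hq : q ∈ Qpart A c U) (hr : r ∈ Qpart A c U) : q * r = r * q := by
  have h1 := Q_sq hC hA hd hU hu (mul_mem hq hr)
  have h2 := Q_sq hC hA hd hU hu hq
  have h3 := Q_sq hC hA hd hU hu hr
  rw [sq] at h1 h2 h3
  calc q * r = q * (q * r * (q * r)) * r := by rw [h1, mul_one]
    _ = (q * q) * (r * q) * (r * r) := by group
    _ = r * q := by rw [h2, h3, one_mul, mul_one]

/-- The mover translates the kernel part. -/
theorem mover_trans {q : G} (hq : q ∈ Qpart A c U) :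
    u * q * u⁻¹ * q⁻¹ ∈ A ∧ (u * q * u⁻¹ * q⁻¹ = 1 → q = 1) := by
  obtain ⟨a, ha, q', hq', e⟩ := mover_split hC hA hd hU hu hq
  have key : q' = q := by
    obtain ⟨a2, ha2, q'', hq'', e2⟩ := mover_split hC hA hd hU hu hq'
    have h1 : u ^ 2 * q * (u ^ 2)⁻¹ = a * a2 * q'' := by
      calc u ^ 2 * q * (u ^ 2)⁻¹ = u * (u * q * u⁻¹) * u⁻¹ := by rw [sq]; group
        _ = (u * a * u⁻¹) * (u * q' * u⁻¹) := by rw [e]; group
        _ = a * a2 * q'' := by rw [commute_of_mem_cent ha hu.cent, e2, mul_assoc]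
    have h2 : u ^ 2 * q * (u ^ 2)⁻¹ = q := by
      obtain ⟨p, hp, q0, hq0, e0⟩ := exists_P_mul_Q hd hU.toIsTop hu.sq
      rw [e0, mul_assoc p q0 q, Q_comm hC hA hd hU hu hq0 hq, ← mul_assoc, P_comm_Q hd hU.toIsTop hp hq,
        mul_assoc q p q0, mul_inv_cancel_right]
    rw [h2] at h1
    have hqq : q * q''⁻¹ = a * a2 := by rw [h1, mul_inv_cancel_right]
    have h3 : a * a2 = 1 := A_inf_Q hC hd hU (mul_mem ha ha2) (hqq ▸ mul_mem hq (inv_mem hq''))
    have h4 : q'' = q := by rw [h3, one_mul] at h1; exact h1.symm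
    have h5 : a2 = a := by
      rw [eq_inv_of_mul_eq_one_right h3, inv_eq_of_mul_eq_one_right (exp_two hC ha)]
    have h6 : u * (q * q') * u⁻¹ = q' * q := by
      calc u * (q * q') * u⁻¹ = (u * q * u⁻¹) * (u * q' * u⁻¹) := by group
        _ = a * (q' * a) * q := by rw [e, e2, h4, h5]; group
        _ = q' * q := by
            rw [← A_central hC hd hU.toIsTop ha hq'.1, ← mul_assoc a a q', exp_two hC ha, one_mul]
    have h7 := hu.meet _ (mul_mem hq hq') (h6 ▸ mul_mem hq' hq)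
    rw [eq_inv_of_mul_eq_one_right h7]
    exact inv_eq_of_mul_eq_one_right (by rw [← sq]; exact Q_sq hC hA hd hU hu hq)
  rw [e, key, mul_inv_cancel_right]
  refine ⟨ha, fun h => hu.meet q hq ?_⟩
  rw [e, h, one_mul, key]
  exact hq

theorem card_Q_le : Nat.card (Qpart A c U) ≤ Nat.card A := by
  refine Nat.card_le_card_of_injective
    (fun q : Qpart A c U => (⟨u * q * u⁻¹ * (q : G)⁻¹, (mover_trans hC hA hd hU hu q.2).1⟩ : A)) ?_
  intro q r e
  have e1 : u * q * u⁻¹ * (q : G)⁻¹ = u * r * u⁻¹ * (r : G)⁻¹ := congrArg Subtype.val e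
  have h1 : u * ((r : G)⁻¹ * q) * u⁻¹ * ((r : G)⁻¹ * q)⁻¹ = 1 := by
    have e2 : u * (q : G) * u⁻¹ = u * r * u⁻¹ * (r : G)⁻¹ * q := by rw [← e1]; group
    calc u * ((r : G)⁻¹ * q) * u⁻¹ * ((r : G)⁻¹ * q)⁻¹
        = (u * r * u⁻¹)⁻¹ * (u * q * u⁻¹) * (q : G)⁻¹ * r := by group
      _ = 1 := by rw [e2]; group
  exact Subtype.ext (inv_mul_eq_one.1 ((mover_trans hC hA hd hU hu (mul_mem (inv_mem r.2) q.2)).2 h1)).symm

end Mover

/-- The translations of the kernel part. -/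
def trans (A : Subgroup G) (c : G) (U : Subgroup G) : Subgroup G where
  carrier := {g | g ∈ pM A ∧ g ∈ normalizer (U : Set G) ∧ g ∈ centralizer (A : Set G) ∧
    ∀ w ∈ Qpart A c U, g * w * g⁻¹ * w⁻¹ ∈ A}
  one_mem' := ⟨one_mem _, one_mem _, one_mem _, fun w hw => by simp⟩
  mul_mem' {g h} hg hh := ⟨mul_mem hg.1 hh.1, mul_mem hg.2.1 hh.2.1, mul_mem hg.2.2.1 hh.2.2.1,
    fun w hw => by
      have e : g * h * w * (g * h)⁻¹ * w⁻¹ =
          g * (h * w * h⁻¹ * w⁻¹) * g⁻¹ * (g * w * g⁻¹ * w⁻¹) := by group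
      rw [e, commute_of_mem_cent (hh.2.2.2 w hw) hg.2.2.1]
      exact mul_mem (hh.2.2.2 w hw) (hg.2.2.2 w hw)⟩
  inv_mem' {g} hg := ⟨inv_mem hg.1, inv_mem hg.2.1, inv_mem hg.2.2.1, fun w hw => by
    have h := commute_of_mem_cent (hg.2.2.2 w hw) (inv_mem hg.2.2.1)
    rw [show g⁻¹ * w * g⁻¹⁻¹ * w⁻¹ = (g⁻¹ * (g * w * g⁻¹ * w⁻¹) * g⁻¹⁻¹)⁻¹ by group, h]
    exact inv_mem (hg.2.2.2 w hw)⟩

theorem mover_mem_trans (hC : Ctx S A) (hA : Aut A m l) (hd : BlockData A c K k T) (hU : IsMax A c U)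
    {u : G} (hu : Mover A c U u) : u ∈ trans A c U :=
  ⟨hu.mem, hu.norm, hu.cent, fun _ hw => (mover_trans hC hA hd hU hu hw).1⟩

theorem conj_mem_centralizer_A {g x : G} (hg : g ∈ normalizer (A : Set G))
    (hx : x ∈ centralizer (A : Set G)) : g * x * g⁻¹ ∈ centralizer (A : Set G) := by
  refine mem_centralizer_iff.2 fun a ha => ?_
  have h1 : g⁻¹ * a * g ∈ A := (mem_normalizer_iff''.1 hg a).1 ha
  calc a * (g * x * g⁻¹) = g * ((g⁻¹ * a * g) * x) * g⁻¹ := by group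
    _ = g * (x * (g⁻¹ * a * g)) * g⁻¹ := by rw [mem_centralizer_iff.1 hx _ h1]
    _ = g * x * g⁻¹ * a := by group

/-- Translations take all values. -/
theorem exists_trans (hC : Ctx S A) (hA : Aut A m l) (hd : BlockData A c K k T) (hU : IsMax A c U)
    {w a : G} (hw : w ∈ Qpart A c U) (hw1 : w ≠ 1) (ha : a ∈ A) :
    ∃ g ∈ trans A c U, g * w * g⁻¹ = a * w := by
  obtain ⟨u, hu⟩ := exists_mover hC hA hd hU
  let ev : trans A c U →* A := MonoidHom.mk' (fun g => ⟨g * w * (g : G)⁻¹ * w⁻¹, g.2.2.2.2 w hw⟩)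
    fun g h => Subtype.ext (by
      show (g : G) * h * w * ((g : G) * h)⁻¹ * w⁻¹ = (g * w * (g : G)⁻¹ * w⁻¹) * (h * w * (h : G)⁻¹ * w⁻¹)
      rw [show (g : G) * h * w * ((g : G) * h)⁻¹ * w⁻¹ =
        (g : G) * ((h : G) * w * (h : G)⁻¹ * w⁻¹) * (g : G)⁻¹ * (g * w * (g : G)⁻¹ * w⁻¹) by group,
        commute_of_mem_cent (h.2.2.2.2 w hw) g.2.2.2.1]
      exact (elementary_comm hC.pt.elem (h.2.2.2.2 w hw) (g.2.2.2.2 w hw)))
  obtain ⟨τ, hτc, hτM, hτU, hτA, hτl, hτn, hτQ⟩ := exists_tau hC hA hd hU.toIsTop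
  rcases hA.irr τ hτA hτl hτn (ev.range.map A.subtype) (map_subtype_le _) (by
      rintro _ ⟨_, ⟨g, rfl⟩, rfl⟩
      have hmem : τ * g * τ⁻¹ ∈ trans A c U := ⟨mul_mem (mul_mem hτM g.2.1) (inv_mem hτM),
        mul_mem (mul_mem hτU g.2.2.1) (inv_mem hτU), conj_mem_centralizer_A hτA g.2.2.2.1,
        fun w' hw' => by
          rw [show τ * g * τ⁻¹ * w' * (τ * g * τ⁻¹)⁻¹ * w'⁻¹ =
            τ * (g * (τ⁻¹ * w' * τ) * (g : G)⁻¹ * (τ⁻¹ * w' * τ)⁻¹) * τ⁻¹ by group,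
            show τ⁻¹ * w' * τ = w' by rw [mul_assoc, ← hτQ w' hw', inv_mul_cancel_left]]
          exact (mem_normalizer_iff.1 hτA _).1 (g.2.2.2.2 w' hw')⟩
      refine ⟨ev ⟨_, hmem⟩, ⟨_, rfl⟩, ?_⟩
      show τ * g * τ⁻¹ * w * (τ * g * τ⁻¹)⁻¹ * w⁻¹ = τ * (g * w * (g : G)⁻¹ * w⁻¹) * τ⁻¹
      rw [show τ * g * τ⁻¹ * w * (τ * g * τ⁻¹)⁻¹ * w⁻¹ =
            τ * (g * (τ⁻¹ * w * τ) * (g : G)⁻¹ * (τ⁻¹ * w * τ)⁻¹) * τ⁻¹ by group,
            show τ⁻¹ * w * τ = w by rw [mul_assoc, ← hτQ w hw, inv_mul_cancel_left]]) with h | h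
  · exfalso
    refine hw1 ((mover_trans hC hA hd hU hu hw).2 (mem_bot.1 (h ▸ ?_)))
    exact ⟨ev ⟨u, mover_mem_trans hC hA hd hU hu⟩, ⟨_, rfl⟩, rfl⟩
  · obtain ⟨_, ⟨g, rfl⟩, e⟩ := (h.symm ▸ ha : a ∈ ev.range.map A.subtype)
    refine ⟨g, g.2, ?_⟩
    rw [← show g * w * (g : G)⁻¹ * w⁻¹ = a from e, inv_mul_cancel_right]

omit U K k T in
/-- A bad involution centralising `A` is translated by every element of `A`. -/
theorem exists_translate (hC : Ctx S A) (hA : Aut A m l) (hc : Bad A c) (hcA : c ∈ centralizer (A : Set G))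
    {a : G} (ha : a ∈ A) : ∃ g ∈ pM A, g * c * g⁻¹ = a * c := by
  have hAM : A ≤ pM A := le_normalizer.trans le_sup_left
  have hA2 : IsPGroup 2 (A ⊔ zpowers c : Subgroup G) :=
    (isPGroup_A hC).to_sup_of_normal_left' (isPGroup_of_invol hc.ord)
      (zpowers_le.2 (centralizer_le_normalizer _ hcA))
  obtain ⟨c1, V, hb1, hc1A, hfix, hV, hle⟩ := exists_max hC hA hc hcA hA2 le_sup_left
    (mem_sup_right (mem_zpowers c)) (sup_le hAM (zpowers_le.2 hc.mem))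
    (stabilises_of_le (sup_le (A_le_cH hcA) (zpowers_le.2 (mem_centralizer_singleton_iff.2 rfl))))
  obtain ⟨K, k, T, hd⟩ := exists_blockData hC hb1 hc1A
  have hcQ : c ∈ Qpart A c1 V := ⟨hle (mem_sup_right (mem_zpowers c)),
    (mem_fixingSubgroup_iff _).2 fun p hp => by rw [hfix] at hp; exact hp⟩
  obtain ⟨g, hg, e⟩ := exists_trans hC hA hd hV hcQ (involution_ne_one hc.ord) ha
  exact ⟨g, hg.1, e⟩

omit U K k T in
theorem bad_mul (hC : Ctx S A) (hA : Aut A m l) (hc : Bad A c) (hcA : c ∈ centralizer (A : Set G))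
    {a : G} (ha : a ∈ A) : Bad A (a * c) := by
  obtain ⟨g, hg, e⟩ := exists_translate hC hA hc hcA ha
  exact e ▸ bad_conj hC hc hg

omit c U K k T in
theorem bad_of_not_isA (hC : Ctx S A) (hA : Aut A m l) {t : G} (ht : orderOf t = 2) (htM : t ∈ pM A)
    (htA : ¬ IsA A t) : Bad A t := by
  obtain ⟨c, hc, hcS, hcA, a, ha, -, g, hg⟩ := exists_conj_mul hC ht htA
  have hb := bad_mul hC hA hc hcA ha
  obtain ⟨μ, hμ, e⟩ := conj_in_pM hC hb.mem htM (isPGroup_of_invol hb.ord) (g := g⁻¹)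
    (by rw [← hg]; group)
  exact e ▸ bad_conj hC hb hμ

omit K k T in
/-- Every top group is maximal in the stabiliser of its block. -/
theorem top_isMax (hC : Ctx S A) (hA : Aut A m l) (hc : Bad A c) (hcA : c ∈ centralizer (A : Set G))
    (hU : IsTop A c U) : IsMax A c U := by
  refine ⟨hU, fun V hV hUV hVM hVs => ?_⟩
  obtain ⟨K0, k0, T0, hd0⟩ := exists_blockData hC hc hcA
  have hcU := c_mem_top hd0 hU
  obtain ⟨c1, W, hb1, hc1A, hfix, hW, hVW⟩ := exists_max hC hA hc hcA hV (hU.A_le.trans hUV)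
    (hUV hcU) hVM hVs
  obtain ⟨K, k, T, hd⟩ := exists_blockData hC hb1 hc1A
  obtain ⟨u, hu⟩ := exists_mover hC hA hd hW
  have hcQ : c ∈ Qpart A c1 W := ⟨hVW (hUV hcU), (mem_fixingSubgroup_iff _).2 fun p hp => by
    rw [hfix] at hp; exact hp⟩
  refine hU.max V hV hUV (le_inf (fun v hv => mem_centralizer_singleton_iff.2 ?_) hVM)
  obtain ⟨p, hp, q, hq, rfl⟩ := exists_P_mul_Q hd hW.toIsTop (hVW hv)
  rw [mul_assoc, Q_comm hC hA hd hW hu hq hcQ, ← mul_assoc, P_comm_Q hd hW.toIsTop hp hcQ, mul_assoc]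

end CfsgLib.ThreePrime.Block
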