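import Cfsg.Agent.Lib.ThreePrime.Block.Gamma
import Mathlib.GroupTheory.FixedPointFree

/-!
Owner: helper6.  All blocks look like the frame.

* `conj_P`, `invol_comm_P`: how `S` acts on the component part
* `elem_or_U`: the involutions of `S` lie in `U`, or `S/A` is elementary abelian
* `exists_frame_of_bad`: every bad involution of `S` has a frame, with a kernel part of the same order
* `W0_eq_bot`, `pM_le_normalizer_S`: with kernel parts of order at least four
-/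

set_option autoImplicit false
set_option linter.all false

namespace CfsgLib.ThreePrime.Block

open Subgroup CfsgLib.Bender.Dichotomy CfsgLib.Signalizer
open scoped Pointwise

universe u

local instance factTwoBlockUniform : Fact (Nat.Prime 2) := ⟨Nat.prime_two⟩

variable {G : Type u} [Group G] [Finite G] {S : Sylow 2 G} {A : Subgroup G} {m l : ℕ}

theorem comm_mem_of_sq {B H : Subgroup G} (h : ∀ s ∈ H, s ^ 2 ∈ B) {s t : G} (hs : s ∈ H) (ht : t ∈ H) :
    s * t * s⁻¹ * t⁻¹ ∈ B := by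
  have := mul_mem (mul_mem (h s hs) (h _ (mul_mem (inv_mem hs) ht))) (inv_mem (h t ht))
  rwa [show s ^ 2 * (s⁻¹ * t) ^ 2 * (t ^ 2)⁻¹ = s * t * s⁻¹ * t⁻¹ by simp only [sq]; group] at this

variable {c : G} {U : Subgroup G} (hC : Ctx S A) (hA : Aut A m l) (hF : Frame S A c U)
include hC hA hF

section Data

variable {K : Subgroup (cQ c)} {k : ℕ} {T : Sylow 2 K} (hd : BlockData A c K k T)
include hd

theorem conj_P {g p : G} (hg : g ∈ (S : Subgroup G)) (hp : p ∈ Ppart c K U) :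
    ∃ a ∈ A, ∃ q ∈ Qpart A c U, g * p * g⁻¹ = p * a * q := by
  have hgA := S_le_centralizer hC hA hg
  by_cases hpA : p ∈ A
  · exact ⟨1, one_mem _, 1, one_mem _, by rw [commute_of_mem_cent hpA hgA, mul_one, mul_one]⟩
  obtain ⟨p', hp', q, hq, e⟩ := exists_P_mul_Q hd hF.top
    ((mem_normalizer_iff.1 (hF.trans_le hg).2.1 p).1 hp.1)
  have h2 : p ^ 2 = p' ^ 2 := by
    have : (g * p * g⁻¹) ^ 2 = (p' * q) ^ 2 := by rw [e]
    rwa [conj_pow, commute_of_mem_cent (P_sq_mem hC hd hF.top hp) hgA,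
      (show Commute p' q from P_comm_Q hd hF.top hp' hq).mul_pow, (frame_Q_data hC hA hF).1 q hq,
      mul_one] at this
  exact ⟨p⁻¹ * p', P_roots hC hd hF.top hp hp' h2 (fun h => hpA ((P_sq_iff hC hd hF.top hp).1 h)), q, hq,
    by rw [mul_inv_cancel_left]; exact e⟩

omit hF in
theorem Ppart_conj {U : Subgroup G} (hU : IsTop A c U) {g p : G} (hgU : g ∈ normalizer (U : Set G))
    (hgc : g ∈ cH c) (hp : p ∈ Ppart c K U) : g * p * g⁻¹ ∈ Ppart c K U := by
  haveI := hd.normal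
  obtain ⟨hpU, y, hy, e⟩ := hp
  obtain rfl : (y : G) = p := e
  exact ⟨(mem_normalizer_iff.1 hgU _).1 hpU, ⟨g, hgc⟩ * y * ⟨g, hgc⟩⁻¹,
    (inferInstance : (K.comap (cπ c)).Normal).conj_mem _ hy _, rfl⟩

theorem comm_P {u p : G} (hu : u ∈ U) (hp : p ∈ Ppart c K U) : u * p * u⁻¹ * p⁻¹ ∈ A := by
  obtain ⟨a, ha, q, hq, e⟩ := conj_P hC hA hF hd (hF.le hu) hp
  have h1 := Ppart_conj hC hA hd hF.top (le_normalizer hu) (top_mem_cH hd hF.top hu) hp
  rw [e] at h1
  have h2 : q = 1 := P_inf_Q hd hF.top ((Ppart c K U).mul_mem ((Ppart c K U).inv_mem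
    ((Ppart c K U).mul_mem hp (A_le_P hd hF.top ha))) h1) (by
      rw [inv_mul_cancel_left]; exact hq) |> fun h => by rwa [inv_mul_cancel_left] at h
  rw [e, h2, mul_one, ← A_central hC hd hF.top ha hp.1, mul_inv_cancel_right]
  exact ha

theorem invol_comm_P {x p : G} (hx : x ∈ (S : Subgroup G)) (hx2 : x ^ 2 = 1) (hxU : x ∉ U)
    (hp : p ∈ Ppart c K U) : x * p * x⁻¹ * p⁻¹ ∈ A := by
  obtain ⟨a, ha, q, hq, e⟩ := conj_P hC hA hF hd hx hp
  by_cases hq1 : q = 1
  · rw [e, hq1, mul_one, ← A_central hC hd hF.top ha hp.1, mul_inv_cancel_right]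
    exact ha
  exfalso
  have hxA := S_le_centralizer hC hA hx
  have h1 : x * (x * p * x⁻¹) * x⁻¹ = p := by
    rw [show x * (x * p * x⁻¹) * x⁻¹ = x ^ 2 * p * (x ^ 2)⁻¹ by simp only [sq]; group, hx2]
    group
  rw [e, show x * (p * a * q) * x⁻¹ = (x * p * x⁻¹) * (x * a * x⁻¹) * (x * q * x⁻¹) by group, e,
    commute_of_mem_cent ha hxA, mul_assoc (p * a) q a, ← A_central hC hd hF.top ha hq.1,
    ← mul_assoc (p * a) a q, mul_assoc p a a, exp_two hC ha, mul_one, mul_assoc] at h1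
  have h2 : x * q * x⁻¹ = q := by
    rw [eq_inv_of_mul_eq_one_right (mul_eq_left.1 h1)]
    exact inv_eq_of_mul_eq_one_right (by rw [← sq]; exact (frame_Q_data hC hA hF).1 q hq)
  exact hxU (S_inf_cent hC hA hF hq hq1 hx (mul_inv_eq_iff_eq_mul.1 h2))

end Data

theorem exists_mul_of_invol {x : G} (hxU : x ∈ U) (hx2 : x ^ 2 = 1) :
    ∃ a ∈ A, ∃ q ∈ Qpart A c U, x = a * q := by
  obtain ⟨K, k, T, hd⟩ := exists_blockData hC hF.bad hF.cent
  obtain ⟨p, hp, q, hq, rfl⟩ := exists_P_mul_Q hd hF.top hxU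
  rw [(show Commute p q from P_comm_Q hd hF.top hp hq).mul_pow, (frame_Q_data hC hA hF).1 q hq,
    mul_one] at hx2
  exact ⟨p, (P_sq_iff hC hd hF.top hp).1 hx2, q, hq, rfl⟩

/-- The involutions of `S` lie in `U`, or `S/A` is elementary abelian. -/
theorem elem_or_U : (∀ x ∈ (S : Subgroup G), x ^ 2 = 1 → x ∈ U) ∨
    ∀ s ∈ (S : Subgroup G), s ^ 2 ∈ A := by
  by_cases h : ∀ x ∈ (S : Subgroup G), x ^ 2 = 1 → x ∈ U
  · exact Or.inl h
  right
  push Not at h
  obtain ⟨x, hx, hx2, hxU⟩ := h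
  obtain ⟨K, k, T, hd⟩ := exists_blockData hC hF.bad hF.cent
  obtain ⟨hQ2, -, -, hcQ, -⟩ := frame_Q_data hC hA hF
  intro s hs
  by_cases hsU : s ∈ U
  · obtain ⟨p, hp, q, hq, rfl⟩ := exists_P_mul_Q hd hF.top hsU
    rw [(show Commute p q from P_comm_Q hd hF.top hp hq).mul_pow, hQ2 q hq, mul_one]
    exact P_sq_mem hC hd hF.top hp
  have hc1 := involution_ne_one hF.bad.ord
  have hne : ∀ y ∈ (S : Subgroup G), y ∉ U → y * c * y⁻¹ * c⁻¹ ≠ 1 := fun y hy hyU e =>
    hyU (S_inf_cent hC hA hF hcQ hc1 hy (mul_inv_eq_iff_eq_mul.1 (mul_inv_eq_one.1 e)))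
  obtain ⟨g, hgS, hgU, hgA, hgQ, hg⟩ := exists_mover_A hC hA hF
    (frame_trans_value hC hA hF hx hcQ) (hne x hx hxU) (frame_trans_value hC hA hF hs hcQ) (hne s hs hsU)
  set x' := g * x * g⁻¹ with hx'
  have hx'S : x' ∈ (S : Subgroup G) := (mem_normalizer_iff.1 hgS x).1 hx
  have hx'2 : x' ^ 2 = 1 := by rw [hx', conj_pow, hx2, mul_one, mul_inv_cancel]
  have hx'U : x' ∉ U := fun h => hxU ((mem_normalizer_iff.1 hgU x).2 h)
  have hcg : g * c * g⁻¹ = c := by rw [hgQ c hcQ, mul_inv_cancel_right]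
  have hval : x' * c * x'⁻¹ * c⁻¹ = s * c * s⁻¹ * c⁻¹ := by
    rw [← hg, show g * (x * c * x⁻¹ * c⁻¹) * g⁻¹ = x' * (g * c * g⁻¹) * x'⁻¹ * (g * c * g⁻¹)⁻¹ by
      rw [hx']; group, hcg]
  set u := x'⁻¹ * s with hu
  have huU : u ∈ U := by
    refine S_inf_cent hC hA hF hcQ hc1 (mul_mem (inv_mem hx'S) hs) ?_
    have e1 : x' * c * x'⁻¹ = s * c * s⁻¹ := mul_right_cancel hval
    rw [hu]
    calc x'⁻¹ * s * c = x'⁻¹ * (s * c * s⁻¹) * s := by group
      _ = x'⁻¹ * (x' * c * x'⁻¹) * s := by rw [e1]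
      _ = c * (x'⁻¹ * s) := by group
  rw [show s ^ 2 = x' * u * x'⁻¹ * (x' ^ 2) * u by rw [hu]; simp only [sq]; group, hx'2, mul_one]
  obtain ⟨p, hp, q, hq, e⟩ := exists_P_mul_Q hd hF.top huU
  have h1 := invol_comm_P hC hA hF hd hx'S hx'2 hx'U hp
  have h2 := frame_trans_value hC hA hF hx'S hq
  rw [e, show x' * (p * q) * x'⁻¹ * (p * q) =
    (x' * p * x'⁻¹ * p⁻¹) * (p * (x' * q * x'⁻¹ * q⁻¹) * p⁻¹) * (p * q * (p * q)) by group,
    show p * (x' * q * x'⁻¹ * q⁻¹) * p⁻¹ = x' * q * x'⁻¹ * q⁻¹ from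
      commute_of_mem_cent h2 (S_le_centralizer hC hA (hF.le hp.1)), ← sq,
    (show Commute p q from P_comm_Q hd hF.top hp hq).mul_pow, hQ2 q hq, mul_one]
  exact mul_mem (mul_mem h1 h2) (P_sq_mem hC hd hF.top hp)

theorem bad_trans {x s : G} (hx : Bad A x) (hxS : x ∈ (S : Subgroup G)) (hs : s ∈ (S : Subgroup G)) :
    s * x * s⁻¹ * x⁻¹ ∈ A := by
  rcases elem_or_U hC hA hF with h | h
  · obtain ⟨a, ha, q, hq, rfl⟩ := exists_mul_of_invol hC hA hF (h x hxS (sq_of_ord hx.ord)) (sq_of_ord hx.ord)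
    rw [show s * (a * q) * s⁻¹ * (a * q)⁻¹ = (s * a * s⁻¹) * (s * q * s⁻¹ * q⁻¹) * a⁻¹ by group,
      commute_of_mem_cent ha (S_le_centralizer hC hA hs)]
    exact mul_mem (mul_mem ha (frame_trans_value hC hA hF hs hq)) (inv_mem ha)
  · exact comm_mem_of_sq h hs hxS

/-- Every bad involution of `S` has a frame with a kernel part of the same order. -/
theorem exists_frame_of_bad {x : G} (hx : Bad A x) (hxS : x ∈ (S : Subgroup G)) :
    ∃ V, Frame S A x V ∧ Nat.card (Qpart A x V) = Nat.card (Qpart A c U) := by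
  obtain ⟨hxA, -⟩ := hC.bad x hx (S_le_normalizer hC hxS)
  set V0 := (S : Subgroup G) ⊓ cH x with hV0
  obtain ⟨V, hV0V, hV⟩ := exists_top (U0 := V0) (S.isPGroup'.to_le inf_le_left)
    (le_inf hC.pt.le (A_le_cH hxA)) (le_inf inf_le_right (inf_le_left.trans (S_le_pM hC)))
  obtain ⟨K, k, T, hd⟩ := exists_blockData hC hx hxA
  have hup : Nat.card A * Nat.card V ≤ Nat.card (S : Subgroup G) := by
    obtain ⟨i, hi⟩ := IsPGroup.iff_card.1 (isPGroup_A hC)
    obtain ⟨j, hj⟩ := IsPGroup.iff_card.1 hV.two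
    have hdvd := (dvd_trans_card hC hA hd hV).trans (card_subgroup_dvd_card _)
    rw [hi, hj, ← pow_add] at hdvd ⊢
    rw [show Nat.card (S : Subgroup G) = 2 ^ (Nat.card G).factorization 2 from S.card_eq_multiplicity]
    exact Nat.pow_le_pow_right (by norm_num)
      ((Nat.Prime.pow_dvd_iff_le_factorization Nat.prime_two Nat.card_pos.ne').1 hdvd)
  have hlow : Nat.card (S : Subgroup G) ≤ Nat.card A * Nat.card V0 := by
    rw [← card_orbit_mul (S : Subgroup G) x]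
    refine Nat.mul_le_mul_right _ (Nat.card_le_card_of_injective
      (fun y : cOrbit (S : Subgroup G) x => (⟨(y : G) * x⁻¹, by
        obtain ⟨s, hs, e⟩ := y.2
        rw [← e]; exact bad_trans hC hA hF hx hxS hs⟩ : A)) fun y z e => Subtype.ext ?_)
    exact mul_right_cancel (congrArg Subtype.val e)
  have hVV : V = V0 := (eq_of_le_of_card_ge hV0V
    (Nat.le_of_mul_le_mul_left (hup.trans hlow) Nat.card_pos)).symm
  have hcard : Nat.card (S : Subgroup G) = Nat.card A * Nat.card V :=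
    le_antisymm (hlow.trans (by rw [hVV])) hup
  obtain ⟨u, hu⟩ := exists_mover hC hA hd (top_isMax hC hA hx hxA hV)
  have hVS : V ≤ (S : Subgroup G) := hVV ▸ inf_le_left
  refine ⟨V, ⟨hx, hxA, hV, hVS, hcard, fun s hs => ⟨S_le_pM hC hs, ?_, S_le_centralizer hC hA hs,
    fun w hw => ?_⟩⟩, ?_⟩
  · refine mem_normalizer_of_cj (eq_of_le_of_card_ge (cj_le_iff.2 fun v hv => ?_) (card_cj _ _).ge)
    rw [hVV] at hv ⊢
    refine mem_inf.2 ⟨mul_mem (mul_mem hs hv.1) (inv_mem hs), mem_centralizer_singleton_iff.2 ?_⟩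
    set a := s⁻¹ * x * s⁻¹⁻¹ * x⁻¹ with ha
    have haA : a ∈ A := bad_trans hC hA hF hx hxS (inv_mem hs)
    have hav : v * a = a * v := (mem_centralizer_iff.1 (S_le_centralizer hC hA hv.1) a haA).symm
    have hsx : s⁻¹ * x * s = a * x := by rw [ha, inv_inv, inv_mul_cancel_right]
    have hvx : v * x = x * v := mem_centralizer_singleton_iff.1 hv.2
    calc s * v * s⁻¹ * x = s * (v * (s⁻¹ * x * s)) * s⁻¹ := by group
      _ = s * ((s⁻¹ * x * s) * v) * s⁻¹ := by
          rw [hsx, show v * (a * x) = a * x * v by rw [← mul_assoc, hav, mul_assoc, hvx, ← mul_assoc]]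
      _ = x * (s * v * s⁻¹) := by group
  · by_cases hw1 : w = 1
    · rw [hw1, mul_one, mul_inv_cancel, inv_one, mul_one]; exact one_mem _
    have hw2 := orderOf_eq_prime (Q_sq hC hA hd (top_isMax hC hA hx hxA hV) hu hw) hw1
    exact bad_trans hC hA hF (ker_bad hC hx hd.bf hw.2 hw2
      (mem_centralizer_singleton_iff.1 (hV.le hw.1).1)).2 (hVS hw.1) hs
  · obtain ⟨K0, k0, T0, hd0⟩ := exists_blockData hC hF.bad hF.cent
    have e := hF.card.symm.trans hcard
    rw [card_U hd hV, card_U hd0 hF.top, ← mul_assoc, ← mul_assoc] at e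
    exact (Nat.eq_of_mul_eq_mul_left (Nat.mul_pos Nat.card_pos (pow_pos Nat.card_pos 2)) e).symm

section Four

variable (h4 : 4 ≤ Nat.card (Qpart A c U))
include h4

/-- The normaliser of the closure contains the centraliser of every bad involution of `pM`. -/
theorem cent_le_normalizer_W0 {x : G} (hx : Bad A x) :
    centralizer ({x} : Set G) ≤ normalizer (W0 A : Set G) := by
  obtain ⟨μ, hμ, hμS, hb, hbA, -⟩ := exists_conj_bad hC hx
  set y := μ * x * μ⁻¹ with hy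
  suffices hmain : cH y ≤ normalizer (W0 A : Set G) by
    intro g hg
    have hμN := pM_le_normalizer_W0 hμ
    have h1 : μ * g * μ⁻¹ ∈ cH y := mem_centralizer_singleton_iff.2
      ((Commute.conj_iff μ).2 (show Commute g x from mem_centralizer_singleton_iff.1 hg)).eq
    have := mul_mem (mul_mem (inv_mem hμN) (hmain h1)) hμN
    rwa [show μ⁻¹ * (μ * g * μ⁻¹) * μ = g by group] at this
  obtain ⟨V, hFy, hcardQ⟩ := exists_frame_of_bad hC hA hF hb hμS
  obtain ⟨hQ2, hAQ, -, -, -⟩ := frame_Q_data hC hA hFy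
  obtain ⟨K, k, T, hd⟩ := exists_blockData hC hb hbA
  haveI := hd.normal
  set E := Qpart A y V with hE
  have hEA : ∀ e ∈ E, ∀ a ∈ A, a * e = e * a := fun e he a ha => A_central hC hd hFy.top ha he.1
  have hEn : A ≤ normalizer (E : Set G) := fun a ha =>
    centralizer_le_normalizer _ (mem_centralizer_iff.2 fun e he => (hEA e he a ha).symm)
  have hM := top_isMax hC hA hb hbA hFy.top
  obtain ⟨u, hu⟩ := exists_mover hC hA hd hM
  have hsup : ∀ z ∈ A ⊔ E, ∃ a ∈ A, ∃ e ∈ E, z = a * e := by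
    intro z hz
    rw [← SetLike.mem_coe, coe_mul_of_left_le_normalizer_right _ _ hEn, Set.mem_mul] at hz
    obtain ⟨a, ha, e, he, rfl⟩ := hz
    exact ⟨a, ha, e, he, rfl⟩
  have hV2 : Cfsg.IsElementaryAbelian 2 (A ⊔ E : Subgroup G) := by
    refine ⟨⟨⟨?_⟩⟩, ?_⟩
    · rintro ⟨z, hz⟩ ⟨z', hz'⟩
      obtain ⟨a, ha, e, he, rfl⟩ := hsup z hz
      obtain ⟨a', ha', e', he', rfl⟩ := hsup z' hz'
      refine Subtype.ext ?_
      show a * e * (a' * e') = a' * e' * (a * e)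
      have c1 : Commute a a' := elementary_comm hC.pt.elem ha ha'
      have c2 : Commute a e' := hEA e' he' a ha
      have c3 : Commute e a' := (hEA e he a' ha').symm
      have c4 : Commute e e' := Q_comm hC hA hd hM hu he he'
      exact ((c1.mul_right c2).mul_left (c3.mul_right c4)).eq
    · intro z hz
      obtain ⟨a, ha, e, he, rfl⟩ := hsup z hz
      rw [(show Commute a e from hEA e he a ha).mul_pow, hC.pt.elem.2 a ha, hQ2 e he, one_mul]
  have hV8 : 8 ≤ Nat.card (A ⊔ E : Subgroup G) :=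
    hC.pt.card.trans (Nat.le_of_dvd Nat.card_pos (card_dvd_of_le le_sup_left))
  have hW : W0 E = W0 A :=
    (hC.pt.cores.four _ hV2 hV8 E le_sup_right (by rw [hE, hcardQ]; exact h4)).trans
      (hC.pt.cores.four _ hV2 hV8 A le_sup_left (le_trans (by norm_num) hC.pt.card)).symm
  have hEW : normalizer (E : Set G) ≤ normalizer (W0 A : Set G) := by
    rw [← hW]; exact normalizer_le_normalizer_W0
  have hEcH : E ≤ cH y := fun e he => (hFy.top.le he.1).1
  have hnorm : E ≤ normalizer (core y : Set G) := fun e he =>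
    mem_normalizer_of_cj (eq_of_le_of_card_ge (cj_le_iff.2 fun r hr => core_conj hd (hEcH he) hr)
      (card_cj _ _).ge)
  intro g hg
  set g' : ↥(cH y) := ⟨g, hg⟩
  have hsub : cj g E ≤ E ⊔ core y := by
    rintro _ ⟨e, he, rfl⟩
    have h1 : cπ y (g' * ⟨e, hEcH he⟩ * g'⁻¹) ∈ cimg y E := by
      rw [← ker_image hC hA hd hFy.top, map_mul, map_mul, map_inv]
      exact (inferInstance : (centralizer (K : Set (cQ y))).Normal).conj_mem _
        ((ker_image hC hA hd hFy.top).ge ⟨⟨e, hEcH he⟩, mem_subgroupOf.2 he, rfl⟩) _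
    obtain ⟨e', he', ee⟩ := h1
    have h2 := mem_oddCore_iff.1 (QuotientGroup.eq.1 ee)
    have := mul_mem (mem_sup_left (T := core y) (mem_subgroupOf.1 he')) (mem_sup_right h2)
    simpa using this
  obtain ⟨P, hEP, hPle, hP, -, hconj⟩ := exists_sylow_in (hFy.top.two.to_le inf_le_left : IsPGroup 2 E)
    (le_sup_left : E ≤ E ⊔ core y)
  have hPE : P = E := le_antisymm (fun z hz => by
    have h := hPle hz
    rw [← SetLike.mem_coe, coe_mul_of_left_le_normalizer_right _ _ hnorm, Set.mem_mul] at h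
    obtain ⟨e, he, r, hr, rfl⟩ := h
    have hrP : r ∈ P := by
      have := mul_mem (inv_mem (hEP he)) hz
      rwa [inv_mul_cancel_left] at this
    obtain ⟨j, hj⟩ := exists_pow_two hP hrP
    rw [eq_one_of_two_core hj hr, mul_one]
    exact he) hEP
  obtain ⟨w, hw, hwle⟩ := hconj _ hsub ((hFy.top.two.to_le inf_le_left).map _)
  rw [hPE, cj_cj] at hwle
  have hwN : w * g ∈ normalizer (E : Set G) :=
    mem_normalizer_of_cj (eq_of_le_of_card_ge hwle (card_cj _ _).ge)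
  have hwW : w ∈ normalizer (W0 A : Set G) := by
    refine (sup_le ?_ ?_ : E ⊔ core y ≤ normalizer (W0 A : Set G)) hw
    · exact le_normalizer.trans hEW
    · exact (core_le_pM hd.bf).trans pM_le_normalizer_W0
  have := mul_mem (inv_mem hwW) (hEW hwN)
  rwa [inv_mul_cancel_left] at this

/-- The cores vanish. -/
theorem W0_eq_bot : W0 A = ⊥ := by
  by_contra hW
  haveI := hC.pt.hyp.simple
  have htop : normalizer (W0 A : Set G) ≠ ⊤ := fun e => by
    rcases IsSimpleGroup.eq_bot_or_eq_top_of_normal (W0 A) (normalizer_eq_top_iff.1 e) with h | h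
    · exact hW h
    · exact pM_ne_top hC (top_le_iff.1 (h.ge.trans W0_le_pM))
  obtain ⟨g, hg⟩ := exists_conj_not_mem hC.pt.hyp.simple htop (involution_ne_one hF.bad.ord)
  set t := g * c * g⁻¹ with ht
  have ht2 : orderOf t = 2 := by rw [ht, CfsgLib.Signalizer.orderOf_conj]; exact hF.bad.ord
  have htA : ¬ IsA A t := fun h => not_isA_of_bad hC hF.bad (by
    have := h.conj g⁻¹
    rwa [show g⁻¹ * (g * c * g⁻¹) * g⁻¹⁻¹ = c by group] at this)
  obtain ⟨b, hb, hb1⟩ := exists_ne_one_A hC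
  obtain ⟨k, hw, hwt, -⟩ := exists_witness hC ht2 (fun h => hg (pM_le_normalizer_W0 h)) htA hb hb1
  exact hg (cent_le_normalizer_W0 hC hA hF h4 hw (mem_centralizer_singleton_iff.2 hwt.eq.symm))

theorem oddCore_gY_eq_bot : Cfsg.oddCore (gY A) = ⊥ := by
  classical
  obtain ⟨hQ2, hAQ, -, hcQ, -⟩ := frame_Q_data hC hA hF
  set O := Cfsg.oddCore (gY A) with hO
  haveI : O.Normal := inferInstance
  set p : ↥(gX A) →* gY A := QuotientGroup.mk' _ with hp
  let pw : Qpart A c U → gY A := fun w => p ⟨w, Q_le_X hC hA hF w.2⟩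
  have hfree : ∀ w : Qpart A c U, w ≠ 1 → ∀ z ∈ O, pw w * z * (pw w)⁻¹ = z → z = 1 := by
    intro w hw z hz e
    have hw1 : (w : G) ≠ 1 := fun e => hw (Subtype.ext e)
    obtain ⟨x, rfl⟩ := QuotientGroup.mk'_surjective _ z
    set w' : ↥(gX A) := ⟨w, Q_le_X hC hA hF w.2⟩ with hw'
    have ha : (x : G) * w * (x : G)⁻¹ * (w : G)⁻¹ ∈ A := by
      refine mem_subgroupOf.1 ((QuotientGroup.eq_one_iff (x * w' * x⁻¹ * w'⁻¹)).1 ?_)
      show p (x * w' * x⁻¹ * w'⁻¹) = 1
      have e' : p w' * p x * (p w')⁻¹ = p x := e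
      rw [map_mul, map_mul, map_mul, map_inv, map_inv, ← mul_inv_eq_iff_eq_mul.1 e', mul_inv_cancel_right,
        mul_inv_cancel]
    obtain ⟨g, hg, hgw⟩ := frame_exists_value hC hA hF w.2 hw1 ha
    rw [inv_mul_cancel_right] at hgw
    have hyw : g⁻¹ * (x : G) * w = w * (g⁻¹ * x) := by
      calc g⁻¹ * (x : G) * w = g⁻¹ * ((x : G) * w * (x : G)⁻¹) * x := by group
        _ = g⁻¹ * (g * w * g⁻¹) * x := by rw [hgw]
        _ = _ := by group
    obtain ⟨-, hwb, hwA, -⟩ := frame_bad hC hA hF w.2 hw1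
    obtain ⟨K, k, T, hd⟩ := exists_blockData hC hwb hwA
    obtain ⟨v, hv, hvc⟩ := exists_top_mul_core hC hA hd (top_of_Q hC hA hF w.2 hw1)
      (x := g⁻¹ * x) (mem_centralizer_singleton_iff.2 hyw)
      (mul_mem (inv_mem (S_le_centralizer hC hA hg)) x.2)
    rw [core_eq_bad hC hwb, W0_eq_bot hC hA hF h4, bot_inf_eq, mem_bot, inv_mul_eq_one] at hvc
    have hxS : (x : G) ∈ (S : Subgroup G) := by
      have := mul_mem hg (hvc ▸ hF.le hv : g⁻¹ * (x : G) ∈ (S : Subgroup G))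
      rwa [mul_inv_cancel_left] at this
    obtain ⟨j, hj⟩ := exists_pow_two S.isPGroup' hxS
    have h1 : orderOf (p x) ∣ 2 ^ j := orderOf_dvd_of_pow_eq_one (by
      rw [← map_pow, show x ^ 2 ^ j = 1 from Subtype.ext hj, map_one])
    have h2 : Odd (orderOf (p x)) := (CfsgLib.ZStar.odd_card_oddCore _).of_dvd_nat (by
      rw [← Subgroup.orderOf_mk _ hz]; exact orderOf_dvd_natCard _)
    exact orderOf_eq_one_iff.1 ((Nat.Coprime.pow_right j (Nat.coprime_two_right.2 h2)).eq_one_of_dvd h1)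
  have hinv : ∀ w : Qpart A c U, w ≠ 1 → ∀ z ∈ O, pw w * z * (pw w)⁻¹ = z⁻¹ := by
    intro w hw z hz
    let φ : MulAut O := MulAut.conjNormal (pw w)
    have hφ : MonoidHom.FixedPointFree φ.toMonoidHom := fun v hv => Subtype.ext (hfree w hw v v.2 (by
      have := congrArg Subtype.val hv
      exact this))
    have h2 : Function.Involutive φ.toMonoidHom := fun v => Subtype.ext (by
      show pw w * (pw w * v * (pw w)⁻¹) * (pw w)⁻¹ = v
      rw [show pw w * (pw w * v * (pw w)⁻¹) * (pw w)⁻¹ = pw w ^ 2 * v * (pw w ^ 2)⁻¹ by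
        simp only [sq]; group]
      show p ⟨w, Q_le_X hC hA hF w.2⟩ ^ 2 * v * (p ⟨w, Q_le_X hC hA hF w.2⟩ ^ 2)⁻¹ = v
      rw [← map_pow, show (⟨w, Q_le_X hC hA hF w.2⟩ : ↥(gX A)) ^ 2 = 1 from Subtype.ext (hQ2 w w.2),
        map_one, one_mul, inv_one, mul_one])
    exact congrArg Subtype.val (congrFun (hφ.coe_eq_inv_of_involutive h2) ⟨z, hz⟩)
  obtain ⟨w, hw⟩ : ∃ w : Qpart A c U, w ≠ 1 ∧ w * ⟨c, hcQ⟩ ≠ 1 := by
    by_contra h
    push Not at h
    have : Nat.card (Qpart A c U) ≤ 2 := by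
      refine le_trans (Nat.card_le_card_of_injective (fun w : Qpart A c U => decide (w = 1)) ?_) (by simp)
      intro x y e
      by_cases hx : x = 1
      · simp [hx] at e; rw [hx, e]
      · have hy : y ≠ 1 := fun hy => hx (by simpa [hy] using e)
        exact mul_right_cancel ((h x hx).trans (h y hy).symm)
    omega
  refine (Subgroup.eq_bot_iff_forall _).2 fun z hz => ?_
  have e1 := hinv ⟨c, hcQ⟩ (fun e => involution_ne_one hF.bad.ord (congrArg Subtype.val e)) z hz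
  have e2 := hinv w hw.1 z⁻¹ (inv_mem hz)
  have e3 := hinv (w * ⟨c, hcQ⟩) hw.2 z hz
  rw [show pw (w * ⟨c, hcQ⟩) = pw w * pw ⟨c, hcQ⟩ by simp only [pw]; rw [← map_mul]; rfl,
    show pw w * pw ⟨c, hcQ⟩ * z * (pw w * pw ⟨c, hcQ⟩)⁻¹ =
      pw w * (pw ⟨c, hcQ⟩ * z * (pw ⟨c, hcQ⟩)⁻¹) * (pw w)⁻¹ by group, e1, e2, inv_inv] at e3
  have h2 : orderOf z ∣ 2 := orderOf_dvd_of_pow_eq_one (by rw [sq]; nth_rw 2 [e3]; rw [mul_inv_cancel])
  have hodd : Odd (orderOf z) := (CfsgLib.ZStar.odd_card_oddCore _).of_dvd_nat (by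
    rw [← Subgroup.orderOf_mk _ hz]; exact orderOf_dvd_natCard _)
  exact orderOf_eq_one_iff.1 ((Nat.coprime_two_right.2 hodd).eq_one_of_dvd h2)

/-- The base stabiliser normalises `S`. -/
theorem pM_le_normalizer_S (hDn : (gimg A (S : Subgroup G)).Normal) :
    pM A ≤ normalizer ((S : Subgroup G) : Set G) := by
  have hbot := oddCore_gY_eq_bot hC hA hF h4
  have hSX := S_le_centralizer hC hA
  have hXS : ∀ x ∈ gX A, x ∈ normalizer ((S : Subgroup G) : Set G) := by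
    intro x hx
    refine mem_normalizer_of_cj (eq_of_le_of_card_ge (cj_le_iff.2 fun s hs => ?_) (card_cj _ _).ge)
    set x' : ↥(gX A) := ⟨x, hx⟩ with hx'
    set s' : ↥(gX A) := ⟨s, hSX hs⟩ with hs'
    obtain ⟨t, ht, e⟩ := hDn.conj_mem _ (gimg_mem (x := s') hs) (gπ A x')
    have hz : gπ A (t⁻¹ * (x' * s' * x'⁻¹)) = 1 := by
      rw [map_mul, map_inv, e, map_mul, map_mul, map_inv, inv_mul_cancel]
    have h1 : QuotientGroup.mk' (A.subgroupOf (centralizer (A : Set G))) (t⁻¹ * (x' * s' * x'⁻¹)) ∈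
        Cfsg.oddCore (gY A) := (QuotientGroup.eq_one_iff _).1 hz
    rw [hbot, mem_bot] at h1
    have h2 : (t : G)⁻¹ * (x * s * x⁻¹) ∈ A := mem_subgroupOf.1 ((QuotientGroup.eq_one_iff _).1 h1)
    have := mul_mem (mem_subgroupOf.1 ht : (t : G) ∈ (S : Subgroup G)) (hC.pt.le h2)
    rwa [mul_inv_cancel_left] at this
  rw [pM, W0_eq_bot hC hA hF h4, sup_bot_eq]
  intro n hn
  have h1 : cj n (S : Subgroup G) ≤ gX A := by
    rintro _ ⟨s, hs, rfl⟩
    exact conj_mem_centralizer_A hn (hSX hs)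
  have hp : IsPGroup 2 (cj n (S : Subgroup G) : Subgroup G) := S.isPGroup'.map _
  have hN : cj n (S : Subgroup G) ≤ normalizer ((S : Subgroup G) : Set G) := fun x hx => hXS x (h1 hx)
  have hp2 : IsPGroup 2 ((S : Subgroup G) ⊔ cj n (S : Subgroup G) : Subgroup G) :=
    S.isPGroup'.to_sup_of_normal_left' hp hN
  have h2 : (S : Subgroup G) ⊔ cj n (S : Subgroup G) = (S : Subgroup G) := S.is_maximal' hp2 le_sup_left
  have h3 : cj n (S : Subgroup G) ≤ (S : Subgroup G) := le_sup_right.trans h2.le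
  exact mem_normalizer_of_cj (eq_of_le_of_card_ge h3 (card_cj _ _).ge)

end Four

end CfsgLib.ThreePrime.Block
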