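import Cfsg.Agent.Lib.ThreePrime.Block.Sylow
import Cfsg.Agent.Lib.Signalizer.Involutions

/-!
Owner: helper6.  Dihedral groups on an involution of `A` and one outside the base stabiliser.

* `exists_witness`: their central involution is bad
* `exists_component_form`: in the centraliser of the witness the outside involution is the witness times an
  involution of the component
* `exists_conj_mul`: every involution not of `A`-type is conjugate to some `a * c`
-/

set_option autoImplicit false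
set_option linter.all false

namespace CfsgLib.ThreePrime.Block

open Subgroup CfsgLib.Bender.Dichotomy CfsgLib.Signalizer

universe u

local instance factTwoBlockWitness : Fact (Nat.Prime 2) := ⟨Nat.prime_two⟩

variable {G : Type u} [Group G] [Finite G] {S : Sylow 2 G} {A : Subgroup G}

theorem pM_ne_top (hC : Ctx S A) : pM A ≠ ⊤ := by
  obtain ⟨c, hc, -⟩ := hC.ex
  exact fun h => hc.not_le (h ▸ le_top)

theorem exists_conj_not_mem {H : Subgroup G} (hs : IsSimpleGroup G) (hH : H ≠ ⊤) {t : G} (ht : t ≠ 1) :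
    ∃ g : G, g * t * g⁻¹ ∉ H := by
  by_contra h
  push Not at h
  haveI := hs
  have hle : normalClosure ({t} : Set G) ≤ H := by
    rw [normalClosure, closure_le]
    intro x hx
    obtain ⟨y, hy, hyx⟩ := Group.mem_conjugatesOfSet_iff.1 hx
    rw [Set.mem_singleton_iff] at hy
    obtain ⟨g, rfl⟩ := isConj_iff.1 hyx
    exact hy ▸ h g
  rcases IsSimpleGroup.eq_bot_or_eq_top_of_normal (normalClosure ({t} : Set G)) inferInstance with e | e
  · exact ht (mem_bot.1 (e ▸ subset_normalClosure (Set.mem_singleton t)))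
  · exact hH (top_le_iff.1 (e ▸ hle))

theorem exists_ne_one_A (hC : Ctx S A) : ∃ a ∈ A, a ≠ 1 := by
  have h8 := hC.pt.card
  have : Nontrivial A := Finite.one_lt_card_iff_nontrivial.1 (by omega)
  obtain ⟨⟨a, ha⟩, h⟩ := exists_ne (1 : A)
  exact ⟨a, ha, fun e => h (Subtype.ext e)⟩

theorem orderOf_A (hC : Ctx S A) {a : G} (ha : a ∈ A) (ha1 : a ≠ 1) : orderOf a = 2 :=
  orderOf_eq_two_of ha1 (exp_two hC ha)

theorem orderOf_isA (hC : Ctx S A) {x : G} (hx : IsA A x) : orderOf x = 2 := by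
  obtain ⟨g, a, ha, ha1, rfl⟩ := hx
  rw [CfsgLib.Signalizer.orderOf_conj, orderOf_A hC ha ha1]

/-- The central involution of the dihedral group on `t` and `b` is bad. -/
theorem exists_witness (hC : Ctx S A) {t b : G} (ht : orderOf t = 2) (htM : t ∉ pM A)
    (htA : ¬ IsA A t) (hb : b ∈ A) (hb1 : b ≠ 1) :
    ∃ k : ℕ, Bad A ((t * b) ^ k) ∧ Commute ((t * b) ^ k) t ∧ Commute ((t * b) ^ k) b := by
  have hb2 := orderOf_A hC hb hb1
  rcases Nat.even_or_odd (orderOf (t * b)) with he | ho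
  · obtain ⟨h1, h2, h3⟩ := central_involution ht hb2 he
    have hM : (t * b) ^ (orderOf (t * b) / 2) ∈ pM A :=
      hC.pt.cent b hb hb1 (mem_centralizer_singleton_iff.2 h3.eq)
    exact ⟨_, ⟨h1, hM, fun hle => htM (hle (mem_centralizer_singleton_iff.2 h2.eq.symm))⟩, h2, h3⟩
  · obtain ⟨d, -, hd⟩ := exists_conj_of_odd ht hb2 ho
    exact absurd ⟨d⁻¹, b, hb, hb1, by rw [← hd]; group⟩ htA

/-- An element of `A`-type of `C(c) ∩ pM` has the image of an element of `A`. -/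
theorem exists_image_A (hC : Ctx S A) {c : G} (hc : c ∈ centralizer (A : Set G)) (hB : BlockFacts A c)
    {b : ↥(cH c)} (hb : IsA A (b : G)) (hbM : (b : G) ∈ pM A) :
    ∃ a : ↥(cH c), (a : G) ∈ A ∧ (a : G) ≠ 1 ∧ cπ c b = cπ c a := by
  obtain ⟨m, hm, hmS⟩ := exists_conj_le_S hC (isPGroup_of_invol (orderOf_isA hC hb))
    (zpowers_le.2 hbM)
  have ha1 : m * (b : G) * m⁻¹ ∈ A := (hb.conj m).mem hC (hmS _ (mem_zpowers _))
  obtain ⟨n, hn, w, hw, e⟩ := exists_of_mem_pM (inv_mem hm)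
  set a1 := m * (b : G) * m⁻¹ with ha1'
  have hna : n * a1 * n⁻¹ ∈ A := (mem_normalizer_iff.1 hn _).1 ha1
  let a : ↥(cH c) := ⟨n * a1 * n⁻¹, A_le_cH hc hna⟩
  have hbe : (b : G) = n * (w * a1 * w⁻¹) * n⁻¹ := by
    calc (b : G) = m⁻¹ * a1 * m⁻¹⁻¹ := by rw [ha1']; group
      _ = _ := by rw [e]; group
  refine ⟨a, hna, fun h => ?_, ?_⟩
  · have h' : n * a1 * n⁻¹ = 1 := h
    rw [conj_eq_one_iff, ha1', conj_eq_one_iff] at h'
    have := orderOf_isA hC hb
    rw [h', orderOf_one] at this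
    omega
  · refine ((QuotientGroup.eq (s := Cfsg.oddCore ↥(cH c))).2 (mem_oddCore_iff.2 ?_)).symm
    rw [hB.core_eq]
    refine ⟨?_, (a⁻¹ * b).2⟩
    have hw' : a1⁻¹ * w * a1 * w⁻¹ ∈ W0 A := by
      refine mul_mem ?_ (inv_mem hw)
      have h := (mem_normalizer_iff.1 (normalizer_le_normalizer_W0 (le_normalizer (inv_mem ha1))) w).1 hw
      rwa [inv_inv] at h
    have h := (mem_normalizer_iff.1 (normalizer_le_normalizer_W0 hn) _).1 hw'
    show (n * a1 * n⁻¹)⁻¹ * (b : G) ∈ W0 A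
    rw [hbe]
    convert h using 1
    group

/-- Two involutions with the same image are conjugate by an element of the core. -/
theorem exists_conj_of_image {c : G} {x y : ↥(cH c)} (hx : orderOf (x : G) = 2)
    (hy : orderOf (y : G) = 2) (h : cπ c x = cπ c y) :
    ∃ r ∈ core c, r * (x : G) * r⁻¹ = y := by
  have hxy : (x : G) * y ∈ core c := by
    have h1 := mem_oddCore_iff.1 (QuotientGroup.eq.1 h)
    rw [Subgroup.coe_mul, Subgroup.coe_inv] at h1
    rwa [involution_inv hx] at h1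
  have hodd : Odd (orderOf ((x : G) * y)) := by
    refine (odd_core2 c).of_dvd_nat ?_
    rw [← Subgroup.orderOf_mk _ hxy]
    exact orderOf_dvd_natCard _
  obtain ⟨d, hd, hdx⟩ := exists_conj_of_odd hx hy hodd
  obtain ⟨k, rfl | rfl⟩ := (mem_closure_pair_iff hx hy).1 hd
  · exact ⟨_, zpow_mem hxy k, hdx⟩
  · refine ⟨_, zpow_mem hxy k, Eq.trans ?_ hdx⟩
    group

variable {c : G} {K : Subgroup (cQ c)} {m : ℕ} {T : Sylow 2 K}

theorem center_K (hd : BlockData A c K m T) : center K = ⊥ := by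
  haveI := hd.facts.simple
  refine (IsSimpleGroup.eq_bot_or_eq_top_of_normal (center K) inferInstance).resolve_right fun e => ?_
  obtain ⟨y', hy', hy2⟩ := exists_four hd.facts T
  have h4 := hd.facts.index T
  rw [index_eq_one.2 (eq_top_iff.2 fun k _ => le_normalizer (hd.facts.cent_invol T (y' ^ 2)
    (pow_mem hy' 2) (sq_sq hd.facts hy') hy2
    (mem_centralizer_singleton_iff.2 (mem_center_iff.1 (e ▸ mem_top (y' ^ 2)) k))))] at h4
  have : 0 < (2 ^ (2 * m + 1)) ^ 2 := by positivity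
  omega

theorem c_mem_cH (c : G) : c ∈ cH c := mem_centralizer_singleton_iff.2 rfl

theorem image_central (c : G) (z : cQ c) : cπ c ⟨c, c_mem_cH c⟩ * z = z * cπ c ⟨c, c_mem_cH c⟩ := by
  obtain ⟨y, rfl⟩ := QuotientGroup.mk'_surjective _ z
  rw [← map_mul, ← map_mul]
  exact congrArg _ (Subtype.ext (mem_centralizer_singleton_iff.1 y.2).symm)

theorem image_c_not_mem (hd : BlockData A c K m T) : cπ c ⟨c, c_mem_cH c⟩ ∉ K := by
  intro h
  have hc : (⟨_, h⟩ : K) ∈ center K := mem_center_iff.2 fun k => Subtype.ext (image_central c k).symm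
  rw [center_K hd, mem_bot] at hc
  have := eq_one_of_image (x := ⟨c, c_mem_cH c⟩) (k := 1) (by rw [pow_one]; exact sq_of_ord hd.bad.ord)
    (congrArg Subtype.val hc)
  exact involution_ne_one hd.bad.ord this

/-- In the centraliser of the witness, `t` is the witness times a component involution. -/
theorem exists_component_form (hC : Ctx S A) (hd : BlockData A c K m T) {t b : ↥(cH c)}
    (ht : orderOf (t : G) = 2) (htM : (t : G) ∉ pM A) (hb : IsA A (b : G)) (hbM : (b : G) ∈ pM A)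
    {k : ℕ} (hk : ((t : G) * b) ^ k = c) :
    ∃ s : K, s ^ 2 = 1 ∧ s ∉ normalizer ((T : Subgroup K) : Set K) ∧
      cπ c t = cπ c ⟨c, c_mem_cH c⟩ * s := by
  haveI := hd.normal
  obtain ⟨a, ha, -, hba⟩ := exists_image_A hC hd.cent hd.bf hb hbM
  set z := cπ c ⟨c, c_mem_cH c⟩ with hz
  have hzk : (cπ c t * cπ c b) ^ k = z := by
    rw [← map_mul, ← map_pow]
    exact congrArg _ (Subtype.ext hk)
  have hbK : cπ c b ∈ K := hba ▸ hd.Abar_le ⟨a, mem_subgroupOf.2 ha, rfl⟩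
  have ht2 : cπ c t ^ 2 = 1 := by
    rw [← map_pow, show t ^ 2 = 1 from Subtype.ext (sq_of_ord ht), map_one]
  have hq : ((z : cQ c) : cQ c ⧸ K) = (cπ c t : cQ c ⧸ K) ^ k := by
    rw [← hzk, QuotientGroup.mk_pow, QuotientGroup.mk_mul, (QuotientGroup.eq_one_iff (cπ c b)).2 hbK,
      mul_one]
  have hkodd : Odd k := by
    refine Nat.not_even_iff_odd.1 fun ⟨j, hj⟩ => image_c_not_mem hd ?_
    rw [← hz, ← QuotientGroup.eq_one_iff, hq, hj, ← two_mul, pow_mul, ← QuotientGroup.mk_pow, ht2,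
      QuotientGroup.mk_one, one_pow]
  obtain ⟨j, hj⟩ := hkodd
  rw [hj, pow_succ, pow_mul, ← QuotientGroup.mk_pow, ht2, QuotientGroup.mk_one, one_pow, one_mul] at hq
  have hs : z⁻¹ * cπ c t ∈ K := QuotientGroup.eq.1 hq
  have hz2 : z ^ 2 = 1 := by
    rw [hz, ← map_pow, show (⟨c, c_mem_cH c⟩ : ↥(cH c)) ^ 2 = 1 from
      Subtype.ext (sq_of_ord hd.bad.ord), map_one]
  refine ⟨⟨_, hs⟩, Subtype.ext ?_, fun h => htM ?_, (mul_inv_cancel_left _ _).symm⟩
  · rw [SubgroupClass.coe_pow]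
    show (z⁻¹ * cπ c t) ^ 2 = 1
    rw [(show Commute z (cπ c t) from image_central c _).inv_left.mul_pow, inv_pow, hz2, ht2, inv_one,
      one_mul]
  · refine mem_pM_of_image hd.bf ?_
    have := mul_mem (show z ∈ cimg c (pM A) from ⟨_, mem_subgroupOf.2 hd.bad.mem, rfl⟩)
      ((hd.stab ⟨_, hs⟩).2 h)
    rwa [mul_inv_cancel_left] at this

/-- An involution of the component is conjugate to the image of an element of `A`. -/
theorem exists_conj_Abar (hd : BlockData A c K m T) {s : K} (hs : s ^ 2 = 1) :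
    ∃ k : K, ∃ a : ↥(cH c), (a : G) ∈ A ∧ (k : cQ c)⁻¹ * s * k = cπ c a := by
  obtain ⟨T', hT'⟩ := exists_sylow hd.facts hs
  obtain ⟨k, hk⟩ := MulAction.exists_smul_eq K T T'
  have h := conj_mem_sylow (show k⁻¹ • T' = T by rw [← hk, inv_smul_smul]) hT'
  rw [inv_inv] at h
  obtain ⟨a, ha, e⟩ := (hd.omega (k⁻¹ * s * k)).2 ⟨h, by
    have e := conj_pow (i := 2) (a := k⁻¹) (b := s)
    rw [inv_inv] at e
    rw [e, hs, mul_one, inv_mul_cancel]⟩
  exact ⟨k, a, mem_subgroupOf.1 ha, e.symm⟩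

omit K T in
/-- Every involution not of `A`-type is conjugate to `a * c` with `c` bad centralising `A`. -/
theorem exists_conj_mul (hC : Ctx S A) {t : G} (ht : orderOf t = 2) (htA : ¬ IsA A t) :
    ∃ c, Bad A c ∧ c ∈ (S : Subgroup G) ∧ c ∈ centralizer (A : Set G) ∧
      ∃ a ∈ A, a ≠ 1 ∧ ∃ g : G, g * t * g⁻¹ = a * c := by
  obtain ⟨g0, hg0⟩ := exists_conj_not_mem hC.pt.hyp.simple (pM_ne_top hC) (involution_ne_one ht)
  obtain ⟨b, hb, hb1⟩ := exists_ne_one_A hC
  set t1 := g0 * t * g0⁻¹ with ht1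
  have ht12 : orderOf t1 = 2 := by rw [ht1, CfsgLib.Signalizer.orderOf_conj, ht]
  obtain ⟨k, hw, hwt, hwb⟩ := exists_witness hC ht12 hg0
    (fun h => htA (by have := h.conj g0⁻¹; rwa [ht1, inv_inv, ← mul_assoc, ← mul_assoc, inv_mul_cancel,
      one_mul, inv_mul_cancel_right] at this)) hb hb1
  obtain ⟨μ, hμ, hcS, hcb, hcA, -⟩ := exists_conj_bad hC hw
  set c := μ * (t1 * b) ^ k * μ⁻¹ with hc
  obtain ⟨K, m, T, hd⟩ := exists_blockData hC hcb hcA
  have hcomm : ∀ {z : G}, Commute ((t1 * b) ^ k) z → μ * z * μ⁻¹ ∈ cH c := fun {z} hz => by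
    rw [mem_centralizer_singleton_iff, hc]
    exact ((Commute.conj_iff μ).2 hz).eq.symm
  let t2 : ↥(cH c) := ⟨μ * t1 * μ⁻¹, hcomm hwt⟩
  let b2 : ↥(cH c) := ⟨μ * b * μ⁻¹, hcomm hwb⟩
  have ht22 : orderOf (t2 : G) = 2 := by rw [CfsgLib.Signalizer.orderOf_conj, ht12]
  have htM : (t2 : G) ∉ pM A := fun h => hg0 (by
    have := mul_mem (mul_mem (inv_mem hμ) h) hμ
    rwa [show μ⁻¹ * (μ * t1 * μ⁻¹) * μ = t1 by group] at this)
  obtain ⟨s, hs, hsN, hts⟩ := exists_component_form hC hd (b := b2) ht22 htM ((isA_of_mem hb hb1).conj μ)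
    (mul_mem (mul_mem hμ (mem_sup_left (le_normalizer hb))) (inv_mem hμ)) (k := k) (by
      show (μ * t1 * μ⁻¹ * (μ * b * μ⁻¹)) ^ k = c
      rw [show μ * t1 * μ⁻¹ * (μ * b * μ⁻¹) = μ * (t1 * b) * μ⁻¹ by group, conj_pow])
  obtain ⟨κ, a, ha, hκ⟩ := exists_conj_Abar hd hs
  obtain ⟨y, hy⟩ := QuotientGroup.mk'_surjective (Cfsg.oddCore ↥(cH c)) (κ : cQ c)
  have ha1 : (a : G) ≠ 1 := fun h => hsN (by
    rw [show a = 1 from Subtype.ext h, map_one] at hκ
    have : (s : cQ c) = 1 := by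
      have := congrArg (fun z => (κ : cQ c) * z * (κ : cQ c)⁻¹) hκ
      simpa [mul_assoc] using this
    rw [show s = 1 from Subtype.ext this]
    exact one_mem _)
  have hac : orderOf ((a : G) * c) = 2 := by
    refine orderOf_eq_two_of (fun h => ?_) ?_
    · exact not_isA_of_bad hC hcb
        (by rw [show c = ((a : G))⁻¹ from (inv_eq_of_mul_eq_one_right h).symm,
          involution_inv (orderOf_A hC ha ha1)]; exact isA_of_mem ha ha1)
    · have hcomm' : (a : G) * c = c * a := mem_centralizer_iff.1 hcA a ha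
      rw [mul_assoc, ← mul_assoc c, ← hcomm', mul_assoc (a : G) c c, involution_sq hcb.ord, mul_one,
        exp_two hC ha]
  let x : ↥(cH c) := y⁻¹ * t2 * y
  let ac : ↥(cH c) := a * ⟨c, c_mem_cH c⟩
  have himg : cπ c x = cπ c ac := by
    show cπ c (y⁻¹ * t2 * y) = cπ c (a * _)
    rw [map_mul, map_mul, map_inv, hy, hts, map_mul, ← mul_assoc, ← hκ, ← image_central c (κ : cQ c)⁻¹,
      ← image_central c ((κ : cQ c)⁻¹ * s * κ)]
    simp only [mul_assoc]
  obtain ⟨r, -, hr⟩ := exists_conj_of_image (x := x) (y := ac) (by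
    show orderOf ((y : G)⁻¹ * (t2 : G) * y) = 2
    have := CfsgLib.Signalizer.orderOf_conj ((y : G)⁻¹) (t2 : G)
    rw [inv_inv] at this
    rw [this, ht22]) hac himg
  refine ⟨c, hcb, hcS, hcA, a, ha, ha1, r * (y : G)⁻¹ * μ * g0, ?_⟩
  rw [show ((ac : ↥(cH c)) : G) = (a : G) * c from rfl] at hr
  rw [← hr]
  show _ = r * ((y : G)⁻¹ * (μ * (g0 * t * g0⁻¹) * μ⁻¹) * y) * r⁻¹
  group

end CfsgLib.ThreePrime.Block
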